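import Groth.Agent.DRing.KFlatRes
import Groth.Agent.DRing.SingleTensor
import Groth.Agent.LenLib.Index
import Mathlib.Algebra.Homology.Embedding.CochainComplex
import Mathlib.Algebra.Homology.SingleHomology
import Mathlib.Data.Int.Interval

/-!
# Euler characteristics of complexes with homology of finite length
-/

set_option autoImplicit false
set_option linter.style.haveILetI false

universe u

open CategoryTheory CategoryTheory.Limits MonoidalCategory HomologicalComplex

namespace Groth.Agent.IntMult66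

open DRing.Tensor DRing.KFlat DRing.SingleTensor LenLib

variable {A : Type u} [CommRing A]

/-- The sign `(-1)^i` as an integer. -/
noncomputable def eps (i : ℤ) : ℤ := ((i.negOnePow : ℤˣ) : ℤ)

theorem eps_succ (i : ℤ) : eps (i + 1) = - eps i := by
  simp [eps, Int.negOnePow_succ]

theorem eps_natCast (q : ℕ) : eps (-(q : ℤ)) = (-1 : ℤ) ^ q := by
  rw [eps, Int.negOnePow_neg]
  induction q with
  | zero => simp
  | succ k ih => push_cast; rw [Int.negOnePow_succ, Units.val_neg, ih, pow_succ]; ring

/-- Homology of finite length, in finitely many degrees. -/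
def HFin (K : CochainComplex (ModuleCat.{u} A) ℤ) : Prop :=
  (∀ i, Module.length A (K.homology i) ≠ ⊤) ∧ {i : ℤ | ¬ IsZero (K.homology i)}.Finite

/-- The Euler characteristic of the homology. -/
noncomputable def eul (K : CochainComplex (ModuleCat.{u} A) ℤ) : ℤ :=
  ∑ᶠ i : ℤ, eps i * lenZ A (K.homology i)

theorem lenZ_isZero {M : ModuleCat.{u} A} (h : IsZero M) : lenZ A M = 0 := by
  haveI := ModuleCat.subsingleton_of_isZero h
  simp [lenZ, Module.length_eq_zero]

theorem HFin.support_subset {K : CochainComplex (ModuleCat.{u} A) ℤ} (h : HFin K) (ε : ℤ → ℤ) :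
    (Function.support fun i => ε i * lenZ A (K.homology i)).Finite := by
  refine h.2.subset fun i hi => ?_
  intro hz
  exact hi (by simp [lenZ_isZero hz])

variable {K L : CochainComplex (ModuleCat.{u} A) ℤ}

theorem HFin.of_homologyIso (e : ∀ i, K.homology i ≅ L.homology i) (h : HFin K) : HFin L :=
  ⟨fun i => by rw [← (e i).toLinearEquiv.length_eq]; exact h.1 i,
    h.2.subset fun i hi hz => hi (hz.of_iso (e i).symm)⟩

theorem eul_congr (e : ∀ i, K.homology i ≅ L.homology i) : eul K = eul L :=
  finsum_congr fun i => by rw [lenZ_congr (e i).toLinearEquiv]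

/-- Homology isomorphisms of a quasi-isomorphism. -/
noncomputable def qisIso (f : K ⟶ L) [QuasiIso f] (i : ℤ) : K.homology i ≅ L.homology i :=
  asIso (homologyMap f i)

theorem hfin_acyclic (h : ∀ i, IsZero (K.homology i)) : HFin K ∧ eul K = 0 := by
  refine ⟨⟨fun i => ?_, Set.finite_empty.subset fun i hi => hi (h i)⟩,
    finsum_eq_zero_of_forall_eq_zero fun i => by simp [lenZ_isZero (h i)]⟩
  haveI := ModuleCat.subsingleton_of_isZero (h i)
  simp [Module.length_eq_zero]

/-- Additivity along a short exact sequence. -/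
theorem eul_add {S : ShortComplex (CochainComplex (ModuleCat.{u} A) ℤ)} (hS : S.ShortExact)
    (h₁ : HFin S.X₁) (h₃ : HFin S.X₃) :
    HFin S.X₂ ∧ eul S.X₂ = eul S.X₁ + eul S.X₃ := by
  classical
  let f := fun i => (homologyMap S.f i).hom
  let g := fun i => (homologyMap S.g i).hom
  let δ := fun i : ℤ => (hS.δ i (i + 1) (by simp)).hom
  have e₂ : ∀ i, Function.Exact (f i) (g i) := fun i =>
    (ShortComplex.ShortExact.moduleCat_exact_iff_function_exact _).1 (hS.homology_exact₂ i)
  have e₃ : ∀ i, Function.Exact (g i) (δ i) := fun i =>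
    (ShortComplex.ShortExact.moduleCat_exact_iff_function_exact _).1
      (hS.homology_exact₃ i (i + 1) (by simp))
  have e₁ : ∀ i, Function.Exact (δ i) (f (i + 1)) := fun i =>
    (ShortComplex.ShortExact.moduleCat_exact_iff_function_exact _).1
      (hS.homology_exact₁ i (i + 1) (by simp))
  have hfin : ∀ i, Module.length A (S.X₂.homology i) ≠ ⊤ := fun i =>
    length_ne_top_of_exact (e₂ i) (h₁.1 i) (h₃.1 i)
  have hset : {i : ℤ | ¬ IsZero (S.X₂.homology i)}.Finite := by
    refine (h₁.2.union h₃.2).subset fun i hi => ?_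
    by_contra hc
    simp only [Set.mem_union, Set.mem_setOf_eq, not_or, not_not] at hc
    exact hi ((hS.homology_exact₂ i).isZero_of_both_zeros (hc.1.eq_of_src _ _) (hc.2.eq_of_tgt _ _))
  refine ⟨⟨hfin, hset⟩, ?_⟩
  let t : ℤ → ℤ := fun i => lenZ A (LinearMap.range (δ i))
  have hpt : ∀ i, lenZ A (S.X₂.homology (i + 1)) + (t i + t (i + 1)) =
      lenZ A (S.X₁.homology (i + 1)) + lenZ A (S.X₃.homology (i + 1)) := by
    intro i
    rw [lenZ_eq_range_add (e₂ (i + 1)) (hfin _), lenZ_eq_range_add (e₁ i) (h₁.1 _),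
      lenZ_eq_range_add (e₃ (i + 1)) (h₃.1 _)]
    ring
  have ht : (Function.support fun i => eps i * t i).Finite := by
    refine h₃.2.subset fun i hi hz => hi ?_
    have : t i = 0 := by
      haveI := ModuleCat.subsingleton_of_isZero hz
      haveI : Subsingleton (LinearMap.range (δ i)) :=
        (δ i).surjective_rangeRestrict.subsingleton
      simp [t, lenZ, Module.length_eq_zero]
    simp [this]
  have ht' : (Function.support fun i => eps i * t (i - 1)).Finite := by
    refine (ht.image (· + 1)).subset fun i hi => ⟨i - 1, fun h0 => hi ?_, by simp⟩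
    have h0' : t (i - 1) = 0 := by
      rcases mul_eq_zero.1 h0 with h | h
      · exact absurd h (Units.ne_zero _)
      · exact h
    simp [h0']
  have hsum : ∑ᶠ i, eps i * t (i - 1) = - ∑ᶠ i, eps i * t i := by
    rw [← finsum_comp_equiv (Equiv.addRight (1 : ℤ)), ← finsum_neg_distrib]
    exact finsum_congr fun i => by simp [eps_succ]
  have hsupp := fun (X : CochainComplex (ModuleCat.{u} A) ℤ) (hX : HFin X) => hX.support_subset eps
  have key : eul S.X₂ + (∑ᶠ i, eps i * t (i - 1) + ∑ᶠ i, eps i * t i) = eul S.X₁ + eul S.X₃ := by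
    unfold eul
    rw [← finsum_add_distrib ht' ht, ← finsum_add_distrib (hsupp _ ⟨hfin, hset⟩),
      ← finsum_add_distrib (hsupp _ h₁) (hsupp _ h₃)]
    · refine finsum_congr fun i => ?_
      have := hpt (i - 1)
      rw [sub_add_cancel] at this
      rw [← mul_add, ← mul_add, ← mul_add, this]
    · refine (ht'.union ht).subset fun i hi => ?_
      by_contra hc
      simp only [Set.mem_union, Function.mem_support, not_or, not_not] at hc
      exact hi (by simp [hc.1, hc.2])
  rw [hsum, neg_add_cancel, add_zero] at key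
  exact key

/-- Shifting. -/
theorem eul_shift (K : CochainComplex (ModuleCat.{u} A) ℤ) (a : ℤ) (h : HFin K) :
    HFin (K⟦a⟧) ∧ eul (K⟦a⟧) = eps a * eul K := by
  have e : ∀ i, (K⟦a⟧).homology i ≅ K.homology (a + i) := fun i =>
    (CochainComplex.ShiftSequence.shiftIso (ModuleCat.{u} A) a i (a + i) rfl).app K
  refine ⟨⟨fun i => by rw [(e i).toLinearEquiv.length_eq]; exact h.1 _,
    (h.2.image (· - a)).subset fun i hi => ⟨a + i, fun hz => hi (hz.of_iso (e i)), by simp⟩⟩, ?_⟩
  unfold eul
  rw [mul_finsum' _ _ (h.support_subset eps)]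
  conv_rhs => rw [← finsum_comp_equiv (Equiv.addLeft a)]
  refine finsum_congr fun i => ?_
  rw [lenZ_congr (e i).toLinearEquiv]
  simp only [Equiv.coe_addLeft, eps, Int.negOnePow_add, Units.val_mul]
  rw [← mul_assoc, ← mul_assoc, ← Units.val_mul, Int.units_mul_self, Units.val_one, one_mul]
  rfl

section Tensor

variable (P : CochainComplex (ModuleCat.{u} A) ℤ) (hP : IsKFlat P)

/-- `P ⊗ M[0]`. -/
noncomputable abbrev TS (M : ModuleCat.{u} A) : CochainComplex (ModuleCat.{u} A) ℤ :=
  (CochainComplex.singleFunctor (ModuleCat.{u} A) 0 ⋙ TL P).obj M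

include hP

theorem isZero_TS {M : ModuleCat.{u} A} (hM : IsZero M) (i : ℤ) : IsZero ((TS P M).homology i) := by
  refine hP.isZero_homology_left (fun j => ?_) i
  rw [← exactAt_iff_isZero_homology]
  by_cases hj : j = 0
  · subst hj
    rw [exactAt_iff_isZero_homology]
    exact hM.of_iso (singleObjHomologySelfIso _ _ M)
  · exact exactAt_single_obj _ 0 M j hj

/-- A complex with homology in one degree. -/
theorem eul_tensor_single (C : CochainComplex (ModuleCat.{u} A) ℤ) (a : ℤ)
    (hC : ∀ j, j ≠ a → IsZero (C.homology j)) (hfin : HFin (TS P (C.homology a))) :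
    HFin (P ⊗ C) ∧ eul (P ⊗ C) = eps a * eul (TS P (C.homology a)) := by
  haveI : C.IsGE a := by
    rw [CochainComplex.isGE_iff]
    exact fun i hi => (exactAt_iff_isZero_homology _ _).2 (hC i hi.ne)
  haveI : C.IsLE a := by
    rw [CochainComplex.isLE_iff]
    exact fun i hi => (exactAt_iff_isZero_homology _ _).2 (hC i hi.ne')
  let D := C.truncGE a
  haveI : QuasiIso (C.πTruncGE a) := (CochainComplex.quasiIso_πTruncGE_iff C a).2 inferInstance
  haveI : D.IsLE a := by
    rw [CochainComplex.isLE_iff]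
    intro i hi
    rw [exactAt_iff_isZero_homology]
    exact (hC i hi.ne').of_iso (qisIso (C.πTruncGE a) i).symm
  haveI : QuasiIso (D.ιTruncLE a) := (CochainComplex.quasiIso_ιTruncLE_iff D a).2 inferInstance
  obtain ⟨W, ⟨eW⟩⟩ := CochainComplex.exists_iso_single (D.truncLE a) a
  have hW : C.homology a ≅ W :=
    qisIso (C.πTruncGE a) a ≪≫ (qisIso (D.ιTruncLE a) a).symm ≪≫
      (homologyFunctor _ _ a).mapIso eW ≪≫ singleObjHomologySelfIso _ _ W
  let eS : (CochainComplex.singleFunctor (ModuleCat.{u} A) a).obj W ≅ (S0 W)⟦-a⟧ :=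
    (((CochainComplex.singleFunctors (ModuleCat.{u} A)).shiftIso (-a) a 0 (by simp)).app W).symm
  let eT : P ⊗ (CochainComplex.singleFunctor (ModuleCat.{u} A) a).obj W ≅ (TS P W)⟦-a⟧ :=
    (TL P).mapIso eS ≪≫ shiftIso P (S0 W) (-a)
  haveI := quasiIso_whiskerLeft hP (C.πTruncGE a)
  haveI := quasiIso_whiskerLeft hP (D.ιTruncLE a)
  let eH : ∀ i, ((TS P W)⟦-a⟧).homology i ≅ (P ⊗ C).homology i := fun i =>
    ((homologyFunctor _ _ i).mapIso eT).symm ≪≫ ((homologyFunctor _ _ i).mapIso ((TL P).mapIso eW)).symm ≪≫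
      qisIso (P ◁ D.ιTruncLE a) i ≪≫ (qisIso (P ◁ C.πTruncGE a) i).symm
  let eW' : TS P (C.homology a) ≅ TS P W := (CochainComplex.singleFunctor (ModuleCat.{u} A) 0 ⋙ TL P).mapIso hW
  have hfW : HFin (TS P W) := hfin.of_homologyIso fun i => (homologyFunctor _ _ i).mapIso eW'
  obtain ⟨h1, h2⟩ := eul_shift _ (-a) hfW
  refine ⟨h1.of_homologyIso eH, ?_⟩
  rw [← eul_congr eH, h2, ← eul_congr fun i => (homologyFunctor _ _ i).mapIso eW']
  simp [eps, Int.negOnePow_neg]

variable (hflat : ∀ i, Module.Flat A (P.X i))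

include hflat in
/-- The Euler characteristic of `P ⊗ C` through the homology of `C`. -/
theorem eul_tensor (C : CochainComplex (ModuleCat.{u} A) ℤ) (a : ℤ) (n : ℕ)
    (hC : ∀ j, (j < a ∨ a + n < j) → IsZero (C.homology j))
    (hfin : ∀ j, HFin (TS P (C.homology j))) :
    HFin (P ⊗ C) ∧ eul (P ⊗ C) = ∑ᶠ j, eps j * eul (TS P (C.homology j)) := by
  induction n generalizing C a with
  | zero =>
    have hC' : ∀ j, j ≠ a → IsZero (C.homology j) := fun j hj => hC j (by push_cast; omega)
    obtain ⟨h1, h2⟩ := eul_tensor_single P hP C a hC' (hfin a)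
    refine ⟨h1, h2.trans (finsum_eq_single (fun j => eps j * eul (TS P (C.homology j))) a fun j hj => ?_).symm⟩
    show eps j * _ = 0
    rw [(hfin_acyclic (isZero_TS P hP (hC' j hj))).2, mul_zero]
  | succ n ih =>
    let S := C.shortComplexTruncLE a
    have hS : S.ShortExact := CochainComplex.shortComplexTruncLE_shortExact C a
    have hlow : ∀ j, a < j → IsZero (S.X₁.homology j) := fun j hj => by
      show IsZero ((C.truncLE a).homology j)
      rw [← exactAt_iff_isZero_homology]
      exact CochainComplex.exactAt_of_isLE _ a j hj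
    have hf : ∀ j, j ≤ a → IsIso (homologyMap (C.ιTruncLE a) j) := fun j hj => by
      have := (quasiIsoAt_iff_isIso_homologyMap (C.ιTruncLE a) j).1
      obtain ⟨k, hk⟩ : ∃ k : ℕ, (ComplexShape.embeddingUpIntLE a).f k = j :=
        ⟨(a - j).toNat, by simp; omega⟩
      exact this (quasiIsoAt_ιTruncLE C (ComplexShape.embeddingUpIntLE a) hk)
    have hhigh : ∀ j, j ≤ a → IsZero (S.X₃.homology j) := fun j hj => by
      rw [← exactAt_iff_isZero_homology]
      have := (C.shortComplexTruncLE_X₃_isSupportedOutside (ComplexShape.embeddingUpIntLE a)).exactAt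
      obtain ⟨k, hk⟩ : ∃ k : ℕ, (ComplexShape.embeddingUpIntLE a).f k = j :=
        ⟨(a - j).toNat, by simp; omega⟩
      exact hk ▸ this k
    have hiso : ∀ j, a < j → @Iso (ModuleCat.{u} A) _ (C.homology j) (S.X₃.homology j) := fun j hj =>
      @asIso _ _ _ _ (homologyMap S.g j) (isIso_homologyMap_shortComplexTruncLE_g C
        (ComplexShape.embeddingUpIntLE a) j (fun k => by simp; omega))
    have hfT : ∀ (X Y : ModuleCat.{u} A), (X ≅ Y) → HFin (TS P X) → HFin (TS P Y) ∧
        eul (TS P X) = eul (TS P Y) := fun X Y e hX => by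
      let e' := (CochainComplex.singleFunctor (ModuleCat.{u} A) 0 ⋙ TL P).mapIso e
      exact ⟨hX.of_homologyIso fun i => (homologyFunctor _ _ i).mapIso e',
        eul_congr fun i => (homologyFunctor _ _ i).mapIso e'⟩
    have v₁ : ∀ j, (j ≤ a → HFin (TS P (S.X₁.homology j)) ∧
        eul (TS P (S.X₁.homology j)) = eul (TS P (C.homology j))) := fun j hj => by
      haveI : IsIso (homologyMap S.f j) := hf j hj
      obtain ⟨h, h'⟩ := hfT _ _ (asIso (homologyMap S.f j)).symm (hfin j)
      exact ⟨h, h'.symm⟩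
    have f₁ : ∀ j, HFin (TS P (S.X₁.homology j)) := fun j => by
      by_cases hj : j ≤ a
      · exact (v₁ j hj).1
      · exact (hfin_acyclic (isZero_TS P hP (hlow j (by omega)))).1
    have f₃ : ∀ j, HFin (TS P (S.X₃.homology j)) := fun j => by
      by_cases hj : j ≤ a
      · exact (hfin_acyclic (isZero_TS P hP (hhigh j hj))).1
      · exact (hfT _ _ (hiso j (by omega)) (hfin j)).1
    have hC₁ : ∀ j, j ≠ a → IsZero (S.X₁.homology j) := fun j hj => by
      rcases lt_or_gt_of_ne hj with h | h
      · exact (hC j (Or.inl h)).of_iso (@asIso _ _ _ _ (homologyMap S.f j) (hf j h.le))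
      · exact hlow j h
    obtain ⟨a₁, b₁⟩ := eul_tensor_single P hP S.X₁ a hC₁ (f₁ a)
    obtain ⟨a₃, b₃⟩ := ih S.X₃ (a + 1) (fun j hj => by
      by_cases hja : j ≤ a
      · exact hhigh j hja
      · exact (hC j (by push_cast; omega)).of_iso (hiso j (by omega)).symm) f₃
    let T : ShortComplex (CochainComplex (ModuleCat.{u} A) ℤ) := S.map (TL P)
    have hT : T.ShortExact := shortExact_map (L := P) S hS fun p q => by
      haveI := hflat p
      exact Module.Flat.lTensor_preserves_injective_linearMap (M := P.X p) (S.f.f q).hom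
        (hS.map_of_exact (HomologicalComplex.eval (ModuleCat.{u} A) (.up ℤ) q)).moduleCat_injective_f
    obtain ⟨a₂, b₂⟩ := eul_add hT a₁ a₃
    refine ⟨a₂, ?_⟩
    have hsupp : ∀ (X : CochainComplex (ModuleCat.{u} A) ℤ) (b : ℤ) (m : ℕ),
        (∀ j, (j < b ∨ b + m < j) → IsZero (X.homology j)) →
        (Function.support fun j => eps j * eul (TS P (X.homology j))).Finite := fun X b m hX => by
      refine (Set.finite_Icc b (b + m)).subset fun j hj => ?_
      by_contra hc
      rw [Set.mem_Icc, not_and_or, not_le, not_le] at hc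
      refine hj ?_
      show eps j * _ = 0
      rw [(hfin_acyclic (isZero_TS P hP (hX j hc))).2, mul_zero]
    have hb₁ : eps a * eul (TS P (S.X₁.homology a)) = ∑ᶠ j, eps j * eul (TS P (S.X₁.homology j)) :=
      (finsum_eq_single (fun j => eps j * eul (TS P (S.X₁.homology j))) a fun j hj => by
        show eps j * _ = 0
        rw [(hfin_acyclic (isZero_TS P hP (hC₁ j hj))).2, mul_zero]).symm
    rw [show eul (P ⊗ C) = eul T.X₂ from rfl, b₂, show eul T.X₁ = eul (P ⊗ S.X₁) from rfl,
      show eul T.X₃ = eul (P ⊗ S.X₃) from rfl, b₁, b₃, hb₁,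
      ← finsum_add_distrib (hsupp _ a 0 fun j hj => hC₁ j (by push_cast at hj; omega))
        (hsupp _ (a + 1) n fun j hj => ?_)]
    · refine finsum_congr fun j => ?_
      by_cases hj : j ≤ a
      · rw [(hfin_acyclic (isZero_TS P hP (hhigh j hj))).2, (v₁ j hj).2]
        ring
      · rw [(hfin_acyclic (isZero_TS P hP (hlow j (by omega)))).2,
          ← (hfT _ _ (hiso j (by omega)) (hfin j)).2]
        ring
    · by_cases hja : j ≤ a
      · exact hhigh j hja
      · exact (hC j (by push_cast; omega)).of_iso (hiso j (by omega)).symm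

end Tensor

end Groth.Agent.IntMult66
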