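import Groth.Agent.IntMult66.Devissage
import Groth.Agent.IntMult66.Euler
import Groth.Agent.HTor95.Tor
import Groth.Agent.EtMilLib.TorSeq

/-!
# Associativity of the Tor formula
-/

set_option autoImplicit false
set_option linter.style.haveILetI false
set_option maxSynthPendingDepth 3

universe u

open CategoryTheory CategoryTheory.Limits MonoidalCategory
open scoped TensorProduct

namespace Groth.Agent.IntMult66

open DRing.Tensor DRing.KFlat DRing.SingleTensor HTor95.Tor LenLib

variable (K R : Type u) [Field K] [IsAlgClosed K] [CommRing R] [Algebra K R] [Algebra.Smooth K R]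
  (p : Ideal R) [p.IsPrime] (A : Type u) [CommRing A] [Algebra R A] [IsLocalization.AtPrime A p]
  [IsLocalRing A]

include K R p in
/-- Lengths of `Tor` for modules meeting in finite length. -/
theorem tor_finite (N : Type u) [AddCommGroup N] [Module A N] [Module.Finite A N]
    (M : Type u) [AddCommGroup M] [Module A M] [Module.Finite A M]
    (hfl : Module.length A (N ⊗[A] M) ≠ ⊤) :
    ∃ D : ℕ, ∀ i : ℕ, Module.length A (_root_.DRing.Tor A i N M) ≠ ⊤ ∧
      (D < i → Subsingleton (_root_.DRing.Tor A i N M)) := by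
  letI : Algebra (RR R) A := inferInstanceAs (Algebra R A)
  haveI : IsCopy R A := ⟨fun _ => rfl⟩
  letI : Module (RR R) N := Module.compHom N (algebraMap (RR R) A)
  haveI : IsScalarTower (RR R) A N := IsScalarTower.of_algebraMap_smul fun _ _ => rfl
  haveI := isRegularLocalRing_localization K R p A
  haveI := smooth_tensor K R
  haveI : IsRegularLocalRing (DB K R p) :=
    isRegularLocalRing_localization K (R ⊗[K] RR R) (dq K R p) (DB K R p)
  haveI := flat_DL K R p A N
  obtain ⟨l, d, r, -, -, -, -, hl, hI⟩ := exists_seq K R p A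
  haveI := finite_E K R p A N M
  have hp := prim_E K R p A N M l hI hfl
  let eA : (DB K R p ⧸ Ideal.ofList l) ≃ₗ[DB K R p] A := (Submodule.quotEquivOfEq (Ideal.ofList l)
      (LinearMap.ker (Algebra.linearMap (DB K R p) A)) hI) ≪≫ₗ
      LinearMap.quotKerEquivOfSurjective (Algebra.linearMap (DB K R p) A)
        (surjective_algebraMap (A := A) (B := DB K R p))
  have key : ∀ i : ℕ, Module.length A (_root_.DRing.Tor A i N M) =
      Module.length (DB K R p) (KosEuler.H l (DL K R p N ⊗[A] M) (-(i : ℤ))) := fun i => by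
    rw [← length_tor_eq (DL K R p N) N (diagEquiv K R p A N) (subsingleton_tor_DL K R p A N) i M,
      IntMult88.length_tor_comm, length_tor_congr_right _ eA.symm, IntMult88.length_tor_comm]
    cases i with
    | zero => rw [KosTor.length_tor_zero, Nat.cast_zero, neg_zero]
    | succ k => rw [KosTor.length_tor_succ l hl _ k]
  refine ⟨l.length, fun i => ⟨by rw [key i]; exact hp.length_ne_top _, fun hi => ?_⟩⟩
  rw [← Module.length_eq_zero_iff (R := A), key i, KosEuler.length_H_eq_zero l _ _ (by omega)]

include K R p in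
/-- `Tor` vanishes in high degree. -/
theorem tor_top (N : Type u) [AddCommGroup N] [Module A N] [Module.Finite A N]
    (M : Type u) [AddCommGroup M] [Module A M] [Module.Finite A M] :
    ∃ D : ℕ, ∀ i : ℕ, D < i → Subsingleton (_root_.DRing.Tor A i N M) := by
  letI : Algebra (RR R) A := inferInstanceAs (Algebra R A)
  haveI : IsCopy R A := ⟨fun _ => rfl⟩
  letI : Module (RR R) N := Module.compHom N (algebraMap (RR R) A)
  haveI : IsScalarTower (RR R) A N := IsScalarTower.of_algebraMap_smul fun _ _ => rfl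
  haveI := isRegularLocalRing_localization K R p A
  haveI := smooth_tensor K R
  haveI : IsRegularLocalRing (DB K R p) :=
    isRegularLocalRing_localization K (R ⊗[K] RR R) (dq K R p) (DB K R p)
  haveI := flat_DL K R p A N
  obtain ⟨l, d, r, -, -, -, -, hl, hI⟩ := exists_seq K R p A
  let eA : (DB K R p ⧸ Ideal.ofList l) ≃ₗ[DB K R p] A := (Submodule.quotEquivOfEq (Ideal.ofList l)
      (LinearMap.ker (Algebra.linearMap (DB K R p) A)) hI) ≪≫ₗ
      LinearMap.quotKerEquivOfSurjective (Algebra.linearMap (DB K R p) A)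
        (surjective_algebraMap (A := A) (B := DB K R p))
  refine ⟨l.length, fun i hi => ?_⟩
  rw [← Module.length_eq_zero_iff (R := A),
    ← length_tor_eq (DL K R p N) N (diagEquiv K R p A N) (subsingleton_tor_DL K R p A N) i M,
    IntMult88.length_tor_comm, length_tor_congr_right _ eA.symm, IntMult88.length_tor_comm]
  obtain ⟨k, rfl⟩ : ∃ k, i = k + 1 := ⟨i - 1, by omega⟩
  rw [KosTor.length_tor_succ l hl _ k, KosEuler.length_H_eq_zero l _ _ (by omega)]

variable {A}

/-- `P ⊗ W[0]` computes `Tor(M, W)`. -/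
theorem hfin_TS {M : ModuleCat.{u} A} (P : ProjectiveResolution M) (W : ModuleCat.{u} A)
    (h : ∃ D : ℕ, ∀ i : ℕ, Module.length A (_root_.DRing.Tor A i M W) ≠ ⊤ ∧
      (D < i → Subsingleton (_root_.DRing.Tor A i M W))) :
    HFin (TS P.cochainComplex W) ∧ eul (TS P.cochainComplex W) = IntMult.chi A M W := by
  obtain ⟨D, hD⟩ := h
  let X := TS P.cochainComplex W
  let e : ∀ n : ℕ, ((CategoryTheory.Tor (ModuleCat.{u} A) n).obj M).obj W ≅ X.homology (-(n : ℤ)) :=
    fun n => (objIso P n).app W
  have hpos : ∀ i : ℤ, 0 < i → IsZero (X.homology i) := fun i hi => by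
    refine IsZero.of_iso ?_ ((HomologicalComplex.homologyFunctor _ _ i).mapIso
      ((EtMilLib.tensorCxFIso P.cochainComplex).app W)).symm
    show IsZero (((tensorCxF P.cochainComplex).obj W).homology i)
    rw [← HomologicalComplex.exactAt_iff_isZero_homology]
    exact ShortComplex.exact_of_isZero_X₂ _ (Functor.map_isZero ((tensoringRight (ModuleCat.{u} A)).obj _)
      (CochainComplex.isZero_of_isStrictlyLE P.cochainComplex 0 i hi))
  have hfin : HFin X := by
    refine ⟨fun i => ?_, (Set.finite_Icc (-(D : ℤ)) 0).subset fun i hi => ?_⟩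
    · by_cases h0 : 0 < i
      · haveI := ModuleCat.subsingleton_of_isZero (hpos i h0)
        simp [Module.length_eq_zero]
      · obtain ⟨n, rfl⟩ : ∃ n : ℕ, i = -(n : ℤ) := ⟨(-i).toNat, by omega⟩
        rw [← (e n).toLinearEquiv.length_eq]
        exact (hD n).1
    · refine Set.mem_Icc.2 ⟨?_, ?_⟩
      · by_contra hlt
        obtain ⟨n, rfl⟩ : ∃ n : ℕ, i = -(n : ℤ) := ⟨(-i).toNat, by omega⟩
        haveI := (hD n).2 (by omega)
        exact hi ((ModuleCat.isZero_of_subsingleton _).of_iso (e n).symm)
      · by_contra hgt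
        exact hi (hpos i (by omega))
  refine ⟨hfin, ?_⟩
  have hsupp : (Function.support fun i : ℤ => eps i * lenZ A (X.homology i)) ⊆
      Set.range (fun k : ℕ => -(k : ℤ)) := fun i hi => by
    by_contra hne
    exact hi (by simp [lenZ_isZero (hpos i (by
      by_contra h0
      exact hne ⟨(-i).toNat, by simp; omega⟩))])
  show eul X = _
  unfold eul IntMult.chi
  conv_lhs => rw [← Set.indicator_eq_self.mpr hsupp, ← finsum_mem_def,
    finsum_mem_range (g := fun k : ℕ => -(k : ℤ)) (fun a b (h : -(a : ℤ) = -(b : ℤ)) => by simpa using h)]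
  refine finsum_congr fun n => ?_
  rw [eps_natCast, lenZ, ← (e n).toLinearEquiv.length_eq]

include K R p in
/-- Associativity: both sides are the Euler characteristic of the triple derived tensor product. -/
theorem chi_assoc (M N L : Type u) [AddCommGroup M] [Module A M] [Module.Finite A M]
    [AddCommGroup N] [Module A N] [AddCommGroup L] [Module A L]
    [Module.Finite A L]
    (hNLf : ∀ q : ℕ, Module.Finite A (_root_.DRing.Tor A q N L))
    (hMNf : ∀ q : ℕ, Module.Finite A (_root_.DRing.Tor A q M N))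
    (hNL : ∀ q : ℕ, Module.length A (M ⊗[A] _root_.DRing.Tor A q N L) ≠ ⊤)
    (hMN : ∀ q : ℕ, Module.length A (L ⊗[A] _root_.DRing.Tor A q M N) ≠ ⊤)
    (D : ℕ) (hD : ∀ q : ℕ, D < q → Subsingleton (_root_.DRing.Tor A q N L))
    (hD' : ∀ q : ℕ, D < q → Subsingleton (_root_.DRing.Tor A q M N)) :
    ∑ᶠ q : ℕ, (-1 : ℤ) ^ q * IntMult.chi A M (_root_.DRing.Tor A q N L) =
      ∑ᶠ q : ℕ, (-1 : ℤ) ^ q * IntMult.chi A L (_root_.DRing.Tor A q M N) := by
  let P := projectiveResolution (ModuleCat.of A M)
  let S := projectiveResolution (ModuleCat.of A N)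
  let Q := projectiveResolution (ModuleCat.of A L)
  have key : ∀ (M₀ : Type u) (_ : AddCommGroup M₀) (_ : Module A M₀) (_ : Module.Finite A M₀)
      (X Y : ModuleCat.{u} A) (P₀ : ProjectiveResolution (ModuleCat.of A M₀))
      (S₀ : ProjectiveResolution X) (T₀ : ProjectiveResolution Y),
      (∀ q : ℕ, Module.Finite A (_root_.DRing.Tor A q X Y)) →
      (∀ q : ℕ, Module.length A (M₀ ⊗[A] _root_.DRing.Tor A q X Y) ≠ ⊤) →
      (∀ q : ℕ, D < q → Subsingleton (_root_.DRing.Tor A q X Y)) →
      eul (P₀.cochainComplex ⊗ (S₀.cochainComplex ⊗ T₀.cochainComplex)) =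
        ∑ᶠ q : ℕ, (-1 : ℤ) ^ q * IntMult.chi A M₀ (_root_.DRing.Tor A q X Y) := by
    intro M₀ _ _ _ X Y P₀ S₀ T₀ hf hl hz
    let C := S₀.cochainComplex ⊗ T₀.cochainComplex
    haveI := quasiIso_whiskerLeft_aug S₀ T₀
    let eC : ∀ q : ℕ, ((CategoryTheory.Tor (ModuleCat.{u} A) q).obj X).obj Y ≅ C.homology (-(q : ℤ)) :=
      fun q => (objIso S₀ q).app Y ≪≫ (qisIso (S₀.cochainComplex ◁ aug T₀) _).symm
    have hpos : ∀ i : ℤ, 0 < i → IsZero (C.homology i) := fun i hi => by
      refine IsZero.of_iso ?_ (qisIso (S₀.cochainComplex ◁ aug T₀) i)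
      refine IsZero.of_iso ?_ ((HomologicalComplex.homologyFunctor _ _ i).mapIso
        ((EtMilLib.tensorCxFIso S₀.cochainComplex).app Y)).symm
      show IsZero (((tensorCxF S₀.cochainComplex).obj Y).homology i)
      rw [← HomologicalComplex.exactAt_iff_isZero_homology]
      exact ShortComplex.exact_of_isZero_X₂ _ (Functor.map_isZero ((tensoringRight (ModuleCat.{u} A)).obj _)
        (CochainComplex.isZero_of_isStrictlyLE S₀.cochainComplex 0 i hi))
    have hneg : ∀ i : ℤ, i < -(D : ℤ) → IsZero (C.homology i) := fun i hi => by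
      obtain ⟨q, rfl⟩ : ∃ q : ℕ, i = -(q : ℤ) := ⟨(-i).toNat, by omega⟩
      haveI := hz q (by omega)
      exact (ModuleCat.isZero_of_subsingleton _).of_iso (eC q).symm
    have hP : IsKFlat P₀.cochainComplex := isKFlat_coch P₀
    have hflat : ∀ i, Module.Flat A (P₀.cochainComplex.X i) := fun i =>
      haveI : Module.Projective A (P₀.cochainComplex.X i) :=
        (IsProjective.iff_projective _).2 (inferInstanceAs (Projective (P₀.cochainComplex.X i)))
      inferInstance
    have hTS : ∀ j : ℤ, HFin (TS P₀.cochainComplex (C.homology j)) ∧ (∀ q : ℕ, j = -(q : ℤ) →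
        eul (TS P₀.cochainComplex (C.homology j)) = IntMult.chi A M₀ (_root_.DRing.Tor A q X Y)) := by
      intro j
      by_cases h0 : 0 < j
      · exact ⟨(hfin_acyclic (isZero_TS _ hP (hpos j h0))).1, fun q hq => absurd hq (by omega)⟩
      obtain ⟨q, rfl⟩ : ∃ q : ℕ, j = -(q : ℤ) := ⟨(-j).toNat, by omega⟩
      haveI := hf q
      obtain ⟨a, b⟩ := hfin_TS P₀ (((CategoryTheory.Tor (ModuleCat.{u} A) q).obj X).obj Y)
        (tor_finite K R p A M₀ (_root_.DRing.Tor A q X Y) (hl q))
      let e' := (CochainComplex.singleFunctor (ModuleCat.{u} A) 0 ⋙ TL P₀.cochainComplex).mapIso (eC q)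
      refine ⟨a.of_homologyIso fun i => (HomologicalComplex.homologyFunctor _ _ i).mapIso e', fun q' hq' => ?_⟩
      obtain rfl : q' = q := by omega
      rw [← b]
      exact (eul_congr fun i => (HomologicalComplex.homologyFunctor _ _ i).mapIso e').symm
    obtain ⟨-, h2⟩ := eul_tensor P₀.cochainComplex hP hflat C (-(D : ℤ)) D
      (fun j hj => by
        rcases hj with hj | hj
        · exact hneg j hj
        · exact hpos j (by omega))
      fun j => (hTS j).1
    refine h2.trans ?_
    have hsupp : (Function.support fun j : ℤ => eps j * eul (TS P₀.cochainComplex (C.homology j))) ⊆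
        Set.range (fun k : ℕ => -(k : ℤ)) := fun i hi => by
      by_contra hne
      refine hi ?_
      have h0 : 0 < i := by
        by_contra h0
        exact hne ⟨(-i).toNat, by simp; omega⟩
      show eps i * _ = 0
      rw [(hfin_acyclic (isZero_TS _ hP (hpos i h0))).2, mul_zero]
    rw [← Set.indicator_eq_self.mpr hsupp, ← finsum_mem_def,
      finsum_mem_range (g := fun k : ℕ => -(k : ℤ)) (fun a b (h : -(a : ℤ) = -(b : ℤ)) => by simpa using h)]
    exact finsum_congr fun q => by rw [eps_natCast, (hTS _).2 q rfl]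
  have h1 := key M inferInstance inferInstance inferInstance (ModuleCat.of A N) (ModuleCat.of A L) P S Q hNLf hNL hD
  have h2 := key L inferInstance inferInstance inferInstance (ModuleCat.of A M) (ModuleCat.of A N) Q P S hMNf hMN hD'
  rw [← h1, ← h2]
  exact eul_congr fun i => (HomologicalComplex.homologyFunctor _ _ i).mapIso
    ((α_ P.cochainComplex S.cochainComplex Q.cochainComplex).symm ≪≫ braid _ _)

end Groth.Agent.IntMult66
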