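import Groth.Agent.IntMult66.Devissage
import Groth.Agent.CycLib.SheafSpec
import Groth.Agent.CycLib.FieldDelta
import Groth.Agent.CycLib.FibreDeg
import Groth.Agent.IntMult88.Geom
import Groth.Agent.CohDev.Piece

/-!
# Intersection numbers at a point of a smooth variety
-/

set_option autoImplicit false
set_option linter.style.haveILetI false
set_option maxSynthPendingDepth 3

universe u

open CategoryTheory AlgebraicGeometry IsLocalRing
open scoped TensorProduct

namespace Groth.Agent.IntMult66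

open CycLib

variable {K : Type u} [Field K] {X : Scheme.{u}}

/-- The local ring at a point as a localisation of a smooth algebra. -/
theorem exists_chart (f : X ⟶ Spec (CommRingCat.of K)) [Smooth f] (ζ : X) :
    ∃ (R : Type u) (_ : CommRing R) (_ : Algebra K R) (_ : Algebra.Smooth K R) (p : Ideal R)
      (_ : p.IsPrime) (_ : Algebra R (X.presheaf.stalk ζ)),
      IsLocalization.AtPrime (X.presheaf.stalk ζ) p := by
  obtain ⟨_, ⟨U, hU, rfl⟩, hxU, -⟩ :=
    X.isBasis_affineOpens.exists_subset_of_mem_open (Set.mem_univ ζ) isOpen_univ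
  have hU' : IsAffineOpen U := hU
  have hφ : RingHom.Smooth (f.appLE ⊤ U le_top).hom :=
    HasRingHomProperty.appLE (P := @Smooth) f inferInstance ⟨⊤, isAffineOpen_top _⟩ ⟨U, hU'⟩ le_top
  let g : K →+* Γ(X, U) :=
    (f.appLE ⊤ U le_top).hom.comp (Scheme.ΓSpecIso (CommRingCat.of K)).inv.hom
  have hg : RingHom.Smooth g :=
    (RingHom.Smooth.propertyIsLocal.respectsIso.2 (f.appLE ⊤ U le_top).hom
      (Scheme.ΓSpecIso (CommRingCat.of K)).commRingCatIsoToRingEquiv.symm hφ)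
  exact ⟨Γ(X, U), inferInstance, g.toAlgebra, hg, (hU'.primeIdealOf ⟨ζ, hxU⟩).asIdeal, inferInstance,
    TopCat.Presheaf.algebra_section_stalk X.presheaf ⟨ζ, hxU⟩, hU'.isLocalization_stalk ⟨ζ, hxU⟩⟩

section Delta

variable (f : X ⟶ Spec (CommRingCat.of K)) [LocallyOfFiniteType f] {δ : X → ℤ}
  (hδ : Cyc.DeltaCompat f δ (fun _ => 0))

include hδ in
theorem delta_eq : δ = fdelta K f := by
  refine deltaCompat_eq hδ ?_
  have h := deltaCompat_fdelta K f f (𝟙 (Spec (CommRingCat.of K))) (Category.comp_id _)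
  rwa [show fdelta K (𝟙 (Spec (CommRingCat.of K))) = fun _ => (0 : ℤ) from funext (fdelta_id K)] at h

include hδ in
theorem delta_mono {ξ ζ : X} (h : ξ ⤳ ζ) : δ ζ ≤ δ ξ := by
  letI : X.Over (Spec (CommRingCat.of K)) := ⟨f⟩
  haveI : LocallyOfFiniteType (X ↘ Spec (CommRingCat.of K)) := ‹LocallyOfFiniteType f›
  rw [delta_eq f hδ]
  exact Int.ofNat_le.2 (IntMult88.dimPt_mono K (show ζ ≤ ξ from h))

include hδ in
/-- `dim O_{X,ζ}/P_ξ = δ ξ − δ ζ`. -/
theorem ringKrullDim_ptPrime {ξ ζ : X} (h : ξ ⤳ ζ) :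
    ∃ e : ℕ, ringKrullDim (X.presheaf.stalk ζ ⧸ (ptPrime ζ ξ h).asIdeal) = e ∧
      (e : ℤ) = δ ξ - δ ζ := by
  letI : X.Over (Spec (CommRingCat.of K)) := ⟨f⟩
  haveI : LocallyOfFiniteType (X ↘ Spec (CommRingCat.of K)) := ‹LocallyOfFiniteType f›
  have hle := IntMult88.dimPt_mono K (show ζ ≤ ξ from h)
  refine ⟨_, IntMult88.ringKrullDim_quotient_eq K ζ ξ h _ (fun q => ?_), ?_⟩
  · refine (PrimeSpectrum.le_iff_specializes (ptPrime ζ ξ h) q).trans ?_
    refine ((X.fromSpecStalk ζ).isEmbedding.isInducing.specializes_iff).symm.trans ?_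
    rw [fromSpecStalk_ptPrime]
  · rw [delta_eq f hδ, Nat.cast_sub hle]
    rfl

include hδ in
theorem eq_of_le {ξ ζ : X} (h : ξ ⤳ ζ) (hle : δ ξ ≤ δ ζ) : ξ = ζ := by
  by_contra hne
  have := (isDimFun_fdelta K f ξ ζ h hne).1
  rw [delta_eq f hδ] at hle
  omega

include hδ in
theorem ringKrullDim_stalk [IsIntegral X] (ζ : X) :
    ∃ d : ℕ, ringKrullDim (X.presheaf.stalk ζ) = d ∧ (d : ℤ) = δ (genericPoint X) - δ ζ := by
  letI : X.Over (Spec (CommRingCat.of K)) := ⟨f⟩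
  haveI : LocallyOfFiniteType (X ↘ Spec (CommRingCat.of K)) := ‹LocallyOfFiniteType f›
  obtain ⟨hd, hle⟩ := IntMult88.ringKrullDim_stalk_eq K
    (VarDim.topologicalKrullDim_eq_of_irreducible K (X := X)) ζ
  refine ⟨_, hd, ?_⟩
  rw [delta_eq f hδ, Nat.cast_sub hle]
  rfl

end Delta

/-- The stalk ideal of the closure of a point. -/
theorem stalkIdeal_ptIdeal {ξ ζ : X} (h : ξ ⤳ ζ) :
    IntMult.stalkIdeal (IntMult.ptIdeal ξ) ζ = (ptPrime ζ ξ h).asIdeal := by
  obtain ⟨U, hU, hζ, -⟩ := exists_isAffineOpen_mem_and_subset (X := X) (x := ζ) (U := ⊤) trivial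
  have hξ : ξ ∈ U := h.mem_open U.2 hζ
  letI := TopCat.Presheaf.algebra_section_stalk X.presheaf (⟨ζ, hζ⟩ : U)
  haveI := hU.isLocalization_stalk ⟨ζ, hζ⟩
  have hcomap : (ptPrime ζ ξ h).asIdeal.comap (algebraMap Γ(X, U) (X.presheaf.stalk ζ)) =
      (hU.primeIdealOf ⟨ξ, hξ⟩).asIdeal := by
    ext a
    rw [Ideal.mem_comap]
    show Cyc.specMap ζ ξ h (X.presheaf.germ U ζ hζ a) = 0 ↔ _
    rw [specMap_germ, ← not_iff_not, not_mem_primeIdealOf_iff hU hξ a]
    exact IsLocalRing.residue_ne_zero_iff_isUnit _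
  rw [IdealSh.stalkIdeal_eq _ ⟨U, hU⟩ hζ, CohDev.ideal_ptIdeal ξ (V := ⟨U, hU⟩) hξ]
  refine Eq.trans ?_
    (IsLocalization.map_under (hU.primeIdealOf ⟨ζ, hζ⟩).asIdeal.primeCompl (X.presheaf.stalk ζ)
      (ptPrime ζ ξ h).asIdeal)
  exact congrArg (Ideal.map _) hcomap.symm

theorem mult_ptIdeal {ξ η ζ : X} (h : ξ ⤳ ζ) (h' : η ⤳ ζ) :
    IntMult.mult (IntMult.ptIdeal ξ) (IntMult.ptIdeal η) ζ =
      IntMult.chi (X.presheaf.stalk ζ) (X.presheaf.stalk ζ ⧸ (ptPrime ζ η h').asIdeal)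
        (X.presheaf.stalk ζ ⧸ (ptPrime ζ ξ h).asIdeal) := by
  rw [IntMult.mult, stalkIdeal_ptIdeal h, stalkIdeal_ptIdeal h']

theorem nontrivial_of_specializes (M : X.Modules) [M.IsQuasicoherent] {ξ ζ : X} (h : ξ ⤳ ζ)
    (hn : Nontrivial (M.presheaf.stalk ξ)) : Nontrivial (M.presheaf.stalk ζ) := by
  letI := stalkModule M h
  haveI := isLocalizedModule_spLin M h
  by_contra hz
  rw [not_nontrivial_iff_subsingleton] at hz
  refine not_subsingleton (M.presheaf.stalk ξ) ⟨fun v w => ?_⟩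
  have key : ∀ v : M.presheaf.stalk ξ, v = 0 := fun v => by
    obtain ⟨⟨x, s⟩, hx⟩ := IsLocalizedModule.surj (ptPrime ζ ξ h).asIdeal.primeCompl (spLin M h) v
    dsimp only at hx
    rw [Subsingleton.elim x 0, map_zero] at hx
    exact ((Module.End.isUnit_iff _).1 (IsLocalizedModule.map_units (spLin M h) s)).1
      (hx.trans (map_zero _).symm)
  rw [key v, key w]

theorem locLen_ptPrime (M : X.Modules) [M.IsQuasicoherent] {ξ ζ : X} (h : ξ ⤳ ζ) :
    locLen (A := X.presheaf.stalk ζ) (M.presheaf.stalk ζ) (ptPrime ζ ξ h) =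
      ((Module.length (X.presheaf.stalk ξ) (M.presheaf.stalk ξ)).toNat : ℤ) := by
  unfold locLen
  rw [← length_localized_stalk M h]

/-- A bound on the dimension of a module from the primes of its support. -/
theorem supportDim_le {A M : Type u} [CommRing A] [AddCommGroup M] [Module A M] (a : ℕ)
    (h : ∀ q : PrimeSpectrum A, q ∈ Module.support A M → ringKrullDim (A ⧸ q.asIdeal) ≤ a) :
    Module.supportDim A M ≤ a := by
  refine iSup_le fun l => ?_
  refine le_trans ?_ (h l.head.1 l.head.2)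
  rw [ringKrullDim_quotient]
  let l' : LTSeries (PrimeSpectrum.zeroLocus (l.head.1.asIdeal : Set A)) :=
    LTSeries.mk l.length (fun i => ⟨(l i).1, (l.head_le i : l.head.1 ≤ (l i).1)⟩)
      fun i j hij => l.strictMono hij
  exact Order.LTSeries.length_le_krullDim l'

theorem chi_subsingleton {A : Type u} [CommRing A] (N M : Type u) [AddCommGroup N] [Module A N]
    [AddCommGroup M] [Module A M] [Subsingleton M] : IntMult.chi A N M = 0 := by
  have hz : Limits.IsZero (ModuleCat.of A M) := ModuleCat.isZero_of_subsingleton _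
  refine finsum_eq_zero_of_forall_eq_zero fun i => ?_
  haveI := EtMilLib.additive_tor (ModuleCat.of A N) i
  have h1 := ModuleCat.subsingleton_of_isZero
    (((CategoryTheory.Tor (ModuleCat.{u} A) i).obj (ModuleCat.of A N)).map_isZero hz)
  haveI : Subsingleton (_root_.DRing.Tor A i N M) := h1
  simp [Module.length_eq_zero]

variable [IsAlgClosed K]

/-- The intersection product of the cycles of two coherent sheaves. -/
theorem interProd_sheafFun (f : X ⟶ Spec (CommRingCat.of K)) [Smooth f] [IsIntegral X] {δ : X → ℤ}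
    (hδ : Cyc.DeltaCompat f δ (fun _ => 0)) {n : ℤ} (hn : δ (genericPoint X) = n) (F G : X.Modules)
    (hF : Coh.IsCoh F) (hG : Coh.IsCoh G) {r s : ℤ}
    (hr : ∀ x : X, Nontrivial (F.presheaf.stalk x) → δ x ≤ r)
    (hs : ∀ x : X, Nontrivial (G.presheaf.stalk x) → δ x ≤ s)
    (hrs : ∀ x : X, Nontrivial (F.presheaf.stalk x) → Nontrivial (G.presheaf.stalk x) → δ x ≤ r + s - n) :
    IntMult.IntersectProperly δ n (Cyc.sheafFun δ r F) (Cyc.sheafFun δ s G) ∧
      ∀ ζ : X, IntMult.interProd δ n (Cyc.sheafFun δ r F) (Cyc.sheafFun δ s G) ζ =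
        if δ ζ = r + s - n then
          IntMult.chi ↑(X.presheaf.stalk ζ) ↑(F.presheaf.stalk ζ) ↑(G.presheaf.stalk ζ) else 0 := by
  classical
  haveI := hF.1
  haveI := hG.1
  have hne : ∀ (H : X.Modules) (k : ℤ) (x : X), Cyc.sheafFun δ k H x ≠ 0 →
      δ x = k ∧ Nontrivial (H.presheaf.stalk x) := by
    intro H k x hx
    unfold Cyc.sheafFun at hx
    split_ifs at hx with h
    · refine ⟨h, ?_⟩
      by_contra hz
      rw [not_nontrivial_iff_subsingleton] at hz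
      simp [Module.length_eq_zero] at hx
    · exact absurd rfl hx
  refine ⟨fun ξ η ζ hα hβ hξ hη => ?_, fun ζ => ?_⟩
  · obtain ⟨h1, h2⟩ := hne F r ξ hα
    obtain ⟨h3, h4⟩ := hne G s η hβ
    rw [h1, h3]
    exact hrs ζ (nontrivial_of_specializes F hξ h2) (nontrivial_of_specializes G hη h4)
  -- the value at `ζ`
  have hzero : ¬ (δ ζ = r + s - n ∧ Nontrivial (F.presheaf.stalk ζ) ∧ Nontrivial (G.presheaf.stalk ζ)) →
      IntMult.interProd δ n (Cyc.sheafFun δ r F) (Cyc.sheafFun δ s G) ζ = 0 := by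
    intro hnot
    refine finsum_eq_zero_of_forall_eq_zero fun q => ?_
    by_cases hα : Cyc.sheafFun δ r F q.1.1 = 0
    · rw [hα, zero_mul, zero_mul]
    by_cases hβ : Cyc.sheafFun δ s G q.1.2 = 0
    · rw [hβ, mul_zero, zero_mul]
    obtain ⟨h1, h2⟩ := hne F r _ hα
    obtain ⟨h3, h4⟩ := hne G s _ hβ
    exact absurd ⟨by have := q.2.2.2; omega, nontrivial_of_specializes F q.2.1 h2,
      nontrivial_of_specializes G q.2.2.1 h4⟩ hnot
  split_ifs with hζ
  swap
  · exact hzero fun h => hζ h.1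
  rcases subsingleton_or_nontrivial (F.presheaf.stalk ζ) with hF0 | hFz
  · rw [hzero fun h => not_nontrivial _ h.2.1, IntMult88.chi_comm, chi_subsingleton]
  rcases subsingleton_or_nontrivial (G.presheaf.stalk ζ) with hG0 | hGz
  · rw [hzero fun h => not_nontrivial _ h.2.2, chi_subsingleton]
  clear hzero
  obtain ⟨R, _, _, _, p, _, _, _⟩ := exists_chart f ζ
  haveI := isRegularLocalRing_localization K R p (X.presheaf.stalk ζ)
  haveI := FDesc.QuasiFlat.finite_stalk_of_isCoh F hF ζ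
  haveI := FDesc.QuasiFlat.finite_stalk_of_isCoh G hG ζ
  obtain ⟨d, hd, hd'⟩ := ringKrullDim_stalk f hδ ζ
  rw [hn] at hd'
  obtain ⟨a, ha⟩ : ∃ a : ℕ, (a : ℤ) = r - δ ζ := ⟨(r - δ ζ).toNat, by have := hr ζ hFz; omega⟩
  obtain ⟨b, hb⟩ : ∃ b : ℕ, (b : ℤ) = s - δ ζ := ⟨(s - δ ζ).toNat, by have := hs ζ hGz; omega⟩
  have hab : a + b = d := by omega
  have hdim : ∀ (H : X.Modules) (k : ℤ) (c : ℕ), Coh.IsCoh H →
      (∀ x : X, Nontrivial (H.presheaf.stalk x) → δ x ≤ k) → (c : ℤ) = k - δ ζ →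
      Module.supportDim (X.presheaf.stalk ζ) (H.presheaf.stalk ζ) ≤ c := by
    intro H k c hH hk hc
    haveI := hH.1
    haveI := FDesc.QuasiFlat.finite_stalk_of_isCoh H hH ζ
    refine supportDim_le c fun q hq => ?_
    obtain ⟨ξ, h, rfl⟩ := exists_ptPrime ζ q
    obtain ⟨e, he, he'⟩ := ringKrullDim_ptPrime f hδ h
    have := hk ξ ((nontrivial_stalk_iff_le H h).2 (Module.mem_support_iff_of_finite.1 hq))
    rw [he]
    exact_mod_cast (by omega : e ≤ c)
  have hmeet : Meet (A := X.presheaf.stalk ζ) (G.presheaf.stalk ζ) (F.presheaf.stalk ζ) := by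
    rw [Meet, Ideal.radical_eq_sInf]
    refine le_sInf ?_
    rintro J ⟨hJ, hJp⟩
    obtain ⟨ξ, h, hξ⟩ := exists_ptPrime ζ ⟨J, hJp⟩
    have hJ' : (ptPrime ζ ξ h).asIdeal = J := congrArg PrimeSpectrum.asIdeal hξ
    have h1 := (nontrivial_stalk_iff_le G h).2 ((le_sup_left.trans hJ).trans hJ'.ge)
    have h2 := (nontrivial_stalk_iff_le F h).2 ((le_sup_right.trans hJ).trans hJ'.ge)
    obtain rfl := eq_of_le f hδ h (hζ ▸ hrs ξ h2 h1)
    rw [← hJ']
    intro x hx
    show Cyc.specMap ξ ξ h x = 0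
    have : (ptPrime ξ ξ h) = IsLocalRing.closedPoint (X.presheaf.stalk ξ) :=
      (X.fromSpecStalk ξ).isEmbedding.injective
        ((fromSpecStalk_ptPrime _ _ _).trans Scheme.fromSpecStalk_closedPoint.symm)
    exact (congrArg PrimeSpectrum.asIdeal this).ge hx
  obtain ⟨S, T, hS, hT, hchi⟩ := chi_formula K R p hd (G.presheaf.stalk ζ) (F.presheaf.stalk ζ)
    (hdim F r a hF hr ha) (hdim G s b hG hs hb) hab hmeet
  rw [IntMult88.chi_comm, hchi, ← Finset.sum_product']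
  let g : PrimeSpectrum (X.presheaf.stalk ζ) × PrimeSpectrum (X.presheaf.stalk ζ) → ℤ := fun q =>
    if ringKrullDim (X.presheaf.stalk ζ ⧸ q.1.asIdeal) = a ∧
        ringKrullDim (X.presheaf.stalk ζ ⧸ q.2.asIdeal) = b then
      locLen (F.presheaf.stalk ζ) q.1 * locLen (G.presheaf.stalk ζ) q.2 *
        IntMult.chi (X.presheaf.stalk ζ) (X.presheaf.stalk ζ ⧸ q.2.asIdeal)
          (X.presheaf.stalk ζ ⧸ q.1.asIdeal) else 0
  rw [← finsum_eq_finsetSum_of_support_subset g (s := S ×ˢ T) ?hsub]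
  case hsub =>
    intro q hq
    simp only [g, Function.mem_support, ne_eq, ite_eq_right_iff, mul_eq_zero, not_forall, not_or] at hq
    obtain ⟨⟨h1, h2⟩, ⟨h3, h4⟩, -⟩ := hq
    rw [Finset.coe_product, Set.mem_prod]
    exact ⟨by_contra fun h => h3 (hS q.1 h h1), by_contra fun h => h4 (hT q.2 h h2)⟩
  let Φ : {q : X × X // q.1 ⤳ ζ ∧ q.2 ⤳ ζ ∧ δ q.1 + δ q.2 - n = δ ζ} →
      PrimeSpectrum (X.presheaf.stalk ζ) × PrimeSpectrum (X.presheaf.stalk ζ) :=
    fun q => (ptPrime ζ q.1.1 q.2.1, ptPrime ζ q.1.2 q.2.2.1)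
  have hΦ : Function.Injective Φ := by
    rintro ⟨⟨x, y⟩, hx, hy, h1⟩ ⟨⟨x', y'⟩, hx', hy', h1'⟩ he
    obtain ⟨e1, e2⟩ := Prod.ext_iff.1 he
    have f1 := congrArg (fun q => X.fromSpecStalk ζ q) e1
    have f2 := congrArg (fun q => X.fromSpecStalk ζ q) e2
    simp only [Φ, fromSpecStalk_ptPrime] at f1 f2
    exact Subtype.ext (Prod.ext f1 f2)
  have hrange : Function.support g ⊆ Set.range Φ := by
    intro q hq
    simp only [g, Function.mem_support, ne_eq, ite_eq_right_iff, not_forall] at hq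
    obtain ⟨⟨h1, h2⟩, -⟩ := hq
    obtain ⟨ξ, h, hξ⟩ := exists_ptPrime ζ q.1
    obtain ⟨η, h', hη⟩ := exists_ptPrime ζ q.2
    obtain ⟨e, he, he'⟩ := ringKrullDim_ptPrime f hδ h
    obtain ⟨e2, he2, he2'⟩ := ringKrullDim_ptPrime f hδ h'
    rw [hξ, h1] at he
    rw [hη, h2] at he2
    have e3 : a = e := by exact_mod_cast he
    have e4 : b = e2 := by exact_mod_cast he2
    refine ⟨⟨(ξ, η), h, h', ?_⟩, Prod.ext hξ hη⟩
    show δ ξ + δ η - n = δ ζ
    omega
  conv_rhs => rw [← Set.indicator_eq_self.mpr hrange, ← finsum_mem_def, finsum_mem_range hΦ]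
  refine finsum_congr fun q => ?_
  obtain ⟨⟨ξ, η⟩, h, h', hc⟩ := q
  replace hc : δ ξ + δ η - n = δ ζ := hc
  replace h : ξ ⤳ ζ := h
  replace h' : η ⤳ ζ := h'
  obtain ⟨e, he, he'⟩ := ringKrullDim_ptPrime f hδ h
  obtain ⟨e2, he2, he2'⟩ := ringKrullDim_ptPrime f hδ h'
  show Cyc.sheafFun δ r F ξ * Cyc.sheafFun δ s G η * IntMult.mult (IntMult.ptIdeal ξ) (IntMult.ptIdeal η) ζ =
    g (ptPrime ζ ξ h, ptPrime ζ η h')
  rw [mult_ptIdeal h h']
  simp only [g, Cyc.sheafFun, he, he2]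
  by_cases h1 : δ ξ = r
  · have e1 : e = a := by omega
    have h3 : δ η = s := by omega
    have e3 : e2 = b := by omega
    rw [if_pos h1, if_pos h3, if_pos ⟨by rw [e1], by rw [e3]⟩, locLen_ptPrime F h, locLen_ptPrime G h']
  · rw [if_neg h1, zero_mul, zero_mul, if_neg]
    rintro ⟨h2, -⟩
    have : e = a := by exact_mod_cast h2
    omega

/-- Positivity of the multiplicity of a proper intersection at the generic point of a component. -/
theorem mult_pos (f : X ⟶ Spec (CommRingCat.of K)) [Smooth f] [IsIntegral X]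
    (IV IW : X.IdealSheafData) [IsIntegral IV.subscheme] [IsIntegral IW.subscheme] {ξ : X}
    (hξV : ξ ∈ IV.support) (hξW : ξ ∈ IW.support) {d a b : ℕ}
    (hd : ringKrullDim (X.presheaf.stalk ξ) = d)
    (ha : ringKrullDim (X.presheaf.stalk ξ ⧸ IntMult.stalkIdeal IV ξ) = a)
    (hb : ringKrullDim (X.presheaf.stalk ξ ⧸ IntMult.stalkIdeal IW ξ) = b) (hab : d ≤ a + b)
    (hPQ : maximalIdeal (X.presheaf.stalk ξ) ≤
      (IntMult.stalkIdeal IV ξ ⊔ IntMult.stalkIdeal IW ξ).radical) :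
    0 < IntMult.mult IV IW ξ := by
  obtain ⟨R, _, _, _, p, _, _, _⟩ := exists_chart f ξ
  haveI := isRegularLocalRing_localization K R p (X.presheaf.stalk ξ)
  haveI := IntMult88.isPrime_stalkIdeal IV ξ hξV
  haveI := IntMult88.isPrime_stalkIdeal IW ξ hξW
  have hmeet : Meet (A := X.presheaf.stalk ξ) (X.presheaf.stalk ξ ⧸ IntMult.stalkIdeal IW ξ)
      (X.presheaf.stalk ξ ⧸ IntMult.stalkIdeal IV ξ) := by
    rw [Meet, Ideal.annihilator_quotient, Ideal.annihilator_quotient, sup_comm]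
    exact hPQ
  exact pos_of_le K R p (IntMult.stalkIdeal IV ξ) (IntMult.stalkIdeal IW ξ) hd ha hb hab hmeet
where
  pos_of_le {A : Type u} [CommRing A] [IsLocalRing A] (K R : Type u) [Field K] [IsAlgClosed K]
      [CommRing R] [Algebra K R] [Algebra.Smooth K R] (p : Ideal R) [p.IsPrime] [Algebra R A]
      [IsLocalization.AtPrime A p] (P Q : Ideal A) [P.IsPrime] [Q.IsPrime] {d a b : ℕ}
      (hd : ringKrullDim A = d) (ha : ringKrullDim (A ⧸ P) = a) (hb : ringKrullDim (A ⧸ Q) = b)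
      (hab : d ≤ a + b) (hmeet : Meet (A := A) (A ⧸ Q) (A ⧸ P)) :
      0 < IntMult.chi A (A ⧸ Q) (A ⧸ P) := by
    haveI := isRegularLocalRing_localization K R p A
    refine (chi_prime K R p A P Q ha hb hd hmeet.length_ne_top).2 (le_antisymm ?_ hab)
    exact dim_add_le K R p A P Q ha hb hd hmeet.length_ne_top

end Groth.Agent.IntMult66
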