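import Groth.Agent.IntMult66.Assoc
import Groth.Agent.IntMult66.Scheme
import Groth.Agent.S2428
import Groth.Agent.S6315

/-!
# The product of a variety with an intersection product
-/

set_option autoImplicit false
set_option linter.style.haveILetI false
set_option maxSynthPendingDepth 3

universe u

open CategoryTheory AlgebraicGeometry IsLocalRing
open scoped TensorProduct

namespace Groth.Agent.IntMult66

open CycLib

section Alg

variable {A : Type u} [CommRing A]

/-- Localised lengths through any localisation. -/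
theorem locLen_eq (q : PrimeSpectrum A) (B : Type u) [CommRing B] [Algebra A B]
    [IsLocalization.AtPrime B q.asIdeal] (T : Type u) [AddCommGroup T] [Module A T] :
    locLen T q = ((Module.length B (B ⊗[A] T)).toNat : ℤ) := by
  unfold locLen
  haveI : IsLocalizedModule q.asIdeal.primeCompl (TensorProduct.mk A B T 1) :=
    (isLocalizedModule_iff_isBaseChange q.asIdeal.primeCompl B _).2 (TensorProduct.isBaseChange A T B)
  rw [CycLib.length_eq_of_isLocalizedModule q.asIdeal.primeCompl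
    (IsLocalization.algEquiv q.asIdeal.primeCompl (Localization.AtPrime q.asIdeal) B).toAlgHom
    (IsLocalization.algEquiv q.asIdeal.primeCompl (Localization.AtPrime q.asIdeal) B).surjective
    (LocalizedModule.mkLinearMap q.asIdeal.primeCompl T) (TensorProduct.mk A B T 1)]

/-- The alternating sum of the localised lengths of `Tor`. -/
theorem finsum_locLen_tor (q : PrimeSpectrum A) (B : Type u) [CommRing B] [Algebra A B]
    [IsLocalization.AtPrime B q.asIdeal] (N L : Type u) [AddCommGroup N] [Module A N]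
    [AddCommGroup L] [Module A L] :
    ∑ᶠ i : ℕ, (-1 : ℤ) ^ i * locLen (_root_.DRing.Tor A i N L) q =
      IntMult.chi B (B ⊗[A] N) (B ⊗[A] L) := by
  haveI : Module.Flat A B := IsLocalization.flat B q.asIdeal.primeCompl
  unfold IntMult.chi
  refine finsum_congr fun i => ?_
  obtain ⟨e⟩ := Groth.Agent.S2428.result A B N L i
  rw [locLen_eq q B, e.length_eq]

/-- Base change of a cyclic module. -/
noncomputable def quotTensor (B : Type u) [CommRing B] [Algebra A B] (I : Ideal A) :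
    B ⊗[A] (A ⧸ I) ≃ₗ[B] (B ⧸ I.map (algebraMap A B)) :=
  (Algebra.TensorProduct.quotIdealMapEquivTensorQuot B I).toLinearEquiv.symm

variable [IsLocalRing A] (K R : Type u) [Field K] [IsAlgClosed K] [CommRing R] [Algebra K R]
  [Algebra.Smooth K R] (p : Ideal R) [p.IsPrime] [Algebra R A] [IsLocalization.AtPrime A p]

include K R p in
/-- `chi` of `A ⧸ P` against all the `Tor`s of two modules. -/
theorem finsum_chi_tor {d a e : ℕ} (hd : ringKrullDim A = d) (hae : a + e = d) (P : PrimeSpectrum A)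
    (hP : ringKrullDim (A ⧸ P.asIdeal) ≤ a) (T : ℕ → Type u) [∀ i, AddCommGroup (T i)]
    [∀ i, Module A (T i)] [∀ i, Module.Finite A (T i)] (D : ℕ) (hD : ∀ i, D < i → Subsingleton (T i))
    (hsupp : ∀ i, Module.supportDim A (T i) ≤ e) (hmeet : ∀ i, Meet (A := A) (A ⧸ P.asIdeal) (T i)) :
    ∃ S : Finset (PrimeSpectrum A),
      (∀ q, q ∉ S → ringKrullDim (A ⧸ q.asIdeal) = e → ∀ i, locLen (T i) q = 0) ∧
      ∑ᶠ i : ℕ, (-1 : ℤ) ^ i * IntMult.chi A (A ⧸ P.asIdeal) (T i) =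
        ∑ q ∈ S, if ringKrullDim (A ⧸ q.asIdeal) = e then
          (∑ᶠ i : ℕ, (-1 : ℤ) ^ i * locLen (T i) q) * IntMult.chi A (A ⧸ P.asIdeal) (A ⧸ q.asIdeal)
          else 0 := by
  classical
  haveI := isRegularLocalRing_localization K R p A
  have hdev : ∀ i, ∃ S : Finset (PrimeSpectrum A), ∀ S' : Finset (PrimeSpectrum A), S ⊆ S' →
      (∀ q : PrimeSpectrum A, q ∉ S' → ringKrullDim (A ⧸ q.asIdeal) = e → locLen (T i) q = 0) ∧
      IntMult.chi A (A ⧸ P.asIdeal) (T i) = ∑ q ∈ S', if ringKrullDim (A ⧸ q.asIdeal) = e then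
          locLen (T i) q * IntMult.chi A (A ⧸ P.asIdeal) (A ⧸ q.asIdeal) else 0 := fun i =>
    (chi_devissage K R p (A ⧸ P.asIdeal) e (fun q hq hmq =>
      chi_eq_zero_of_lt K R p hd q P hq.le hP (Or.inl hq) (by omega) hmq)
      (M := T i) inferInstance (hsupp i) (hmeet i)).2
  choose S hS using hdev
  let U := (Finset.range (D + 1)).biUnion S
  have hz : ∀ i, D < i → ∀ q : PrimeSpectrum A, locLen (T i) q = 0 := fun i hi q => by
    haveI := hD i hi
    have : Subsingleton (LocalizedModule q.asIdeal.primeCompl (T i)) := by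
      rw [LocalizedModule.subsingleton_iff]
      exact fun m => ⟨1, q.asIdeal.primeCompl.one_mem, Subsingleton.elim _ _⟩
    simp [locLen, Module.length_eq_zero]
  have hsub : ∀ i ∈ Finset.range (D + 1), S i ⊆ U := fun i hi => Finset.subset_biUnion_of_mem S hi
  refine ⟨U, fun q hq he i => ?_, ?_⟩
  · by_cases hi : i ∈ Finset.range (D + 1)
    · exact (hS i U (hsub i hi)).1 q hq he
    · exact hz i (by simpa using hi) q
  have hout : ∀ i, i ∉ Finset.range (D + 1) → IntMult.chi A (A ⧸ P.asIdeal) (T i) = 0 := fun i hi => by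
    haveI := hD i (by simpa using hi)
    exact chi_subsingleton _ _
  rw [finsum_eq_finsetSum_of_support_subset _ (s := Finset.range (D + 1)) (fun i hi => by
    by_contra hi'
    exact hi (by simp [hout i hi']))]
  rw [Finset.sum_congr rfl fun i hi => by rw [(hS i U (hsub i hi)).2, Finset.mul_sum], Finset.sum_comm]
  refine Finset.sum_congr rfl fun q _ => ?_
  split_ifs with hq
  · rw [finsum_eq_finsetSum_of_support_subset _ (s := Finset.range (D + 1)) (fun i hi => by
      by_contra hi'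
      exact hi (by simp [hz i (by simpa using hi') q])), Finset.sum_mul]
    exact Finset.sum_congr rfl fun i _ => by ring
  · simp

end Alg

section Ann

variable {A : Type u} [CommRing A]

open CategoryTheory.Limits MonoidalCategory in
theorem smul_tensorH (Kc : _root_.DRing.Cx A) (W : ModuleCat.{u} A) (b : A)
    (hb : ∀ w : W, b • w = 0) (i : ℤ) (z : (HTor95.Tor.tensorH Kc i).obj W) : b • z = 0 := by
  let X := (HTor95.Tor.tensorCxF Kc).obj W
  have hW : b • 𝟙 W = 0 := ModuleCat.hom_ext (LinearMap.ext fun w => hb w)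
  have hX : b • 𝟙 X = 0 := by
    refine HomologicalComplex.hom_ext _ _ fun j => ?_
    show b • 𝟙 (Kc.X j ⊗ W) = 0
    rw [← MonoidalCategory.whiskerLeft_id, ← MonoidalLinear.whiskerLeft_smul, hW,
      MonoidalPreadditive.whiskerLeft_zero]
  have h := congrArg (fun φ => HomologicalComplex.homologyMap φ i) hX
  simp only [KosCone.Basic.homologyMap_smul_id, HomologicalComplex.homologyMap_zero] at h
  exact ConcreteCategory.congr_hom h z

theorem annihilator_le_tor (N L : Type u) [AddCommGroup N] [Module A N] [AddCommGroup L] [Module A L]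
    (i : ℕ) : Module.annihilator A N ⊔ Module.annihilator A L ≤
      Module.annihilator A (_root_.DRing.Tor A i N L) := by
  refine sup_le (fun b hb => Module.mem_annihilator.2 fun z => ?_) (fun b hb => Module.mem_annihilator.2 fun z => ?_)
  · obtain ⟨w, rfl⟩ := ((HTor95.Tor.flipIso (projectiveResolution (ModuleCat.of A L)) i).app
      (ModuleCat.of A N)).toLinearEquiv.symm.surjective z
    rw [← map_smul]
    refine (congrArg _ (smul_tensorH _ _ b (Module.mem_annihilator.1 hb) _ w)).trans (map_zero _)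
  · let P := projectiveResolution (ModuleCat.of A N)
    let e : _root_.DRing.Tor A i N L ≃ₗ[A] (HTor95.Tor.tensorH P.cochainComplex (-(i : ℤ))).obj (ModuleCat.of A L) :=
      ((HTor95.Tor.objIso P i ≪≫ (Functor.associator _ _ _).symm ≪≫
        Functor.isoWhiskerRight (EtMilLib.tensorCxFIso P.cochainComplex).symm
          (HomologicalComplex.homologyFunctor _ _ _)).app (ModuleCat.of A L)).toLinearEquiv
    refine e.injective ?_
    rw [map_smul, map_zero]
    exact smul_tensorH _ _ b (Module.mem_annihilator.1 hb) _ _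

end Ann

section Sch

variable {X : Scheme.{u}}

/-- The stalk ideal at a generization. -/
theorem stalkIdeal_map (I : X.IdealSheafData) {η ζ : X} (h : η ⤳ ζ) :
    (IntMult.stalkIdeal I ζ).map (X.presheaf.stalkSpecializes h).hom = IntMult.stalkIdeal I η := by
  obtain ⟨U, hU, hζ, -⟩ := exists_isAffineOpen_mem_and_subset (X := X) (x := ζ) (U := ⊤) trivial
  have hη : η ∈ U := h.mem_open U.2 hζ
  rw [IdealSh.stalkIdeal_eq I ⟨U, hU⟩ hζ, IdealSh.stalkIdeal_eq I ⟨U, hU⟩ hη, Ideal.map_map,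
    ← CommRingCat.hom_comp, TopCat.Presheaf.germ_stalkSpecializes]

theorem stalkIdeal_ptIdeal_eq_top {ξ ζ : X} (h : ¬ ξ ⤳ ζ) :
    IntMult.stalkIdeal (IntMult.ptIdeal ξ) ζ = ⊤ := by
  by_contra hne
  obtain ⟨U, hU, hζ, -⟩ := exists_isAffineOpen_mem_and_subset (X := X) (x := ζ) (U := ⊤) trivial
  have hmem : ζ ∈ (IntMult.ptIdeal ξ).support := by
    rw [Scheme.IdealSheafData.mem_support_iff_of_mem (U := ⟨U, hU⟩) hζ, Scheme.mem_zeroLocus_iff]
    intro a ha hbas
    refine hne (Ideal.eq_top_of_isUnit_mem _ ?_ ((X.mem_basicOpen a ζ hζ).1 hbas))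
    rw [IdealSh.stalkIdeal_eq _ ⟨U, hU⟩ hζ]
    exact Ideal.mem_map_of_mem _ ha
  rw [← SetLike.mem_coe, show ((IntMult.ptIdeal ξ).support : Set X) = closure {ξ} from by
    rw [IntMult.ptIdeal, Scheme.IdealSheafData.coe_support_vanishingIdeal]; rfl] at hmem
  exact h (specializes_iff_mem_closure.2 hmem)

theorem mult_eq_zero_left {ξ η ζ : X} (h : ¬ ξ ⤳ ζ) :
    IntMult.mult (IntMult.ptIdeal ξ) (IntMult.ptIdeal η) ζ = 0 := by
  rw [IntMult.mult, stalkIdeal_ptIdeal_eq_top h]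
  haveI : Subsingleton (X.presheaf.stalk ζ ⧸ (⊤ : Ideal (X.presheaf.stalk ζ))) :=
    Ideal.Quotient.subsingleton_iff.2 rfl
  exact chi_subsingleton _ _

theorem mult_eq_zero_right {ξ η ζ : X} (h : ¬ η ⤳ ζ) :
    IntMult.mult (IntMult.ptIdeal ξ) (IntMult.ptIdeal η) ζ = 0 := by
  rw [IntMult.mult, stalkIdeal_ptIdeal_eq_top h, IntMult88.chi_comm]
  haveI : Subsingleton (X.presheaf.stalk ζ ⧸ (⊤ : Ideal (X.presheaf.stalk ζ))) :=
    Ideal.Quotient.subsingleton_iff.2 rfl
  exact chi_subsingleton _ _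

/-- The product of two prime cycles. -/
theorem interProd_indicator (δ : X → ℤ) (n : ℤ) (ξ η ζ : X) :
    IntMult.interProd δ n (Set.indicator {ξ} 1) (Set.indicator {η} 1) ζ =
      if δ ξ + δ η - n = δ ζ then IntMult.mult (IntMult.ptIdeal ξ) (IntMult.ptIdeal η) ζ else 0 := by
  classical
  have hz : ∀ q : {q : X × X // q.1 ⤳ ζ ∧ q.2 ⤳ ζ ∧ δ q.1 + δ q.2 - n = δ ζ},
      q.1 ≠ (ξ, η) → (Set.indicator {ξ} 1 q.1.1 : ℤ) * Set.indicator {η} 1 q.1.2 *
        IntMult.mult (IntMult.ptIdeal q.1.1) (IntMult.ptIdeal q.1.2) ζ = 0 := fun q hq => by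
    by_cases h1 : q.1.1 = ξ
    · have h2 : q.1.2 ≠ η := fun h2 => hq (Prod.ext h1 h2)
      simp [h2]
    · simp [h1]
  unfold IntMult.interProd
  by_cases h : ξ ⤳ ζ ∧ η ⤳ ζ ∧ δ ξ + δ η - n = δ ζ
  · rw [finsum_eq_single _ ⟨(ξ, η), h⟩ fun q hq => hz q fun e => hq (Subtype.ext e), if_pos h.2.2]
    simp
  · rw [finsum_eq_zero_of_forall_eq_zero fun q => hz q fun e => h ?_]
    · split_ifs with hc
      · rcases not_and_or.1 h with h1 | h1
        · exact (mult_eq_zero_left h1).symm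
        · exact (mult_eq_zero_right fun h2 => h1 ⟨h2, hc⟩).symm
      · rfl
    · have := q.2
      rw [e] at this
      exact this

theorem interProd_swap (δ : X → ℤ) (n : ℤ) (α β : X → ℤ) :
    IntMult.interProd δ n α β = IntMult.interProd δ n β α := by
  funext ζ
  unfold IntMult.interProd
  let e : {q : X × X // q.1 ⤳ ζ ∧ q.2 ⤳ ζ ∧ δ q.1 + δ q.2 - n = δ ζ} ≃
      {q : X × X // q.1 ⤳ ζ ∧ q.2 ⤳ ζ ∧ δ q.1 + δ q.2 - n = δ ζ} :=
    { toFun := fun q => ⟨q.1.swap, q.2.2.1, q.2.1, by have := q.2.2.2; show δ q.1.2 + δ q.1.1 - n = δ ζ; omega⟩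
      invFun := fun q => ⟨q.1.swap, q.2.2.1, q.2.1, by have := q.2.2.2; show δ q.1.2 + δ q.1.1 - n = δ ζ; omega⟩
      left_inv := fun _ => rfl
      right_inv := fun _ => rfl }
  conv_rhs => rw [← finsum_comp_equiv e]
  refine finsum_congr fun q => ?_
  show α q.1.1 * β q.1.2 * IntMult.mult (IntMult.ptIdeal q.1.1) (IntMult.ptIdeal q.1.2) ζ =
    β q.1.2 * α q.1.1 * IntMult.mult (IntMult.ptIdeal q.1.2) (IntMult.ptIdeal q.1.1) ζ
  rw [IntMult.mult, IntMult.mult, IntMult88.chi_comm]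
  ring

variable {K : Type u} [Field K] [IsAlgClosed K]

/-- `Σ (-1)^q χ(O_U, Tor_q(O_V, O_W))` at `ζ`. -/
noncomputable def triple (ξU ξV ξW ζ : X) : ℤ :=
  ∑ᶠ q : ℕ, (-1 : ℤ) ^ q * IntMult.chi (X.presheaf.stalk ζ)
    (X.presheaf.stalk ζ ⧸ IntMult.stalkIdeal (IntMult.ptIdeal ξU) ζ)
    (_root_.DRing.Tor (X.presheaf.stalk ζ) q (X.presheaf.stalk ζ ⧸ IntMult.stalkIdeal (IntMult.ptIdeal ξV) ζ)
      (X.presheaf.stalk ζ ⧸ IntMult.stalkIdeal (IntMult.ptIdeal ξW) ζ))

theorem interProd_side (f : X ⟶ Spec (CommRingCat.of K)) [Smooth f] [IsIntegral X] {δ : X → ℤ}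
    (hδ : Cyc.DeltaCompat f δ (fun _ => 0)) {n : ℤ} (hn : δ (genericPoint X) = n) (ξU ξV ξW : X)
    (hVW : IntMult.IntersectProperly δ n (Set.indicator {ξV} 1) (Set.indicator {ξW} 1))
    (hUVW : ∀ ζ : X, ξU ⤳ ζ → ξV ⤳ ζ → ξW ⤳ ζ → δ ζ ≤ δ ξU + δ ξV + δ ξW - 2 * n) (ζ : X) :
    (¬(δ ζ = δ ξU + δ ξV + δ ξW - 2 * n ∧ ξU ⤳ ζ ∧ ξV ⤳ ζ ∧ ξW ⤳ ζ) →
      IntMult.interProd δ n (Set.indicator {ξU} 1)
        (IntMult.interProd δ n (Set.indicator {ξV} 1) (Set.indicator {ξW} 1)) ζ = 0) ∧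
    ((δ ζ = δ ξU + δ ξV + δ ξW - 2 * n ∧ ξU ⤳ ζ ∧ ξV ⤳ ζ ∧ ξW ⤳ ζ) →
      IntMult.interProd δ n (Set.indicator {ξU} 1)
        (IntMult.interProd δ n (Set.indicator {ξV} 1) (Set.indicator {ξW} 1)) ζ = triple ξU ξV ξW ζ) := by
  classical
  set β := IntMult.interProd δ n (Set.indicator {ξV} 1) (Set.indicator {ξW} 1) with hβ
  have hne : ∀ η, β η ≠ 0 → δ ξV + δ ξW - n = δ η ∧ ξV ⤳ η ∧ ξW ⤳ η := fun η h => by
    rw [hβ, interProd_indicator] at h
    split_ifs at h with hc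
    · exact ⟨hc, by_contra fun h' => h (mult_eq_zero_left h'), by_contra fun h' => h (mult_eq_zero_right h')⟩
    · exact absurd rfl h
  constructor
  · intro hnot
    refine finsum_eq_zero_of_forall_eq_zero fun q => ?_
    by_cases h1 : q.1.1 = ξU
    · by_cases h2 : β q.1.2 = 0
      · simp [h2]
      · obtain ⟨hd2, hV, hW⟩ := hne _ h2
        refine absurd ⟨?_, h1 ▸ q.2.1, hV.trans q.2.2.1, hW.trans q.2.2.1⟩ hnot
        have := q.2.2.2
        rw [h1] at this
        omega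
    · simp [h1]
  rintro ⟨ht, hU, hV, hW⟩
  obtain ⟨R, _, _, _, p, _, _, _⟩ := exists_chart f ζ
  haveI := isRegularLocalRing_localization K R p (X.presheaf.stalk ζ)
  obtain ⟨d, hd, hd'⟩ := ringKrullDim_stalk f hδ ζ
  rw [hn] at hd'
  have hvw : δ ζ ≤ δ ξV + δ ξW - n := hVW ξV ξW ζ (by simp) (by simp) hV hW
  obtain ⟨a, haU, haU'⟩ := ringKrullDim_ptPrime f hδ hU
  obtain ⟨e, he⟩ : ∃ e : ℕ, (e : ℤ) = δ ξV + δ ξW - n - δ ζ := ⟨(δ ξV + δ ξW - n - δ ζ).toNat, by omega⟩
  have hae : a + e = d := by omega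
  let A := X.presheaf.stalk ζ
  let T : ℕ → Type u := fun i => _root_.DRing.Tor A i (A ⧸ (ptPrime ζ ξV hV).asIdeal) (A ⧸ (ptPrime ζ ξW hW).asIdeal)
  haveI : ∀ i, Module.Finite A (T i) := fun i => Groth.Agent.S6315.result A _ _ i
  have hann : ∀ i, (ptPrime ζ ξV hV).asIdeal ⊔ (ptPrime ζ ξW hW).asIdeal ≤ Module.annihilator A (T i) := fun i => by
    have := annihilator_le_tor (A := A) (A ⧸ (ptPrime ζ ξV hV).asIdeal) (A ⧸ (ptPrime ζ ξW hW).asIdeal) i
    rwa [Ideal.annihilator_quotient, Ideal.annihilator_quotient] at this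
  have hmax : ∀ J : Ideal A, J.IsPrime → (ptPrime ζ ξU hU).asIdeal ⊔
      ((ptPrime ζ ξV hV).asIdeal ⊔ (ptPrime ζ ξW hW).asIdeal) ≤ J → maximalIdeal A ≤ J := fun J hJp hJ => by
    obtain ⟨η, h, hη⟩ := exists_ptPrime ζ ⟨J, hJp⟩
    have hJ' : (ptPrime ζ η h).asIdeal = J := congrArg PrimeSpectrum.asIdeal hη
    rw [← hJ'] at hJ
    have h1 := (ptPrime_le_iff hU h).1 (le_sup_left.trans hJ)
    have h2 := (ptPrime_le_iff hV h).1 ((le_sup_left.trans le_sup_right).trans hJ)
    have h3 := (ptPrime_le_iff hW h).1 ((le_sup_right.trans le_sup_right).trans hJ)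
    obtain rfl := eq_of_le f hδ h (ht ▸ hUVW η h1 h2 h3)
    rw [← hJ']
    have : ptPrime η η h = IsLocalRing.closedPoint A :=
      (X.fromSpecStalk η).isEmbedding.injective
        ((fromSpecStalk_ptPrime _ _ _).trans Scheme.fromSpecStalk_closedPoint.symm)
    exact (congrArg PrimeSpectrum.asIdeal this).ge
  have hmeet : ∀ i, Meet (A := A) (A ⧸ (ptPrime ζ ξU hU).asIdeal) (T i) := fun i => by
    rw [Meet, Ideal.annihilator_quotient, Ideal.radical_eq_sInf]
    refine le_sInf ?_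
    rintro J ⟨hJ, hJp⟩
    exact hmax J hJp ((sup_le_sup_left (hann i) _).trans hJ)
  have hsupp : ∀ i, Module.supportDim A (T i) ≤ e := fun i => supportDim_le e fun q hq => by
    obtain ⟨η, h, rfl⟩ := exists_ptPrime ζ q
    have hle := (hann i).trans (Module.mem_support_iff_of_finite.1 hq)
    have h2 := (ptPrime_le_iff hV h).1 (le_sup_left.trans hle)
    have h3 := (ptPrime_le_iff hW h).1 (le_sup_right.trans hle)
    obtain ⟨e', he', he''⟩ := ringKrullDim_ptPrime f hδ h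
    have := hVW ξV ξW η (by simp) (by simp) h2 h3
    rw [he']
    exact_mod_cast (by omega : e' ≤ e)
  obtain ⟨D, hD⟩ := tor_top K R p A (A ⧸ (ptPrime ζ ξV hV).asIdeal) (A ⧸ (ptPrime ζ ξW hW).asIdeal)
  obtain ⟨S, hS, hsum⟩ := finsum_chi_tor K R p hd hae (ptPrime ζ ξU hU) haU.le T D hD hsupp hmeet
  rw [triple, stalkIdeal_ptIdeal hU, stalkIdeal_ptIdeal hV, stalkIdeal_ptIdeal hW]
  rw [hsum]
  let g : PrimeSpectrum A → ℤ := fun q => if ringKrullDim (A ⧸ q.asIdeal) = e then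
    (∑ᶠ i : ℕ, (-1 : ℤ) ^ i * locLen (T i) q) *
      IntMult.chi A (A ⧸ (ptPrime ζ ξU hU).asIdeal) (A ⧸ q.asIdeal) else 0
  rw [← finsum_eq_finsetSum_of_support_subset g (s := S) fun q hq => by
    by_contra hqS
    refine hq ?_
    show (if _ then _ else _) = _
    split_ifs with hqe
    · rw [finsum_eq_zero_of_forall_eq_zero fun i => by rw [hS q hqS hqe i, mul_zero], zero_mul]
    · rfl]
  let Φ : {η : X // η ⤳ ζ ∧ δ η = δ ξV + δ ξW - n} → PrimeSpectrum A := fun η => ptPrime ζ η.1 η.2.1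
  have hΦ : Function.Injective Φ := by
    rintro ⟨η, h, h'⟩ ⟨η', h1, h1'⟩ heq
    have := congrArg (fun q => X.fromSpecStalk ζ q) heq
    simp only [Φ, fromSpecStalk_ptPrime] at this
    exact Subtype.ext this
  have hrange : Function.support g ⊆ Set.range Φ := by
    intro q hq
    simp only [g, Function.mem_support, ne_eq, ite_eq_right_iff, not_forall] at hq
    obtain ⟨h1, -⟩ := hq
    obtain ⟨η, h, hη⟩ := exists_ptPrime ζ q
    obtain ⟨e', he', he''⟩ := ringKrullDim_ptPrime f hδ h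
    rw [hη, h1] at he'
    have : e = e' := by exact_mod_cast he'
    exact ⟨⟨η, h, by omega⟩, hη⟩
  conv_rhs => rw [← Set.indicator_eq_self.mpr hrange, ← finsum_mem_def, finsum_mem_range hΦ]
  let ι : {η : X // η ⤳ ζ ∧ δ η = δ ξV + δ ξW - n} →
      {q : X × X // q.1 ⤳ ζ ∧ q.2 ⤳ ζ ∧ δ q.1 + δ q.2 - n = δ ζ} :=
    fun η => ⟨(ξU, η.1), hU, η.2.1, by have := η.2.2; show δ ξU + δ η.1 - n = δ ζ; omega⟩
  have hι : Function.Injective ι := fun x y h => Subtype.ext (congrArg (fun q => q.1.2) h)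
  unfold IntMult.interProd
  let F : {q : X × X // q.1 ⤳ ζ ∧ q.2 ⤳ ζ ∧ δ q.1 + δ q.2 - n = δ ζ} → ℤ := fun q =>
    Set.indicator {ξU} 1 q.1.1 * β q.1.2 * IntMult.mult (IntMult.ptIdeal q.1.1) (IntMult.ptIdeal q.1.2) ζ
  show finsum F = _
  have hF : Function.support F ⊆ Set.range ι := fun q hq => by
    have h1 : q.1.1 = ξU := by_contra fun h1 => hq (by simp [F, h1])
    refine ⟨⟨q.1.2, q.2.2.1, by have := q.2.2.2; rw [h1] at this; omega⟩, Subtype.ext (Prod.ext h1.symm rfl)⟩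
  conv_lhs => rw [← Set.indicator_eq_self.mpr hF, ← finsum_mem_def, finsum_mem_range hι]
  refine finsum_congr fun η => ?_
  obtain ⟨η, h, hc⟩ := η
  obtain ⟨e', he', he''⟩ := ringKrullDim_ptPrime f hδ h
  show Set.indicator {ξU} 1 ξU * β η * IntMult.mult (IntMult.ptIdeal ξU) (IntMult.ptIdeal η) ζ =
    g (ptPrime ζ η h)
  have hee : ringKrullDim (A ⧸ (ptPrime ζ η h).asIdeal) = e := by
    rw [he', show e' = e by omega]
  letI : Algebra A (X.presheaf.stalk η) := (X.presheaf.stalkSpecializes h).hom.toAlgebra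
  haveI : IsLocalization.AtPrime (X.presheaf.stalk η) (ptPrime ζ η h).asIdeal :=
    isLocalization_stalkSpecializes h
  have eV : IntMult.stalkIdeal (IntMult.ptIdeal ξV) η =
      (ptPrime ζ ξV hV).asIdeal.map (algebraMap A (X.presheaf.stalk η)) := by
    rw [← stalkIdeal_map _ h, stalkIdeal_ptIdeal hV]; rfl
  have eW : IntMult.stalkIdeal (IntMult.ptIdeal ξW) η =
      (ptPrime ζ ξW hW).asIdeal.map (algebraMap A (X.presheaf.stalk η)) := by
    rw [← stalkIdeal_map _ h, stalkIdeal_ptIdeal hW]; rfl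
  have hloc : ∑ᶠ i : ℕ, (-1 : ℤ) ^ i * locLen (T i) (ptPrime ζ η h) = β η := by
    rw [finsum_locLen_tor (ptPrime ζ η h) (X.presheaf.stalk η),
      chi_congr_left _ (quotTensor _ _), chi_congr_right _ (quotTensor _ _), hβ, interProd_indicator,
      if_pos hc.symm, IntMult.mult, IntMult88.chi_comm, eV, eW]
  simp only [g, if_pos hee, hloc, Set.indicator_of_mem (Set.mem_singleton ξU), Pi.one_apply, one_mul]
  rw [mult_ptIdeal hU h, IntMult88.chi_comm]

end Sch

end Groth.Agent.IntMult66
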