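import Groth.Agent.IntMult66.Bilin
import Groth.Agent.S6450

/-!
# Associativity, expanded over finite supports
-/

set_option autoImplicit false
set_option linter.style.haveILetI false

universe u

open CategoryTheory AlgebraicGeometry

namespace Groth.Agent.IntMult66

open CycLib

variable {K : Type u} [Field K] {X : Scheme.{u}}

/-- Two properly intersecting prime cycles have a product with finite support. -/
theorem finite_support_interProd_prime (f : X ⟶ Spec (CommRingCat.of K)) [LocallyOfFiniteType f] [QuasiCompact f]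
    {δ : X → ℤ} (hδ : Cyc.DeltaCompat f δ (fun _ => 0)) (n : ℤ) (a b : X)
    (h : IntMult.IntersectProperly δ n (Set.indicator {a} 1) (Set.indicator {b} 1)) :
    (Function.support (IntMult.interProd δ n (Set.indicator {a} 1) (Set.indicator {b} 1))).Finite := by
  classical
  haveI : IsLocallyNoetherian X := LocallyOfFiniteType.isLocallyNoetherian f
  haveI : CompactSpace X := QuasiCompact.compactSpace_of_compactSpace f
  haveI : IsNoetherian X := {}
  obtain ⟨C, hCfin, hCc, hCirr, hC⟩ := TopologicalSpace.NoetherianSpace.exists_finite_set_isClosed_irreducible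
    ((isClosed_closure (s := ({a} : Set X))).inter (isClosed_closure (s := ({b} : Set X))))
  haveI : Finite C := hCfin.to_subtype
  refine (Set.finite_range fun t : C => (hCirr t.1 t.2).genericPoint).subset fun w hw => ?_
  rw [Function.mem_support, interProd_indicator] at hw
  split_ifs at hw with hd
  · have haw : a ⤳ w := by_contra fun h' => hw (mult_eq_zero_left h')
    have hbw : b ⤳ w := by_contra fun h' => hw (mult_eq_zero_right h')
    obtain ⟨t, ht, hwt⟩ := hC.le ⟨specializes_iff_mem_closure.1 haw, specializes_iff_mem_closure.1 hbw⟩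
    have hg := (hCirr t ht).isGenericPoint_genericPoint (hCc t ht)
    obtain ⟨hag, hbg⟩ := hC.ge ⟨t, ht, hg.mem⟩
    refine ⟨⟨t, ht⟩, ?_⟩
    have h3 := h a b _ (by simp) (by simp) (specializes_iff_mem_closure.2 hag) (specializes_iff_mem_closure.2 hbg)
    show (hCirr t ht).genericPoint = w
    exact eq_of_le f hδ (hg.specializes hwt) (by omega)
  · exact absurd rfl hw

/-- `[ξ] · (α · β) = ([ξ] · β) · α`. -/
theorem assoc_expand [IsAlgClosed K] (f : X ⟶ Spec (CommRingCat.of K)) [Smooth f] [IsSeparated f] [QuasiCompact f]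
    [IsIntegral X] {δ : X → ℤ} (hX : Cyc.IsSetup X δ) (hδ : Cyc.DeltaCompat f δ (fun _ => 0)) {n : ℤ}
    (hn : δ (genericPoint X) = n) (ξ : X) (α β : X → ℤ) (S T : Finset X)
    (hS : ∀ u, u ∉ S → α u = 0) (hT : ∀ u, u ∉ T → β u = 0)
    (hUα : ∀ a u z, α a ≠ 0 → u = ξ → u ⤳ z → a ⤳ z → δ z ≤ δ u + δ a - n)
    (hUβ : ∀ b u z, β b ≠ 0 → u = ξ → u ⤳ z → b ⤳ z → δ z ≤ δ u + δ b - n)
    (hαβ : IntMult.IntersectProperly δ n α β)
    (hall : ∀ a b z, α a ≠ 0 → β b ≠ 0 → ξ ⤳ z → b ⤳ z → a ⤳ z → δ z ≤ δ ξ + δ b + δ a - 2 * n)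
    (μf : X → ℤ) (hμf : μf = IntMult.interProd δ n (Set.indicator {ξ} 1) β) (z : X) :
    IntMult.interProd δ n (Set.indicator {ξ} 1) (IntMult.interProd δ n α β) z =
      IntMult.interProd δ n μf α z := by
  classical
  have hone : ∀ {x y : X}, (Set.indicator {x} 1 y : ℤ) ≠ 0 → y = x := fun h =>
    Set.mem_singleton_iff.1 (Set.mem_of_indicator_ne_zero h)
  let P : X → X → X → ℤ := fun a b => IntMult.interProd δ n (Set.indicator {a} 1) (Set.indicator {b} 1)
  let S' := S.filter fun a => α a ≠ 0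
  let T' := T.filter fun b => β b ≠ 0
  have hS' : ∀ u, u ∉ S' → α u = 0 := fun u hu => by
    by_contra h
    exact hu (Finset.mem_filter.2 ⟨by_contra fun h' => h (hS u h'), h⟩)
  have hT' : ∀ u, u ∉ T' → β u = 0 := fun u hu => by
    by_contra h
    exact hu (Finset.mem_filter.2 ⟨by_contra fun h' => h (hT u h'), h⟩)
  have hpab : ∀ a ∈ S', ∀ b ∈ T', IntMult.IntersectProperly δ n (Set.indicator {b} 1) (Set.indicator {a} 1) := by
    intro a ha b hb u v w hu hv h1 h2
    obtain rfl := hone hu
    obtain rfl := hone hv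
    have := hαβ v u w (Finset.mem_filter.1 ha).2 (Finset.mem_filter.1 hb).2 h2 h1
    omega
  have hpξb : ∀ b ∈ T', IntMult.IntersectProperly δ n (Set.indicator {ξ} 1) (Set.indicator {b} 1) := by
    intro b hb u v w hu hv h1 h2
    obtain rfl := hone hv
    exact hUβ _ u w (Finset.mem_filter.1 hb).2 (hone hu) h1 h2
  have hpξa : ∀ a ∈ S', IntMult.IntersectProperly δ n (Set.indicator {ξ} 1) (Set.indicator {a} 1) := by
    intro a ha u v w hu hv h1 h2
    obtain rfl := hone hv
    exact hUα _ u w (Finset.mem_filter.1 ha).2 (hone hu) h1 h2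
  obtain ⟨W, hW⟩ : ∃ W : Finset X, ∀ a ∈ S', ∀ b ∈ T', ∀ w, w ∉ W → P b a w = 0 := by
    have hfin : (⋃ a ∈ S', ⋃ b ∈ T', Function.support (P b a)).Finite :=
      Set.Finite.biUnion S'.finite_toSet fun a ha => Set.Finite.biUnion T'.finite_toSet fun b hb =>
        finite_support_interProd_prime f hδ n b a (hpab a ha b hb)
    refine ⟨hfin.toFinset, fun a ha b hb w hw => by_contra fun h => hw ?_⟩
    rw [Set.Finite.mem_toFinset]
    simp only [Set.mem_iUnion, Function.mem_support]
    exact ⟨a, ha, b, hb, h⟩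
  obtain ⟨U, hU⟩ : ∃ U : Finset X, ∀ b ∈ T', ∀ w, w ∉ U → P ξ b w = 0 := by
    have hfin : (⋃ b ∈ T', Function.support (P ξ b)).Finite :=
      Set.Finite.biUnion T'.finite_toSet fun b hb => finite_support_interProd_prime f hδ n ξ b (hpξb b hb)
    refine ⟨hfin.toFinset, fun b hb w hw => by_contra fun h => hw ?_⟩
    rw [Set.Finite.mem_toFinset]
    simp only [Set.mem_iUnion, Function.mem_support]
    exact ⟨b, hb, h⟩
  have hξ : ∀ u, u ∉ ({ξ} : Finset X) → (Set.indicator {ξ} 1 u : ℤ) = 0 := fun u hu =>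
    Set.indicator_of_notMem (by simpa using hu) _
  have hξ1 : (Set.indicator {ξ} 1 ξ : ℤ) = 1 := by simp
  have hγ : ∀ w, IntMult.interProd δ n α β w = ∑ a ∈ S', ∑ b ∈ T', α a * β b * P b a w := fun w => by
    rw [interProd_eq_sum δ n α β S' T' hS' hT' w]
    exact Finset.sum_congr rfl fun a _ => Finset.sum_congr rfl fun b _ => by rw [interProd_swap]
  have hμ : ∀ w, μf w = ∑ b ∈ T', β b * P ξ b w := fun w => by
    rw [hμf, interProd_eq_sum δ n _ _ {ξ} T' hξ hT' w, Finset.sum_singleton, hξ1]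
    exact Finset.sum_congr rfl fun b _ => by rw [one_mul]
  rw [interProd_eq_sum δ n _ _ {ξ} W hξ (fun w hw => by
      rw [hγ]
      exact Finset.sum_eq_zero fun a ha => Finset.sum_eq_zero fun b hb => by rw [hW a ha b hb w hw, mul_zero]) z,
    interProd_eq_sum δ n _ _ U S' (fun w hw => by
      rw [hμ]
      exact Finset.sum_eq_zero fun b hb => by rw [hU b hb w hw, mul_zero]) hS' z,
    Finset.sum_singleton]
  have key : ∀ a ∈ S', ∀ b ∈ T', ∑ w ∈ W, P b a w * P ξ w z = ∑ u ∈ U, P ξ b u * P u a z := by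
    intro a ha b hb
    have h := congrFun (Groth.Agent.S6450.result K X f δ hX hδ n hn ξ b a (hpξb b hb) (hpab a ha b hb) (hpξa a ha)
      fun w h1 h2 h3 => hall a b w (Finset.mem_filter.1 ha).2 (Finset.mem_filter.1 hb).2 h1 h2 h3) z
    rw [interProd_eq_sum δ n _ _ {ξ} W hξ (hW a ha b hb) z,
      interProd_eq_sum δ n _ _ U {a} (hU b hb) (fun u hu => Set.indicator_of_notMem (by simpa using hu) _) z,
      Finset.sum_singleton] at h
    simpa [P] using h
  calc ∑ w ∈ W, Set.indicator {ξ} 1 ξ * IntMult.interProd δ n α β w * P ξ w z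
      = ∑ w ∈ W, ∑ a ∈ S', ∑ b ∈ T', α a * β b * (P b a w * P ξ w z) :=
        Finset.sum_congr rfl fun w _ => by
          rw [hξ1, one_mul, hγ, Finset.sum_mul]
          exact Finset.sum_congr rfl fun a _ => by
            rw [Finset.sum_mul]
            exact Finset.sum_congr rfl fun b _ => by ring
    _ = ∑ a ∈ S', ∑ b ∈ T', α a * β b * ∑ w ∈ W, P b a w * P ξ w z := by
        rw [Finset.sum_comm]
        exact Finset.sum_congr rfl fun a _ => by
          rw [Finset.sum_comm]
          exact Finset.sum_congr rfl fun b _ => by rw [Finset.mul_sum]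
    _ = ∑ a ∈ S', ∑ b ∈ T', α a * β b * ∑ u ∈ U, P ξ b u * P u a z :=
        Finset.sum_congr rfl fun a ha => Finset.sum_congr rfl fun b hb => by rw [key a ha b hb]
    _ = ∑ u ∈ U, ∑ a ∈ S', μf u * α a * P u a z := by
        refine Eq.symm ?_
        rw [Finset.sum_comm]
        refine Finset.sum_congr rfl fun a _ => ?_
        simp only [hμ, Finset.sum_mul, Finset.mul_sum]
        rw [Finset.sum_comm]
        exact Finset.sum_congr rfl fun b _ => Finset.sum_congr rfl fun u _ => by ring

end Groth.Agent.IntMult66
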