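import Groth.Agent.IntMult66.Assoc2
import Groth.Agent.CycLib.ShiftPull

/-!
# Bilinearity of the intersection product, and prime cycles as cycles of sheaves
-/

set_option autoImplicit false
set_option linter.style.haveILetI false

universe u

open CategoryTheory AlgebraicGeometry

namespace Groth.Agent.IntMult66

open CycLib

variable {X : Scheme.{u}} {K : Type u} [Field K]

/-- Bilinearity. -/
theorem interProd_eq_sum (δ : X → ℤ) (n : ℤ) (α β : X → ℤ) (S T : Finset X)
    (hS : ∀ x, x ∉ S → α x = 0) (hT : ∀ x, x ∉ T → β x = 0) (ζ : X) :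
    IntMult.interProd δ n α β ζ = ∑ ξ ∈ S, ∑ η ∈ T,
      α ξ * β η * IntMult.interProd δ n (Set.indicator {ξ} 1) (Set.indicator {η} 1) ζ := by
  classical
  simp only [interProd_indicator]
  rw [← Finset.sum_product']
  let g : X × X → ℤ := fun q => if q.1 ⤳ ζ ∧ q.2 ⤳ ζ ∧ δ q.1 + δ q.2 - n = δ ζ then
    α q.1 * β q.2 * IntMult.mult (IntMult.ptIdeal q.1) (IntMult.ptIdeal q.2) ζ else 0
  have h1 : IntMult.interProd δ n α β ζ = ∑ᶠ q, g q := by
    have hsub : Function.support g ⊆ Set.range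
        (Subtype.val : {q : X × X // q.1 ⤳ ζ ∧ q.2 ⤳ ζ ∧ δ q.1 + δ q.2 - n = δ ζ} → X × X) := fun q hq => by
      by_cases h : q.1 ⤳ ζ ∧ q.2 ⤳ ζ ∧ δ q.1 + δ q.2 - n = δ ζ
      · exact ⟨⟨q, h⟩, rfl⟩
      · exact absurd (if_neg h) hq
    conv_rhs => rw [← Set.indicator_eq_self.mpr hsub, ← finsum_mem_def, finsum_mem_range Subtype.val_injective]
    exact finsum_congr fun q => (if_pos q.2).symm
  rw [h1, finsum_eq_finsetSum_of_support_subset g (s := S ×ˢ T) fun q hq => by
    simp only [g, Function.mem_support, ne_eq, ite_eq_right_iff, mul_eq_zero, not_forall, not_or] at hq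
    rw [Finset.coe_product, Set.mem_prod]
    exact ⟨by_contra fun h => hq.2.1.1 (hS _ h), by_contra fun h => hq.2.1.2 (hT _ h)⟩]
  refine Finset.sum_congr rfl fun q _ => ?_
  by_cases hc : δ q.1 + δ q.2 - n = δ ζ
  · rw [if_pos hc]
    by_cases h2 : q.1 ⤳ ζ ∧ q.2 ⤳ ζ
    · exact if_pos ⟨h2.1, h2.2, hc⟩
    · rw [show g q = 0 from if_neg fun h => h2 ⟨h.1, h.2.1⟩]
      rcases not_and_or.1 h2 with h3 | h3
      · rw [mult_eq_zero_left h3, mul_zero]
      · rw [mult_eq_zero_right h3, mul_zero]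
  · rw [if_neg hc, mul_zero]
    exact if_neg fun h => hc h.2.2

theorem eq_sum_indicator {ι : Type*} (α : ι → ℤ) (S : Finset ι) (hS : ∀ x, x ∉ S → α x = 0) (x : ι) :
    α x = ∑ ξ ∈ S, α ξ * Set.indicator {ξ} 1 x := by
  classical
  rw [Finset.sum_eq_single x (fun ξ _ h => by simp [Ne.symm h]) (fun h => by simp [hS x h])]
  simp

/-- The bound and the value of the cycle of the structure sheaf of a point's closure. -/
theorem sheafFun_oz (f : X ⟶ Spec (CommRingCat.of K)) [LocallyOfFiniteType f] {δ : X → ℤ}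
    (hδ : Cyc.DeltaCompat f δ (fun _ => 0)) (ξ : X) :
    (∀ y : X, Nontrivial ((Cyc.closureStructureSheaf ξ).presheaf.stalk y) → ξ ⤳ y) ∧
      Cyc.sheafFun δ (δ ξ) (Cyc.closureStructureSheaf ξ) = Set.indicator {ξ} 1 := by
  classical
  have hsupp : ∀ y : X, Nontrivial ((Cyc.closureStructureSheaf ξ).presheaf.stalk y) → ξ ⤳ y := fun y hy =>
    specializes_iff_mem_closure.2 (CohDev.support_oz_subset ξ (not_subsingleton_iff_nontrivial.2 hy))
  refine ⟨hsupp, funext fun y => ?_⟩
  by_cases hy : y = ξ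
  · subst hy
    rw [Cyc.sheafFun, if_pos rfl, CohDev.length_stalk_oz]
    simp
  · rw [Set.indicator_of_notMem (by simpa using hy), Cyc.sheafFun]
    split_ifs with h
    · rcases subsingleton_or_nontrivial ((Cyc.closureStructureSheaf ξ).presheaf.stalk y) with h0 | h0
      · simp [Module.length_eq_zero]
      · exact absurd (eq_of_le f hδ (hsupp y h0) h.ge).symm hy
    · rfl

end Groth.Agent.IntMult66
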