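import Groth.Agent.IntMult66.TorShift
import Mathlib.RingTheory.Flat.Basic

/-!
# Reduction to the diagonal, abstract form

`B → A` is a retraction of `A → B`, and `L` is a `B`-module, flat over `A`, acyclic for `A ⊗_B ·`
with `A ⊗_B L ≅ N`. Then `Tor^A(N, M)` and `Tor^B(A, L ⊗_A M)` have the same lengths.
-/

set_option autoImplicit false
set_option linter.style.haveILetI false

universe u

open CategoryTheory CategoryTheory.Limits
open scoped TensorProduct

namespace Groth.Agent.IntMult66

section Congr

variable {A : Type u} [CommRing A]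

theorem length_tor_congr_right (N : Type u) [AddCommGroup N] [Module A N] {X Y : Type u}
    [AddCommGroup X] [Module A X] [AddCommGroup Y] [Module A Y] (e : X ≃ₗ[A] Y) (i : ℕ) :
    Module.length A (_root_.DRing.Tor A i N X) = Module.length A (_root_.DRing.Tor A i N Y) :=
  (((CategoryTheory.Tor (ModuleCat.{u} A) i).obj (ModuleCat.of A N)).mapIso
    e.toModuleIso).toLinearEquiv.length_eq

theorem chi_congr_right (N : Type u) [AddCommGroup N] [Module A N] {X Y : Type u}
    [AddCommGroup X] [Module A X] [AddCommGroup Y] [Module A Y] (e : X ≃ₗ[A] Y) :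
    IntMult.chi A N X = IntMult.chi A N Y := by
  unfold IntMult.chi
  exact finsum_congr fun i => by rw [length_tor_congr_right N e i]

theorem chi_congr_left (N : Type u) [AddCommGroup N] [Module A N] {X Y : Type u}
    [AddCommGroup X] [Module A X] [AddCommGroup Y] [Module A Y] (e : X ≃ₗ[A] Y) :
    IntMult.chi A X N = IntMult.chi A Y N := by
  rw [IntMult88.chi_comm, chi_congr_right N e, IntMult88.chi_comm]

end Congr

variable {A B : Type u} [CommRing A] [CommRing B] [Algebra A B] [Algebra B A] [IsScalarTower A B A]
  (L : Type u) [AddCommGroup L] [Module B L] [Module A L] [IsScalarTower A B L] [Module.Flat A L]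
  (N : Type u) [AddCommGroup N] [Module A N]

omit [Module.Flat A L] in
theorem surjective_algebraMap : Function.Surjective (algebraMap B A) := fun a =>
  ⟨algebraMap A B a, (IsScalarTower.algebraMap_apply A B A a).symm⟩

theorem length_tor_eq [IsNoetherianRing A] (e : A ⊗[B] L ≃ₗ[A] N)
    (hL : ∀ i : ℕ, 0 < i → Subsingleton (_root_.DRing.Tor B i A L)) :
    ∀ (i : ℕ) (M : Type u) [AddCommGroup M] [Module A M] [Module.Finite A M],
      Module.length B (_root_.DRing.Tor B i A (L ⊗[A] M)) =
        Module.length A (_root_.DRing.Tor A i N M) := by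
  classical
  have hs := surjective_algebraMap (A := A) (B := B)
  let eM : ∀ (M : Type u) [AddCommGroup M] [Module A M], N ⊗[A] M ≃ₗ[A] A ⊗[B] (L ⊗[A] M) :=
    fun M _ _ => (TensorProduct.congr e.symm (LinearEquiv.refl A M)) ≪≫ₗ
      TensorProduct.AlgebraTensorModule.assoc A B A A L M
  intro i
  induction i using Nat.strong_induction_on with
  | _ i ih =>
  intro M _ _ _
  obtain ⟨m, p, hp⟩ := Module.Finite.exists_fin' A M
  let K := LinearMap.ker p
  let f : K →ₗ[A] (Fin m → A) := K.subtype
  have hf : Function.Injective f := Subtype.val_injective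
  have hfg : Function.Exact f p := LinearMap.exact_subtype_ker_map p
  let fE : L ⊗[A] K →ₗ[B] L ⊗[A] (Fin m → A) := TensorProduct.AlgebraTensorModule.lTensor B L f
  let pE : L ⊗[A] (Fin m → A) →ₗ[B] L ⊗[A] M := TensorProduct.AlgebraTensorModule.lTensor B L p
  have hfE : Function.Injective fE := Module.Flat.lTensor_preserves_injective_linearMap f hf
  have hpE : Function.Surjective pE := LinearMap.lTensor_surjective L hp
  have hfgE : Function.Exact fE pE := lTensor_exact L hfg hp
  have hA : ∀ j : ℕ, 0 < j → Subsingleton (_root_.DRing.Tor A j N (Fin m → A)) := fun j hj =>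
    subsingleton_tor_projective N _ j hj
  have hB : ∀ j : ℕ, 0 < j → Subsingleton (_root_.DRing.Tor B j A (L ⊗[A] (Fin m → A))) :=
    fun j hj => by
    rw [← Module.length_eq_zero_iff (R := B),
      length_tor_congr_right A (TensorProduct.piScalarRight A B L (Fin m)) j,
      Module.length_eq_zero_iff]
    exact subsingleton_tor_pi A L j (hL j hj) m
  obtain ⟨a1, a2⟩ := length_shift N f p hf hp hfg hA
  obtain ⟨b1, b2⟩ := length_shift A fE pE hfE hpE hfgE hB
  match i with
  | 0 =>
    rw [length_tor_zero, length_tor_zero, Module.length_eq_of_surjective hs]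
    exact (eM M).length_eq.symm
  | 1 =>
    rw [b2, a2]
    let G : A ⊗[B] (L ⊗[A] K) →ₗ[A] A ⊗[B] (L ⊗[A] (Fin m → A)) :=
      TensorProduct.AlgebraTensorModule.lTensor A A fE
    have hG : G ∘ₗ (eM K).toLinearMap = (eM (Fin m → A)).toLinearMap ∘ₗ f.lTensor N := by
      refine TensorProduct.ext' fun n k => ?_
      obtain ⟨z, rfl⟩ := e.surjective n
      simp only [LinearMap.comp_apply, LinearEquiv.coe_coe, LinearMap.lTensor_tmul, eM,
        LinearEquiv.trans_apply, TensorProduct.congr_tmul, LinearEquiv.symm_apply_apply,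
        LinearEquiv.refl_apply]
      induction z with
      | zero => simp only [TensorProduct.zero_tmul, map_zero]
      | tmul a x => rfl
      | add x y hx hy => simp only [TensorProduct.add_tmul, map_add, hx, hy]
    have hker : (LinearMap.ker (f.lTensor N)).map (eM K).toLinearMap = LinearMap.ker G := by
      ext z
      obtain ⟨w, rfl⟩ := (eM K).surjective z
      rw [LinearMap.mem_ker, ← LinearEquiv.coe_coe, Submodule.mem_map]
      have h1 : G (eM K w) = eM (Fin m → A) (f.lTensor N w) := LinearMap.congr_fun hG w
      refine ⟨?_, fun h => ⟨w, ?_, rfl⟩⟩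
      · rintro ⟨v, hv, hvw⟩
        obtain rfl := (eM K).injective hvw
        exact h1.trans (by rw [LinearMap.mem_ker.1 hv, map_zero])
      · rw [LinearMap.mem_ker]
        exact (eM (Fin m → A)).injective ((h1.symm.trans h).trans (map_zero _).symm)
    have h3 : Module.length A (LinearMap.ker (f.lTensor N)) = Module.length A (LinearMap.ker G) :=
      LinearEquiv.length_eq ((eM K).ofSubmodules _ _ hker)
    have h2 : Module.length B (LinearMap.ker G) = Module.length A (LinearMap.ker G) :=
      Module.length_eq_of_surjective hs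
    rw [h3, ← h2]
    exact LinearEquiv.length_eq
      { toFun := fun x => ⟨x.1, x.2⟩, invFun := fun x => ⟨x.1, x.2⟩,
        left_inv := fun _ => rfl, right_inv := fun _ => rfl,
        map_add' := fun _ _ => rfl, map_smul' := fun _ _ => rfl }
  | n + 2 =>
    rw [b1 n, a1 n]
    exact ih (n + 1) (by omega) K

theorem chi_eq [IsNoetherianRing A] (e : A ⊗[B] L ≃ₗ[A] N)
    (hL : ∀ i : ℕ, 0 < i → Subsingleton (_root_.DRing.Tor B i A L))
    (M : Type u) [AddCommGroup M] [Module A M] [Module.Finite A M] :
    IntMult.chi A N M = IntMult.chi B A (L ⊗[A] M) := by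
  unfold IntMult.chi
  exact finsum_congr fun i => by rw [length_tor_eq L N e hL i M]

end Groth.Agent.IntMult66
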