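import Groth.Statements.S19499
import Groth.Agent.S2896
import Groth.Agent.S1676
import Groth.Agent.S8654
import Groth.Agent.CAlg48.QRBase
import Groth.Agent.KReg44.Ideal
import Groth.Agent.KReg44.Weakly
import Groth.Agent.CycLib.P1Sect
import Groth.Agent.CohOps.PnSmooth
import Groth.Agent.HilbD.Push
import Groth.Agent.BlowUp.Basic

/-!
# Base change of the deformation space
-/

set_option autoImplicit false
set_option linter.style.haveILetI false
set_option maxHeartbeats 1000000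

universe u

open CategoryTheory CategoryTheory.Limits AlgebraicGeometry

namespace Groth.Agent.IntMult66.DefBC

open Groth.Agent.CycLib

theorem isBlowUp_of_comp_iso {Y X X₁ : Scheme.{u}} {b : Y ⟶ X} (e : X ≅ X₁) {J : X₁.IdealSheafData}
    (h : BlowUp.IsBlowUp (b ≫ e.hom) J) : BlowUp.IsBlowUp b (J.comap e.hom) := by
  refine ⟨?_, fun T g hg => ?_⟩
  · rw [← Scheme.IdealSheafData.comap_comp]; exact h.1
  · rw [← Scheme.IdealSheafData.comap_comp] at hg
    obtain ⟨l, hl, hu⟩ := h.2 T (g ≫ e.hom) hg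
    refine ⟨l, (cancel_mono e.hom).1 (by rw [Category.assoc]; exact hl), fun l' hl' => hu l' ?_⟩
    show l' ≫ b ≫ e.hom = g ≫ e.hom
    rw [← Category.assoc, show l' ≫ b = g from hl']

/-- A closed immersion, regular of some codimension, is Koszul regular. -/
theorem koszul_of_regular {Z X : Scheme.{u}} {c : ℕ} (i : Z ⟶ X)
    (hi : RegImm.IsRegularImmersionOfCodim RegImm.Kind.regular c i) :
    RegImm.IsRegularImmersion RegImm.Kind.koszul i := by
  refine ⟨hi.1, fun z => ?_⟩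
  obtain ⟨U, hU, hci, rs, -, hrs, hker⟩ := hi.2 z
  exact ⟨U, hU, hci, rs, KReg44.isKoszulRegularSeq_of_isWeaklyRegular rs.length rs rfl hrs.toIsWeaklyRegular, hker⟩

theorem koszul_sect (X : Scheme.{u}) (k : Fin (1 + 1)) :
    RegImm.IsRegularImmersion RegImm.Kind.koszul (P1.sect X k) := by
  haveI := CohOps.PnSmooth.smooth_toBase (n := 1) X
  obtain ⟨_, hloc⟩ := Groth.Agent.S1676.result (CohB1.ProjSpaceOver.toBase 1 X) (P1.sect X k) (sect_toBase X k)
  refine ⟨inferInstance, fun z => ?_⟩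
  obtain ⟨U, hU, hz, rs, hrs, hker⟩ := hloc z
  refine ⟨⟨U, hU⟩, hz, IsZariskiLocalAtTarget.restrict (P := @IsClosedImmersion) inferInstance U, rs,
    KReg44.isKoszulRegularSeq_of_isWeaklyRegular rs.length rs rfl hrs.toIsWeaklyRegular, ?_⟩
  rw [← hker, Scheme.Hom.ker_apply]

/-- The thickenings of a Koszul-regularly immersed subscheme flat over the base are flat. -/
theorem flat_thickenings {Z P S : Scheme.{u}} (j : Z ⟶ P) [IsClosedImmersion j]
    (hj : RegImm.IsRegularImmersion RegImm.Kind.koszul j) (g : P ⟶ S) [Flat (j ≫ g)] (n : ℕ) :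
    Flat ((j.ker ^ (n + 1)).subschemeι ≫ g) := by
  classical
  set J := j.ker ^ (n + 1)
  refine (HasRingHomProperty.iff_exists_appLE (P := @Flat)
    (RingHom.Flat.stableUnderComposition.stableUnderCompositionWithLocalizationAway
      RingHom.Flat.holdsForLocalizationAway).1).2 fun x => ?_
  obtain ⟨z, hz⟩ : J.subschemeι x ∈ Set.range j := by
    have h1 : J.subschemeι x ∈ (J.support : Set P) := by
      rw [← Scheme.IdealSheafData.range_subschemeι]; exact ⟨x, rfl⟩
    have h2 : (J.support : Set P) ≤ closure (Set.range j) := by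
      rw [← Scheme.Hom.support_ker]
      simp [J]
    simpa [j.isClosedEmbedding.isClosed_range.closure_eq] using h2 h1
  obtain ⟨U, hzU, hci, rs, hrs, hker⟩ := hj.2 z
  obtain ⟨V, hV, hzV, -⟩ := exists_isAffineOpen_mem_and_subset (x := g (j z)) (U := (⊤ : S.Opens)) trivial
  obtain ⟨f, hfle, hzf⟩ := U.2.exists_basicOpen_le (V := g ⁻¹ᵁ V) ⟨j z, hzV⟩ hzU
  let W : P.affineOpens := ⟨P.basicOpen f, U.2.basicOpen f⟩
  have hIW : j.ker.ideal W = (j.ker.ideal U).map (P.presheaf.map (homOfLE (P.basicOpen_le f)).op).hom :=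
    (j.ker.map_ideal_basicOpen U f).symm
  let ρ := (P.presheaf.map (homOfLE (P.basicOpen_le f)).op).hom
  have hρ : ρ.Flat := by
    haveI := U.2.isLocalization_basicOpen f
    exact RingHom.flat_algebraMap_iff.2 (IsLocalization.flat Γ(P, P.basicOpen f) (Submonoid.powers f))
  have hrs' : LCI.IsKoszulRegularSeq Γ(P, W.1) (rs.map ρ) := KReg44.isKoszulRegularSeq_map ρ hρ hrs
  have hgen : j.ker.ideal W = Ideal.ofList (rs.map ρ) := by
    rw [hIW, Scheme.Hom.ker_apply, hker, Ideal.map_ofList]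
  set l := rs.map ρ
  letI : Algebra Γ(S, V) Γ(P, W.1) := (g.appLE V W.1 hfle).hom.toAlgebra
  have hflat : Module.Flat Γ(S, V) (Γ(P, W.1) ⧸ Ideal.span (Set.range l.get)) := by
    rw [show Ideal.span (Set.range l.get) = j.ker.ideal W by
      rw [hgen, Ideal.ofList]
      exact congrArg Ideal.span (Set.range_list_get l)]
    haveI hW' : IsAffineOpen (j ⁻¹ᵁ W.1) := W.2.preimage j
    have h1 := (j ≫ g).flat_appLE hV hW' (fun y hy => hfle hy)
    rw [← Scheme.Hom.appLE_comp_appLE j g V W.1 (j ⁻¹ᵁ W.1) hfle le_rfl, Scheme.Hom.appLE_eq_app] at h1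
    let τ : Γ(P, W.1) ⧸ j.ker.ideal W →+* Γ(Z, j ⁻¹ᵁ W.1) :=
      Ideal.Quotient.lift _ (j.app W.1).hom (fun a ha => by rwa [Scheme.Hom.ker_apply] at ha)
    have hτ : Function.Bijective τ := by
      refine ⟨?_, Ideal.Quotient.lift_surjective_of_surjective _ _ (j.app_surjective W.1 W.2)⟩
      rw [injective_iff_map_eq_zero]
      intro a ha
      obtain ⟨a, rfl⟩ := Ideal.Quotient.mk_surjective a
      rw [Ideal.Quotient.lift_mk] at ha
      rw [Ideal.Quotient.eq_zero_iff_mem, Scheme.Hom.ker_apply]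
      exact ha
    letI : Algebra Γ(S, V) Γ(Z, j ⁻¹ᵁ W.1) := ((g.appLE V W.1 hfle) ≫ j.app W.1).hom.toAlgebra
    haveI : Module.Flat Γ(S, V) Γ(Z, j ⁻¹ᵁ W.1) := h1
    exact Module.Flat.of_linearEquiv (AlgEquiv.ofBijective
      ({ τ with commutes' := fun r => rfl } : (Γ(P, W.1) ⧸ j.ker.ideal W) →ₐ[Γ(S, V)] Γ(Z, j ⁻¹ᵁ W.1)) hτ).toLinearEquiv
  have hq : CAlgX.IsQuasiRegular l.get := KReg44.isQuasiRegular l.get (by rwa [List.ofFn_get])
  have hpow := CAlg48.QRBase.flat_quotient_pow l.get hq (A := Γ(S, V)) (n + 1)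
  rw [show Ideal.span (Set.range l.get) ^ (n + 1) = J.ideal W by
    rw [show Ideal.span (Set.range l.get) = j.ker.ideal W by
      rw [hgen, Ideal.ofList]
      exact congrArg Ideal.span (Set.range_list_get l)]
    rfl] at hpow
  have hJW : IsAffineOpen (J.subschemeι ⁻¹ᵁ W.1) := W.2.preimage J.subschemeι
  have hra : (g.appLE V W.1 hfle ≫ J.subschemeι.app W.1).hom.Flat := by
    rw [J.subschemeι_app W, ← Category.assoc, CommRingCat.hom_comp]
    refine RingHom.Flat.comp ?_ (RingHom.Flat.of_bijective (ConcreteCategory.bijective_of_isIso _))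
    exact hpow
  refine ⟨⟨V, hV⟩, ⟨J.subschemeι ⁻¹ᵁ W.1, hJW⟩, show J.subschemeι x ∈ W.1 from hz ▸ hzf, fun y hy => hfle hy, ?_⟩
  rw [← Scheme.Hom.appLE_comp_appLE J.subschemeι g V W.1 (J.subschemeι ⁻¹ᵁ W.1) hfle le_rfl, Scheme.Hom.appLE_eq_app]
  exact hra

theorem result {S S' X X' Y Y' M M' : Scheme.{u}} (f : X ⟶ S) (c : ℕ) (i : Y ⟶ X) [IsClosedImmersion i]
    (hi : RegImm.IsRegularImmersionOfCodim RegImm.Kind.regular c i) [Flat (i ≫ f)]
    (b : M ⟶ CohB1.ProjSpaceOver 1 X) (hb : BlowUp.IsBlowUp b (i ≫ P1.sect X 1).ker)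
    (h : S' ⟶ S) (f' : X' ⟶ S') (g : X' ⟶ X) (hX : IsPullback g f' f h)
    (i' : Y' ⟶ X') (gY : Y' ⟶ Y) (hY : IsPullback gY i' i g)
    (b' : M' ⟶ CohB1.ProjSpaceOver 1 X') (μ : M' ⟶ M) (hM : IsPullback μ b' b (P1.toP1 g)) :
    BlowUp.IsBlowUp b' (i' ≫ P1.sect X' 1).ker := by
  let tb := CohB1.ProjSpaceOver.toBase 1 X
  let tb' := CohB1.ProjSpaceOver.toBase 1 X'
  have hwA : P1.toP1 g ≫ tb = tb' ≫ g := pullback.lift_snd _ _ _
  have h1 : P1.toP1 g ≫ pullback.fst (CohB1.ProjSpace.toSpec 1 (ULift.{u} ℤ)) (specULiftZIsTerminal.from X) =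
      pullback.fst (CohB1.ProjSpace.toSpec 1 (ULift.{u} ℤ)) (specULiftZIsTerminal.from X') :=
    (pullback.lift_fst _ _ _).trans (Category.comp_id _)
  have hA : IsPullback (P1.toP1 g) tb' tb g := by
    refine IsPullback.of_right ?_ hwA (IsPullback.of_hasPullback _ _)
    rw [specULiftZIsTerminal.hom_ext (g ≫ specULiftZIsTerminal.from X) (specULiftZIsTerminal.from X'), h1]
    exact IsPullback.of_hasPullback _ _
  have hwC : P1.sect X' 1 ≫ P1.toP1 g = g ≫ P1.sect X 1 := by
    apply pullback.hom_ext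
    · refine (Category.assoc _ _ _).trans (Eq.trans ?_ (Category.assoc _ _ _).symm)
      refine ((congrArg (P1.sect X' 1 ≫ ·) h1).trans (sect_toP1Z X' 1)).trans ?_
      refine Eq.trans ?_ (congrArg (g ≫ ·) (sect_toP1Z X 1)).symm
      refine Eq.trans ?_ (Category.assoc _ _ _)
      exact congrArg (· ≫ _) (specULiftZIsTerminal.hom_ext _ _)
    · refine (Category.assoc _ _ _).trans (Eq.trans ?_ (Category.assoc _ _ _).symm)
      refine (congrArg (P1.sect X' 1 ≫ ·) hwA).trans ?_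
      refine ((Category.assoc _ _ _).symm.trans (congrArg (· ≫ g) (sect_toBase X' 1))).trans ?_
      exact (Category.id_comp g).trans ((congrArg (g ≫ ·) (sect_toBase X 1)).trans (Category.comp_id g)).symm
  have hC : IsPullback g (P1.sect X' 1) (P1.sect X 1) (P1.toP1 g) := by
    refine IsPullback.of_bot ?_ hwC.symm hA
    rw [sect_toBase, sect_toBase]
    exact IsPullback.of_vert_isIso ⟨by simp⟩
  have hB := hY.paste_vert hC
  have hgen : (i ≫ P1.sect X 1).ker.comap (P1.toP1 g) = (i' ≫ P1.sect X' 1).ker :=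
    HilbD.comap_ker_of_isPullback hB.flip
  haveI : Flat ((i ≫ P1.sect X 1) ≫ tb ≫ f) := by
    rw [Category.assoc, ← Category.assoc (P1.sect X 1), sect_toBase, Category.id_comp]
    infer_instance
  have hfl := flat_thickenings (i ≫ P1.sect X 1)
    (Groth.Agent.S8654.result (P1.sect X 1) i (koszul_sect X 1) (koszul_of_regular i hi)) (tb ≫ f)
  have hbl := (Groth.Agent.S2896.result (tb ≫ f) _ hfl b hb).2 S' h
  have hP : IsPullback (P1.toP1 g) (tb' ≫ f') (tb ≫ f) h := hA.paste_vert hX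
  have hM' : IsPullback μ (b' ≫ tb' ≫ f') (b ≫ tb ≫ f) h := hM.paste_vert hP
  have h1 := BlowUp.Basic.isBlowUp_iso_comp hbl hM'.isoPullback
  have e : hM'.isoPullback.hom ≫ CInt.baseChangeOver b (tb ≫ f) h = b' ≫ hP.isoPullback.hom := by
    apply pullback.hom_ext
    · rw [Category.assoc, Category.assoc, hP.isoPullback_hom_fst, CInt.baseChangeOver, pullback.map,
        pullback.lift_fst, ← Category.assoc, hM'.isoPullback_hom_fst, hM.w]
    · rw [Category.assoc, Category.assoc, hP.isoPullback_hom_snd, CInt.baseChangeOver, pullback.map,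
        pullback.lift_snd, Category.comp_id, hM'.isoPullback_hom_snd]
  rw [e] at h1
  have h2 := isBlowUp_of_comp_iso hP.isoPullback h1
  rwa [← Scheme.IdealSheafData.comap_comp, hP.isoPullback_hom_fst, hgen] at h2

end Groth.Agent.IntMult66.DefBC
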