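import Groth.Agent.IntMult66.Local
import Groth.Agent.LenLib.Samuel

/-!
# The Euler characteristic of `Tor` is the sum over the top components
-/

set_option autoImplicit false
set_option linter.style.haveILetI false

universe u

open scoped TensorProduct
open IsLocalRing

namespace Groth.Agent.IntMult66

variable {A : Type u} [CommRing A]

/-- The length of a localised module, as an integer. -/
noncomputable def locLen (M : Type u) [AddCommGroup M] [Module A M] (q : PrimeSpectrum A) : ℤ :=
  ((Module.length (Localization q.asIdeal.primeCompl)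
    (LocalizedModule q.asIdeal.primeCompl M)).toNat : ℤ)

/-- The supports meet at most in the closed point. -/
def Meet [IsLocalRing A] (N M : Type u) [AddCommGroup N] [Module A N] [AddCommGroup M] [Module A M] :
    Prop :=
  maximalIdeal A ≤ (Module.annihilator A N ⊔ Module.annihilator A M).radical

theorem Meet.symm [IsLocalRing A] {N M : Type u} [AddCommGroup N] [Module A N] [AddCommGroup M]
    [Module A M] (h : Meet (A := A) N M) : Meet (A := A) M N := by
  rw [Meet, sup_comm]; exact h

theorem Meet.mono [IsLocalRing A] {N M M' : Type u} [AddCommGroup N] [Module A N] [AddCommGroup M]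
    [Module A M] [AddCommGroup M'] [Module A M'] (h : Meet (A := A) N M)
    (hle : Module.annihilator A M ≤ Module.annihilator A M') : Meet (A := A) N M' :=
  h.trans (Ideal.radical_mono (sup_le_sup_left hle _))

theorem Meet.length_ne_top [IsLocalRing A] [IsNoetherianRing A] {N M : Type u} [AddCommGroup N]
    [Module A N] [Module.Finite A N] [AddCommGroup M] [Module A M] [Module.Finite A M]
    (h : Meet (A := A) N M) : Module.length A (N ⊗[A] M) ≠ ⊤ := by
  refine Module.length_ne_top_iff.2 (KosEuler.isFiniteLength_of_radical h fun a ha z => ?_)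
  obtain ⟨b, hb, c, hc, rfl⟩ := Submodule.mem_sup.1 ha
  induction z using TensorProduct.induction_on with
  | zero => rw [smul_zero]
  | add x y hx hy => rw [smul_add, hx, hy, add_zero]
  | tmul n m =>
    rw [add_smul, TensorProduct.smul_tmul' b, Module.mem_annihilator.1 hb, TensorProduct.zero_tmul,
      ← TensorProduct.tmul_smul, Module.mem_annihilator.1 hc, TensorProduct.tmul_zero, add_zero]

variable (K R : Type u) [Field K] [IsAlgClosed K] [CommRing R] [Algebra K R] [Algebra.Smooth K R]
  (p : Ideal R) [p.IsPrime] [Algebra R A] [IsLocalization.AtPrime A p] [IsLocalRing A]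

include K R p

/-- One-variable dévissage. -/
theorem chi_devissage (N : Type u) [AddCommGroup N] [Module A N] [Module.Finite A N] (a : ℕ)
    (hvan : ∀ q : PrimeSpectrum A, ringKrullDim (A ⧸ q.asIdeal) < a → Meet (A := A) N (A ⧸ q.asIdeal) →
      IntMult.chi A N (A ⧸ q.asIdeal) = 0)
    {M : Type u} [AddCommGroup M] [Module A M] (hM : Module.Finite A M) :
    Module.supportDim A M ≤ a → Meet (A := A) N M →
    (∀ q : PrimeSpectrum A, ringKrullDim (A ⧸ q.asIdeal) = a →
        Module.length (Localization q.asIdeal.primeCompl)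
          (LocalizedModule q.asIdeal.primeCompl M) ≠ ⊤) ∧
    ∃ S : Finset (PrimeSpectrum A), ∀ T : Finset (PrimeSpectrum A), S ⊆ T →
      (∀ q : PrimeSpectrum A, q ∉ T → ringKrullDim (A ⧸ q.asIdeal) = a → locLen M q = 0) ∧
      IntMult.chi A N M = ∑ q ∈ T, if ringKrullDim (A ⧸ q.asIdeal) = a then
          locLen M q * IntMult.chi A N (A ⧸ q.asIdeal) else 0 := by
  classical
  haveI := isRegularLocalRing_localization K R p A
  induction hM using IsNoetherianRing.induction_on_isQuotientEquivQuotientPrime A with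
  | subsingleton M₀ =>
    intro _ _
    have h0 : ∀ q : PrimeSpectrum A, Module.length (Localization q.asIdeal.primeCompl)
        (LocalizedModule q.asIdeal.primeCompl M₀) = 0 := fun q => by
      have : Subsingleton (LocalizedModule q.asIdeal.primeCompl M₀) := by
        rw [LocalizedModule.subsingleton_iff]
        exact fun m => ⟨1, q.asIdeal.primeCompl.one_mem, Subsingleton.elim _ _⟩
      exact Module.length_eq_zero
    refine ⟨fun q _ => by simp [h0], ∅, fun T _ => ⟨fun q _ _ => by simp [locLen, h0], ?_⟩⟩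
    have hz : IntMult.chi A N M₀ = 0 := by
      have hfl : Module.length A (N ⊗[A] M₀) ≠ ⊤ := by
        haveI : Subsingleton (N ⊗[A] M₀) := by infer_instance
        simp [Module.length_eq_zero]
      have h := chi_add K R p A N (LinearMap.id : M₀ →ₗ[A] M₀) (0 : M₀ →ₗ[A] M₀) Function.injective_id
        (fun m => ⟨m, Subsingleton.elim _ _⟩)
        (fun m => ⟨fun _ => ⟨m, rfl⟩, fun _ => Subsingleton.elim _ _⟩) hfl
      omega
    rw [hz]
    exact (Finset.sum_eq_zero fun q _ => by simp [locLen, h0]).symm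
  | exact M₁ M₂ M₃ f g hf hg hfg h₁ h₃ =>
    intro hd hmeet
    obtain ⟨f₁, S₁, hS₁⟩ := h₁ ((Module.supportDim_le_of_injective f hf).trans hd)
      (hmeet.mono (f.annihilator_le_of_injective hf))
    obtain ⟨f₃, S₃, hS₃⟩ := h₃ ((Module.supportDim_le_of_surjective g hg).trans hd)
      (hmeet.mono (g.annihilator_le_of_surjective hg))
    have hl := fun q : PrimeSpectrum A =>
      LenLib.length_localized_add q.asIdeal.primeCompl f g hf hg hfg
    refine ⟨fun q hq => by rw [hl q]; exact WithTop.add_ne_top.2 ⟨f₁ q hq, f₃ q hq⟩,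
      S₁ ∪ S₃, fun T hT => ?_⟩
    obtain ⟨z₁, t₁⟩ := hS₁ T (Finset.union_subset_left hT)
    obtain ⟨z₃, t₃⟩ := hS₃ T (Finset.union_subset_right hT)
    have hadd : ∀ q : PrimeSpectrum A, ringKrullDim (A ⧸ q.asIdeal) = a →
        locLen M₂ q = locLen M₁ q + locLen M₃ q := fun q hq => by
      rw [locLen, locLen, locLen, hl q, ENat.toNat_add (f₁ q hq) (f₃ q hq)]
      push_cast
      rfl
    refine ⟨fun q hqT hq => by rw [hadd q hq, z₁ q hqT hq, z₃ q hqT hq, add_zero], ?_⟩
    rw [chi_add K R p A N f g hf hg hfg hmeet.length_ne_top, t₁, t₃, ← Finset.sum_add_distrib]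
    refine Finset.sum_congr rfl fun q _ => ?_
    split_ifs with hq
    · rw [hadd q hq, add_mul]
    · rfl
  | quotient M₀ q ι =>
    intro hd hmeet
    rw [Module.supportDim_eq_of_equiv ι, Module.supportDim_quotient_eq_ringKrullDim] at hd
    have hone := LenLib.length_localized_quotient_eq_one q.asIdeal ι
    have hzero : ∀ p' : PrimeSpectrum A, ringKrullDim (A ⧸ p'.asIdeal) = a → p' ≠ q →
        Module.length (Localization p'.asIdeal.primeCompl)
          (LocalizedModule p'.asIdeal.primeCompl M₀) = 0 := by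
      intro p' hp hpq
      refine LenLib.length_localized_quotient_eq_zero p'.asIdeal q.asIdeal ι fun hle => ?_
      obtain ⟨x, hxp, hxq⟩ := SetLike.not_le_iff_exists.1
        (fun h => hpq (PrimeSpectrum.ext (le_antisymm h hle)) : ¬ p'.asIdeal ≤ q.asIdeal)
      have hle' : q.asIdeal ⊔ Ideal.span {x} ≤ p'.asIdeal :=
        sup_le hle ((Ideal.span_singleton_le_iff_mem _).2 hxp)
      have h1 : ringKrullDim (A ⧸ p'.asIdeal) ≤ ringKrullDim (A ⧸ (q.asIdeal ⊔ Ideal.span {x})) :=
        ringKrullDim_le_of_surjective (Ideal.Quotient.factor hle')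
          (Ideal.Quotient.factor_surjective _)
      have h2 := (add_le_add h1 (le_refl (1 : WithBot ℕ∞))).trans
        ((LenLib.ringKrullDim_quot_sup_succ_le q.asIdeal hxq).trans hd)
      rw [hp] at h2
      exact absurd (show ((a + 1 : ℕ) : WithBot ℕ∞) ≤ (a : ℕ) by exact_mod_cast h2)
        (by rw [Nat.cast_le]; omega)
    have hz' : ∀ p' : PrimeSpectrum A, ringKrullDim (A ⧸ p'.asIdeal) = a → p' ≠ q →
        locLen M₀ p' = 0 := fun p' hp hpq => by rw [locLen, hzero p' hp hpq]; rfl
    refine ⟨fun p' hp => ?_, {q}, fun T hT => ⟨fun p' hpT hp => hz' p' hp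
      fun h => hpT (h ▸ hT (Finset.mem_singleton_self q)), ?_⟩⟩
    · by_cases hpq : p' = q
      · subst hpq; rw [hone]; exact ENat.one_ne_top
      · rw [hzero p' hp hpq]; simp
    rw [Finset.sum_eq_single q (fun p' _ hpq => by
        split_ifs with hp
        · rw [hz' p' hp hpq, zero_mul]
        · rfl) (fun h => absurd (hT (Finset.mem_singleton_self q)) h), chi_congr_right N ι]
    split_ifs with hq
    · rw [locLen, hone]; simp
    · exact hvan q (lt_of_le_of_ne hd hq) (hmeet.mono (ι.toLinearMap.annihilator_le_of_surjective ι.surjective))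

/-- Vanishing against a prime of small dimension. -/
theorem chi_eq_zero_of_lt {d : ℕ} (hd : ringKrullDim A = d) (P Q : PrimeSpectrum A) {a b : ℕ}
    (hP : ringKrullDim (A ⧸ P.asIdeal) ≤ a) (hQ : ringKrullDim (A ⧸ Q.asIdeal) ≤ b)
    (h : ringKrullDim (A ⧸ P.asIdeal) < a ∨ ringKrullDim (A ⧸ Q.asIdeal) < b) (hab : a + b = d)
    (hmeet : Meet (A := A) (A ⧸ Q.asIdeal) (A ⧸ P.asIdeal)) :
    IntMult.chi A (A ⧸ Q.asIdeal) (A ⧸ P.asIdeal) = 0 := by
  haveI := isRegularLocalRing_localization K R p A
  obtain ⟨a', ha', -⟩ := exists_nat_dim P.asIdeal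
  obtain ⟨b', hb', -⟩ := exists_nat_dim Q.asIdeal
  refine ((chi_prime K R p A P.asIdeal Q.asIdeal ha' hb' hd hmeet.length_ne_top).1 ?_)
  have h1 : a' ≤ a := by rw [ha'] at hP; exact_mod_cast hP
  have h2 : b' ≤ b := by rw [hb'] at hQ; exact_mod_cast hQ
  rcases h with h | h
  · rw [ha'] at h
    have : a' < a := by exact_mod_cast h
    omega
  · rw [hb'] at h
    have : b' < b := by exact_mod_cast h
    omega
where
  exists_nat_dim (I : Ideal A) [I.IsPrime] [IsNoetherianRing A] :
      ∃ n : ℕ, ringKrullDim (A ⧸ I) = n ∧ True := by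
    haveI : IsLocalRing (A ⧸ I) := IsLocalRing.of_surjective' _ Ideal.Quotient.mk_surjective
    obtain ⟨n, hn, -⟩ := RegLoc.exists_natCast_eq_ringKrullDim (A ⧸ I)
    exact ⟨n, hn, trivial⟩

/-- The Euler characteristic is the sum over top components. -/
theorem chi_formula {d : ℕ} (hd : ringKrullDim A = d) (N M : Type u) [AddCommGroup N] [Module A N]
    [Module.Finite A N] [AddCommGroup M] [Module A M] [Module.Finite A M] {a b : ℕ}
    (ha : Module.supportDim A M ≤ a) (hb : Module.supportDim A N ≤ b) (hab : a + b = d)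
    (hmeet : Meet (A := A) N M) :
    ∃ S T : Finset (PrimeSpectrum A),
      (∀ q, q ∉ S → ringKrullDim (A ⧸ q.asIdeal) = a → locLen M q = 0) ∧
      (∀ q, q ∉ T → ringKrullDim (A ⧸ q.asIdeal) = b → locLen N q = 0) ∧
      IntMult.chi A N M = ∑ P ∈ S, ∑ Q ∈ T,
        if ringKrullDim (A ⧸ P.asIdeal) = a ∧ ringKrullDim (A ⧸ Q.asIdeal) = b then
          locLen M P * locLen N Q * IntMult.chi A (A ⧸ Q.asIdeal) (A ⧸ P.asIdeal) else 0 := by
  classical
  haveI := isRegularLocalRing_localization K R p A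
  have key : ∀ P : PrimeSpectrum A, ringKrullDim (A ⧸ P.asIdeal) ≤ a →
      Meet (A := A) N (A ⧸ P.asIdeal) →
      ∃ T : Finset (PrimeSpectrum A), ∀ T', T ⊆ T' →
        (∀ q, q ∉ T' → ringKrullDim (A ⧸ q.asIdeal) = b → locLen N q = 0) ∧
        IntMult.chi A N (A ⧸ P.asIdeal) = ∑ Q ∈ T', if ringKrullDim (A ⧸ Q.asIdeal) = b then
          locLen N Q * IntMult.chi A (A ⧸ Q.asIdeal) (A ⧸ P.asIdeal) else 0 := by
    intro P hP hPN
    obtain ⟨-, T, hT⟩ := chi_devissage K R p (A ⧸ P.asIdeal) b (fun q hq hmq => by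
      rw [IntMult88.chi_comm]
      exact chi_eq_zero_of_lt K R p hd P q hP hq.le (Or.inr hq) hab hmq.symm)
      (‹Module.Finite A N›) hb hPN.symm
    refine ⟨T, fun T' hT' => ⟨(hT T' hT').1, ?_⟩⟩
    rw [IntMult88.chi_comm, (hT T' hT').2]
    refine Finset.sum_congr rfl fun Q _ => ?_
    rw [IntMult88.chi_comm (A ⧸ P.asIdeal) (A ⧸ Q.asIdeal)]
  obtain ⟨-, S, hS⟩ := chi_devissage K R p N a (fun P hP hPN => by
    obtain ⟨T, hT⟩ := key P hP.le hPN
    rw [(hT T subset_rfl).2]
    refine Finset.sum_eq_zero fun Q _ => ?_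
    split_ifs with hQ
    · by_cases h0 : locLen N Q = 0
      · rw [h0, zero_mul]
      · rw [chi_eq_zero_of_lt K R p hd P Q hP.le hQ.le (Or.inl hP) hab
          (hPN.symm.mono (annihilator_le_of_locLen_ne_zero N Q h0)).symm, mul_zero]
    · rfl) (‹Module.Finite A M›) ha hmeet
  obtain ⟨hS0, hchi⟩ := hS S subset_rfl
  have keyS : ∀ P : PrimeSpectrum A, ∃ T : Finset (PrimeSpectrum A), ∀ T', T ⊆ T' →
      ringKrullDim (A ⧸ P.asIdeal) = a → locLen M P ≠ 0 →
      IntMult.chi A N (A ⧸ P.asIdeal) = ∑ Q ∈ T', if ringKrullDim (A ⧸ Q.asIdeal) = b then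
        locLen N Q * IntMult.chi A (A ⧸ Q.asIdeal) (A ⧸ P.asIdeal) else 0 := by
    intro P
    by_cases h : ringKrullDim (A ⧸ P.asIdeal) = a ∧ locLen M P ≠ 0
    · obtain ⟨T, hT⟩ := key P h.1.le (hmeet.mono (annihilator_le_of_locLen_ne_zero M P h.2))
      exact ⟨T, fun T' hT' _ _ => (hT T' hT').2⟩
    · exact ⟨∅, fun T' _ h1 h2 => absurd ⟨h1, h2⟩ h⟩
  choose TP hTP using keyS
  obtain ⟨-, T₀, hT₀⟩ := chi_devissage K R p (A ⧸ maximalIdeal A) b (fun q hq hmq => by
      rw [IntMult88.chi_comm]
      exact chi_eq_zero_of_lt K R p hd ⟨maximalIdeal A, inferInstance⟩ q (dim_max_le a) hq.le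
        (Or.inr hq) hab hmq.symm)
      (‹Module.Finite A N›) hb (meet_max N)
  let T := T₀ ∪ S.biUnion TP
  refine ⟨S, T, hS0, (hT₀ T Finset.subset_union_left).1, ?_⟩
  rw [hchi]
  refine Finset.sum_congr rfl fun P hP => ?_
  split_ifs with hPa
  · by_cases h0 : locLen M P = 0
    · rw [h0, zero_mul]
      exact (Finset.sum_eq_zero fun Q _ => by split_ifs <;> simp).symm
    · rw [hTP P T ((Finset.subset_biUnion_of_mem TP hP).trans Finset.subset_union_right) hPa h0,
        Finset.mul_sum]
      refine Finset.sum_congr rfl fun Q _ => ?_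
      by_cases hQ : ringKrullDim (A ⧸ Q.asIdeal) = b
      · rw [if_pos hQ, if_pos ⟨hPa, hQ⟩, mul_assoc]
      · rw [if_neg hQ, if_neg (fun h => hQ h.2), mul_zero]
  · exact (Finset.sum_eq_zero fun Q _ => if_neg fun h => hPa h.1).symm
where
  annihilator_le_of_locLen_ne_zero (M : Type u) [AddCommGroup M] [Module A M]
      (q : PrimeSpectrum A) (h : locLen M q ≠ 0) :
      Module.annihilator A M ≤ Module.annihilator A (A ⧸ q.asIdeal) := by
    rw [Ideal.annihilator_quotient]
    intro x hx
    by_contra hxq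
    refine h ?_
    have : Subsingleton (LocalizedModule q.asIdeal.primeCompl M) := by
      rw [LocalizedModule.subsingleton_iff]
      exact fun m => ⟨x, hxq, Module.mem_annihilator.1 hx m⟩
    simp [locLen, Module.length_eq_zero]
  dim_max_le (a : ℕ) : ringKrullDim (A ⧸ maximalIdeal A) ≤ (a : WithBot ℕ∞) := by
    letI := Ideal.Quotient.field (maximalIdeal A)
    rw [ringKrullDim_eq_zero_of_field]
    exact_mod_cast Nat.zero_le a
  meet_max (N : Type u) [AddCommGroup N] [Module A N] :
      Meet (A := A) (A ⧸ maximalIdeal A) N := by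
    rw [Meet, Ideal.annihilator_quotient]
    exact le_sup_left.trans Ideal.le_radical

end Groth.Agent.IntMult66
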