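import Groth.Agent.IntMult66.Compare
import Groth.Agent.S4494
import Mathlib.RingTheory.Localization.BaseChange
import Mathlib.RingTheory.Flat.Localization

/-!
# The local ring of `Spec R × Spec R` at a point of the diagonal
-/

set_option autoImplicit false
set_option linter.style.haveILetI false

universe u

open scoped TensorProduct

namespace Groth.Agent.IntMult66

/-- A flat base change of a module flat over `R` is flat over `R`. -/
theorem flat_tensor_of_flat (R C B X : Type u) [CommRing R] [CommRing C] [CommRing B] [Algebra R C]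
    [Algebra R B] [Algebra C B] [IsScalarTower R C B] [AddCommGroup X] [Module C X] [Module R X]
    [IsScalarTower R C X] [Module.Flat C B] [Module.Flat R X] : Module.Flat R (B ⊗[C] X) := by
  rw [Module.Flat.iff_lTensor_preserves_injective_linearMap]
  intro N N' _ _ _ _ f hf
  have h1 : Function.Injective (TensorProduct.AlgebraTensorModule.lTensor C X f) :=
    Module.Flat.lTensor_preserves_injective_linearMap f hf
  have h2 := Module.Flat.lTensor_preserves_injective_linearMap (M := B)
    (TensorProduct.AlgebraTensorModule.lTensor C X f) h1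
  have h3 : ∀ z, f.lTensor (B ⊗[C] X) z =
      (TensorProduct.AlgebraTensorModule.assoc R C C B X N').symm
        ((TensorProduct.AlgebraTensorModule.lTensor C X f).lTensor B
          (TensorProduct.AlgebraTensorModule.assoc R C C B X N z)) := by
    intro z
    induction z with
    | zero => simp
    | add x y hx hy => simp [map_add, hx, hy]
    | tmul w n =>
      induction w with
      | zero => simp
      | add x y hx hy => simp only [TensorProduct.add_tmul, map_add, hx, hy]
      | tmul b x => rfl
  intro a b hab
  rw [h3, h3] at hab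
  exact (TensorProduct.AlgebraTensorModule.assoc R C C B X N).injective
    (h2 ((TensorProduct.AlgebraTensorModule.assoc R C C B X N').symm.injective hab))

/-- A copy of `R`, for the right factor. -/
def RR (R : Type u) : Type u := R

variable (K R : Type u) [Field K] [CommRing R] [Algebra K R]

instance : CommRing (RR R) := inferInstanceAs (CommRing R)

instance : Algebra K (RR R) := inferInstanceAs (Algebra K R)

instance [Algebra.FiniteType K R] : Algebra.FiniteType K (RR R) :=
  inferInstanceAs (Algebra.FiniteType K R)

instance [Algebra.Smooth K R] : Algebra.Smooth K (RR R) := inferInstanceAs (Algebra.Smooth K R)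

/-- The identification of the copy with `R`. -/
def unRR : RR R ≃ₐ[K] R := AlgEquiv.refl (R := K) (A₁ := R)

noncomputable instance rightRR : Algebra (RR R) (R ⊗[K] RR R) := Algebra.TensorProduct.rightAlgebra

/-- Multiplication. -/
noncomputable def mu : R ⊗[K] RR R →ₐ[K] R :=
  Algebra.TensorProduct.lift (AlgHom.id K R) (unRR K R).toAlgHom fun x y => mul_comm _ _

theorem mu_tmul (x : R) (y : RR R) : mu K R (x ⊗ₜ y) = x * unRR K R y :=
  Algebra.TensorProduct.lift_tmul _ _ _ x y

variable (p : Ideal R) [p.IsPrime]

/-- The point of the diagonal over `p`. -/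
noncomputable abbrev dq : Ideal (R ⊗[K] RR R) := p.comap (mu K R).toRingHom

instance : (dq K R p).IsPrime := Ideal.comap_isPrime _ _

/-- The local ring at the point of the diagonal. -/
abbrev DB : Type u := Localization.AtPrime (dq K R p)

variable (A : Type u) [CommRing A] [Algebra R A] [IsLocalization.AtPrime A p]

/-- `p` in the copy. -/
def pR : Ideal (RR R) := p

instance : (pR R p).IsPrime := inferInstanceAs p.IsPrime

theorem isUnit_left (s : p.primeCompl) :
    IsUnit (algebraMap (R ⊗[K] RR R) (DB K R p) ((s : R) ⊗ₜ (1 : RR R))) := by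
  refine IsLocalization.map_units (M := (dq K R p).primeCompl) (DB K R p) ⟨_, ?_⟩
  show mu K R ((s : R) ⊗ₜ[K] (1 : RR R)) ∉ p
  rw [mu_tmul, map_one, mul_one]
  exact s.2

theorem isUnit_right (s : p.primeCompl) :
    IsUnit (algebraMap (R ⊗[K] RR R) (DB K R p) ((1 : R) ⊗ₜ ((unRR K R).symm (s : R)))) := by
  refine IsLocalization.map_units (M := (dq K R p).primeCompl) (DB K R p) ⟨_, ?_⟩
  show mu K R ((1 : R) ⊗ₜ[K] ((unRR K R).symm (s : R))) ∉ p
  rw [mu_tmul, AlgEquiv.apply_symm_apply, one_mul]
  exact s.2

/-- The left embedding. -/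
noncomputable def lHom : A →+* DB K R p :=
  IsLocalization.lift (M := p.primeCompl)
    (g := (algebraMap (R ⊗[K] RR R) (DB K R p)).comp Algebra.TensorProduct.includeLeftRingHom)
    (fun s => isUnit_left K R p s)

/-- The right embedding. -/
noncomputable def rHom : A →+* DB K R p :=
  IsLocalization.lift (M := p.primeCompl)
    (g := (algebraMap (R ⊗[K] RR R) (DB K R p)).comp
      ((Algebra.TensorProduct.includeRight (R := K) (A := R) (B := RR R)).toRingHom.comp
        (unRR K R).symm.toRingEquiv.toRingHom))
    (fun s => isUnit_right K R p s)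

theorem lHom_algebraMap (x : R) :
    lHom K R p A (algebraMap R A x) = algebraMap (R ⊗[K] RR R) (DB K R p) (x ⊗ₜ 1) :=
  IsLocalization.lift_eq _ _

theorem rHom_algebraMap (x : R) :
    rHom K R p A (algebraMap R A x) =
      algebraMap (R ⊗[K] RR R) (DB K R p) (1 ⊗ₜ (unRR K R).symm x) :=
  IsLocalization.lift_eq _ _

noncomputable instance algAB : Algebra A (DB K R p) := (lHom K R p A).toAlgebra

theorem isUnit_mu (z : (dq K R p).primeCompl) :
    IsUnit (algebraMap R A (mu K R (z : R ⊗[K] RR R))) :=
  IsLocalization.map_units (M := p.primeCompl) A ⟨_, z.2⟩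

/-- Restriction to the diagonal. -/
noncomputable def muHom : DB K R p →+* A :=
  IsLocalization.lift (M := (dq K R p).primeCompl) (g := (algebraMap R A).comp (mu K R).toRingHom)
    (fun z => isUnit_mu K R p A z)

theorem muHom_algebraMap (z : R ⊗[K] RR R) :
    muHom K R p A (algebraMap (R ⊗[K] RR R) (DB K R p) z) = algebraMap R A (mu K R z) :=
  IsLocalization.lift_eq _ _

noncomputable instance algBA : Algebra (DB K R p) A := (muHom K R p A).toAlgebra

theorem muHom_comp_lHom : (muHom K R p A).comp (lHom K R p A) = RingHom.id A := by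
  refine IsLocalization.ringHom_ext p.primeCompl (RingHom.ext fun x => ?_)
  simp only [RingHom.comp_apply, RingHom.id_apply, lHom_algebraMap, muHom_algebraMap, mu_tmul,
    map_one, mul_one]

theorem muHom_comp_rHom : (muHom K R p A).comp (rHom K R p A) = RingHom.id A := by
  refine IsLocalization.ringHom_ext p.primeCompl (RingHom.ext fun x => ?_)
  simp only [RingHom.comp_apply, RingHom.id_apply, rHom_algebraMap, muHom_algebraMap, mu_tmul,
    AlgEquiv.apply_symm_apply, one_mul]

instance : IsScalarTower A (DB K R p) A :=
  IsScalarTower.of_algebraMap_eq fun a => (RingHom.congr_fun (muHom_comp_lHom K R p A) a).symm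

instance : IsScalarTower R A (DB K R p) :=
  IsScalarTower.of_algebraMap_eq fun x => by
    rw [IsScalarTower.algebraMap_apply R (R ⊗[K] RR R) (DB K R p)]
    exact (lHom_algebraMap K R p A x).symm

theorem algebraMap_RR (y : RR R) :
    algebraMap (RR R) (DB K R p) y = rHom K R p A (algebraMap R A (unRR K R y)) := by
  rw [rHom_algebraMap, AlgEquiv.symm_apply_apply,
    IsScalarTower.algebraMap_apply (RR R) (R ⊗[K] RR R) (DB K R p)]
  rfl

/-- The copy of `R` maps to `A` as `R` does. -/
class IsCopy (R A : Type u) [CommRing R] [CommRing A] [Algebra R A] [Algebra (RR R) A] : Prop where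
  eq : ∀ y : RR R, algebraMap (RR R) A y = algebraMap R A y

variable [Algebra (RR R) A] [IsCopy R A]

instance isLocalization_copy : IsLocalization.AtPrime A (pR R p) := by
  have h : (algebraMap (RR R) A : RR R → A) = algebraMap R A := funext IsCopy.eq
  have hA := (isLocalization_iff p.primeCompl A).1 ‹IsLocalization.AtPrime A p›
  refine (isLocalization_iff (pR R p).primeCompl A).2 ⟨fun y => ?_, fun z => ?_, fun {x y} hxy => ?_⟩
  · rw [IsCopy.eq]; exact hA.1 y
  · obtain ⟨x, hx⟩ := hA.2.1 z
    exact ⟨x, by simp only [h]; exact hx⟩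
  · simp only [h] at hxy
    exact hA.2.2 hxy

instance : IsScalarTower (RR R) (DB K R p) A :=
  IsScalarTower.of_algebraMap_eq fun y => by
    rw [algebraMap_RR K R p A y, IsCopy.eq]
    exact (RingHom.congr_fun (muHom_comp_rHom K R p A) _).symm

instance : SMulCommClass (RR R) A (DB K R p) :=
  ⟨fun y a b => by simp only [Algebra.smul_def]; exact mul_left_comm (G := DB K R p) _ _ _⟩

variable (N : Type u) [AddCommGroup N] [Module A N] [Module (RR R) N] [IsScalarTower (RR R) A N]

/-- The pullback of `N` along the second projection. -/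
abbrev DL : Type u := DB K R p ⊗[RR R] N

omit [Module A N] [IsScalarTower (RR R) A N] in
theorem flat_DL : Module.Flat A (DL K R p N) := by
  letI : Module K N := Module.compHom N (algebraMap K (RR R))
  haveI : IsScalarTower K (RR R) N :=
    IsScalarTower.of_algebraMap_smul fun _ _ => rfl
  rw [Module.flat_iff_of_isLocalization (R := R) (S := A) (p := p.primeCompl) (M := DL K R p N)]
  haveI h1 : Module.Flat R ((R ⊗[K] RR R) ⊗[RR R] N) :=
    Module.Flat.of_linearEquiv (Algebra.IsPushout.cancelBaseChange K R (RR R) (R ⊗[K] RR R) N)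
  haveI := IsLocalization.flat (DB K R p) (dq K R p).primeCompl
  haveI := flat_tensor_of_flat R (R ⊗[K] RR R) (DB K R p) ((R ⊗[K] RR R) ⊗[RR R] N)
  exact Module.Flat.of_linearEquiv ((TensorProduct.AlgebraTensorModule.cancelBaseChange (RR R)
    (R ⊗[K] RR R) (DB K R p) (DB K R p) N).restrictScalars R).symm

/-- Restricting `DL` to the diagonal gives back `N`. -/
noncomputable def diagEquiv : A ⊗[DB K R p] DL K R p N ≃ₗ[A] N :=
  TensorProduct.AlgebraTensorModule.cancelBaseChange (RR R) (DB K R p) A A N ≪≫ₗ
    IsLocalization.moduleLid (pR R p).primeCompl A N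

theorem subsingleton_tor_DL (i : ℕ) (hi : 0 < i) :
    Subsingleton (_root_.DRing.Tor (DB K R p) i A (DL K R p N)) := by
  haveI : Module.Flat (RR R) A := IsLocalization.flat A (pR R p).primeCompl
  haveI : Module.Flat (RR R) (R ⊗[K] RR R) := by
    haveI : Algebra.IsPushout K (RR R) R (R ⊗[K] RR R) := Algebra.IsPushout.symm inferInstance
    exact Module.Flat.of_linearEquiv
      (Algebra.IsPushout.equiv K (RR R) R (R ⊗[K] RR R)).toLinearEquiv.symm
  haveI : Module.Flat (R ⊗[K] RR R) (DB K R p) := IsLocalization.flat _ (dq K R p).primeCompl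
  haveI : Module.Flat (RR R) (DB K R p) := Module.Flat.trans (RR R) (R ⊗[K] RR R) (DB K R p)
  obtain ⟨φ, hφ⟩ := Groth.Agent.S4494.result (RR R) (DB K R p) A N i
  haveI := (Groth.Agent.S3527.result (RR R) A N i hi).1
  exact hφ.2.subsingleton

/-- `rHom` acts through the second factor. -/
theorem rHom_smul (a : A) (b : DB K R p) (n : N) :
    rHom K R p A a • (b ⊗ₜ n : DL K R p N) = b ⊗ₜ (a • n) := by
  obtain ⟨x, s, rfl⟩ := IsLocalization.exists_mk'_eq p.primeCompl a
  have hu : IsUnit (rHom K R p A (algebraMap R A s)) :=
    ((IsLocalization.map_units (M := p.primeCompl) A s)).map _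
  have key : ∀ (y : R) (m : N),
      rHom K R p A (algebraMap R A y) • (b ⊗ₜ m : DL K R p N) = b ⊗ₜ (algebraMap R A y • m) :=
    fun y m => by
    have e1 : rHom K R p A (algebraMap R A y) = algebraMap (RR R) (DB K R p) ((unRR K R).symm y) := by
      rw [algebraMap_RR K R p A, AlgEquiv.apply_symm_apply]
    have e2 : algebraMap R A y • m = ((unRR K R).symm y) • m := by
      rw [← IsScalarTower.algebraMap_smul A ((unRR K R).symm y) m, IsCopy.eq]
      rfl
    rw [e1, e2, algebraMap_smul, TensorProduct.smul_tmul', TensorProduct.smul_tmul]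
  apply hu.smul_left_cancel.1
  rw [smul_smul, ← map_mul, IsLocalization.mk'_spec'_mk, key, key, ← mul_smul,
    IsLocalization.mk'_spec'_mk]

theorem finite_DL [Module.Finite A N] : Module.Finite (DB K R p) (DL K R p N) := by
  obtain ⟨s, hs⟩ := (Module.Finite.fg_top : (⊤ : Submodule A N).FG)
  classical
  refine ⟨⟨s.image fun n => ((1 : DB K R p) ⊗ₜ n : DL K R p N), eq_top_iff.2 fun z hz => ?_⟩⟩
  clear hz
  induction z using TensorProduct.induction_on with
  | zero => exact Submodule.zero_mem _
  | add x y hx hy => exact Submodule.add_mem _ hx hy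
  | tmul b n =>
    rw [show (b ⊗ₜ n : DL K R p N) = b • (1 ⊗ₜ n) by rw [TensorProduct.smul_tmul', smul_eq_mul, mul_one]]
    refine Submodule.smul_mem _ b ?_
    have hn : n ∈ Submodule.span A (s : Set N) := hs ▸ trivial
    induction hn using Submodule.span_induction with
    | mem x hx => exact Submodule.subset_span (Finset.mem_image_of_mem _ hx)
    | zero => rw [TensorProduct.tmul_zero]; exact Submodule.zero_mem _
    | add x y _ _ hx hy => rw [TensorProduct.tmul_add]; exact Submodule.add_mem _ hx hy
    | smul a x _ hx => rw [← rHom_smul K R p A N]; exact Submodule.smul_mem _ _ hx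

end Groth.Agent.IntMult66
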