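import Groth.Agent.IntMult66.Bilin

/-!
# Stalks of the structure sheaf of a point's closure
-/

set_option autoImplicit false
set_option linter.style.haveILetI false

universe u

open CategoryTheory AlgebraicGeometry

namespace Groth.Agent.IntMult66

open CycLib CohDev PullStalk.Sky PullStalk.Exact

variable {X : Scheme.{u}}

theorem nonempty_stalk_oz {ξ y : X} (h : ξ ⤳ y) :
    Nonempty ((X.presheaf.stalk y ⧸ (ptPrime y ξ h).asIdeal) ≃ₗ[X.presheaf.stalk y]
      (Cyc.closureStructureSheaf ξ).presheaf.stalk y) := by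
  haveI : (Cyc.closureStructureSheaf ξ).IsQuasicoherent := (isCoh_oz ξ).1
  obtain ⟨V, hV, hy, -⟩ := exists_isAffineOpen_mem_and_subset (X := X) (x := y) (U := ⊤) trivial
  have hξ : ξ ∈ V := h.mem_open V.2 hy
  have hyx : y ∈ closure ({ξ} : Set X) := specializes_iff_mem_closure.1 h
  let φ := LinearMap.toSpanSingleton (X.presheaf.stalk y) _
    (germM (Cyc.closureStructureSheaf ξ) V y hy (ozGen ξ V))
  have hsurj : Function.Surjective φ := fun t => by
    obtain ⟨a, s, hs, hst⟩ := germ_ozGen_generates ξ ⟨V, hV⟩ hy t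
    obtain ⟨u, hu⟩ := hs
    refine ⟨↑u⁻¹ * X.presheaf.germ V y hy a, ?_⟩
    change (↑u⁻¹ * X.presheaf.germ V y hy a) • _ = t
    rw [mul_smul, ← germM_smul, ← hst, ← hu, smul_smul, u.inv_mul, one_smul]
  have hker : LinearMap.ker φ = (ptPrime y ξ h).asIdeal := by
    ext r
    letI := TopCat.Presheaf.algebra_section_stalk X.presheaf (⟨y, hy⟩ : V)
    haveI := hV.isLocalization_stalk ⟨y, hy⟩
    obtain ⟨⟨a, s⟩, has⟩ := IsLocalization.surj (hV.primeIdealOf ⟨y, hy⟩).asIdeal.primeCompl r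
    have hsu : IsUnit (X.presheaf.germ V y hy (s : Γ(X, V))) :=
      IsLocalization.map_units (X.presheaf.stalk y) s
    have has' : r * X.presheaf.germ V y hy (s : Γ(X, V)) = X.presheaf.germ V y hy a := has
    rw [LinearMap.mem_ker]
    show r • germM _ V y hy (ozGen ξ V) = 0 ↔ _
    rw [← hsu.smul_eq_zero, smul_smul, mul_comm, has', ← germM_smul,
      germ_smul_ozGen_eq_zero_iff ξ ⟨V, hV⟩ hy hξ hyx a, ← stalkIdeal_ptIdeal h,
      ← Ideal.mul_unit_mem_iff_mem (IntMult.stalkIdeal (IntMult.ptIdeal ξ) y) hsu, has',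
      IdealSh.stalkIdeal_eq _ ⟨V, hV⟩ hy]
    refine ⟨fun ha => Ideal.mem_map_of_mem _ ha, fun ha => ?_⟩
    have h2 : X.presheaf.germ V y hy a ∈ (ptPrime y ξ h).asIdeal := by
      rw [← stalkIdeal_ptIdeal h, IdealSh.stalkIdeal_eq _ ⟨V, hV⟩ hy]
      exact ha
    rw [CohDev.ideal_ptIdeal ξ (V := ⟨V, hV⟩) hξ]
    replace h2 : Cyc.specMap y ξ h (X.presheaf.germ V y hy a) = 0 := h2
    rw [specMap_germ] at h2
    by_contra hna
    exact IsLocalRing.residue_ne_zero_iff_isUnit _ |>.2 ((not_mem_primeIdealOf_iff hV hξ a).1 hna) h2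
  exact ⟨(Submodule.quotEquivOfEq _ _ hker.symm).trans (φ.quotKerEquivOfSurjective hsurj)⟩

end Groth.Agent.IntMult66
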