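import Groth.Agent.IntMult66.Diag
import Groth.Agent.VarDim.Algebra
import Groth.Agent.ProjDim.Tensor
import Groth.Agent.Hensel.TensorMinimal
import Mathlib.LinearAlgebra.TensorProduct.RightExactness

/-!
# Dimensions at a point of the diagonal
-/

set_option autoImplicit false
set_option linter.style.haveILetI false

universe u

open scoped TensorProduct

namespace Groth.Agent.IntMult66

/-- `dim C_q/I + dim C/q = dim C/I` for a prime `I` of a finitely generated algebra. -/
theorem dim_localization_add (k : Type u) [Field k] {C : Type u} [CommRing C] [Algebra k C]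
    [Algebra.FiniteType k C] (I q : Ideal C) [I.IsPrime] [q.IsPrime] (hIq : I ≤ q)
    (Cq : Type u) [CommRing Cq] [Algebra C Cq] [IsLocalization.AtPrime Cq q] :
    ∃ e r t : ℕ, ringKrullDim (Cq ⧸ I.map (algebraMap C Cq)) = e ∧
      ringKrullDim (C ⧸ q) = r ∧ ringKrullDim (C ⧸ I) = t ∧ e + r = t := by
  haveI : Algebra.FiniteType k (C ⧸ I) := VarDim.finiteType_quotient k C I
  haveI : IsNoetherianRing (C ⧸ I) := Algebra.FiniteType.isNoetherianRing k (C ⧸ I)
  let qb : Ideal (C ⧸ I) := q.map (Ideal.Quotient.mk I)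
  haveI hqb : qb.IsPrime := Ideal.map_isPrime_of_surjective Ideal.Quotient.mk_surjective
    (by rwa [Ideal.mk_ker])
  have hcomap : qb.comap (Ideal.Quotient.mk I) = q := by
    rw [Ideal.comap_map_of_surjective _ Ideal.Quotient.mk_surjective, ← RingHom.ker_eq_comap_bot,
      Ideal.mk_ker, sup_eq_left.2 hIq]
  have hM : Algebra.algebraMapSubmonoid (C ⧸ I) q.primeCompl = qb.primeCompl := by
    ext y
    obtain ⟨a, rfl⟩ := Ideal.Quotient.mk_surjective y
    have key : Ideal.Quotient.mk I a ∈ qb ↔ a ∈ q := by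
      conv_rhs => rw [← hcomap]
      exact Iff.rfl
    constructor
    · rintro ⟨b, hb, hab⟩ hmem
      have hb' : Ideal.Quotient.mk I b ∈ qb := by
        rw [← Ideal.Quotient.algebraMap_eq, hab]; exact hmem
      exact hb (by rw [← hcomap]; exact hb')
    · intro h
      exact ⟨a, fun ha => h (key.2 ha), rfl⟩
  haveI : IsLocalization.AtPrime (Cq ⧸ I.map (algebraMap C Cq)) qb := by
    change IsLocalization qb.primeCompl _
    rw [← hM]
    infer_instance
  obtain ⟨h, hh, htr⟩ := VarDim.trdeg_quotient_add_height k (C ⧸ I) qb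
  haveI : Algebra.FiniteType k ((C ⧸ I) ⧸ qb) := VarDim.finiteType_quotient k (C ⧸ I) qb
  obtain ⟨r, hr1, hr2, -⟩ := VarDim.exists_ringKrullDim_eq_trdeg k ((C ⧸ I) ⧸ qb)
  obtain ⟨t, ht1, ht2, -⟩ := VarDim.exists_ringKrullDim_eq_trdeg k (C ⧸ I)
  rw [hr2, ht2] at htr
  have hrt : r + h = t := by exact_mod_cast htr
  refine ⟨h, r, t, ?_, ?_, ht1, by omega⟩
  · rw [IsLocalization.AtPrime.ringKrullDim_eq_height qb (Cq ⧸ I.map (algebraMap C Cq)), hh]
    rfl
  · rw [← hr1]
    exact ringKrullDim_eq_of_ringEquiv (DoubleQuot.quotQuotEquivQuotOfLE hIq).symm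

theorem finiteType_tensor (K R : Type u) [Field K] [CommRing R] [Algebra K R]
    [Algebra.FiniteType K R] : Algebra.FiniteType K (R ⊗[K] RR R) := by
  haveI : Algebra.FiniteType R (R ⊗[K] RR R) := inferInstance
  exact Algebra.FiniteType.trans (S := R) ‹Algebra.FiniteType K R› ‹Algebra.FiniteType R (R ⊗[K] RR R)›

variable (K R : Type u) [Field K] [CommRing R] [Algebra K R] [Algebra.FiniteType K R]
  (p : Ideal R) [p.IsPrime] (A : Type u) [CommRing A] [Algebra R A] [IsLocalization.AtPrime A p]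

/-- The ideal of `V × W` in the local ring at the diagonal point. -/
noncomputable def diagIdeal (P Q : Ideal A) : Ideal (DB K R p) :=
  P.map (lHom K R p A) ⊔ Q.map (rHom K R p A)

theorem diagIdeal_eq (P Q : Ideal A) :
    diagIdeal K R p A P Q =
      (((P.comap (algebraMap R A)).map
          (Algebra.TensorProduct.includeLeft : R →ₐ[K] R ⊗[K] RR R)) ⊔
        ((show Ideal (RR R) from Q.comap (algebraMap R A)).map
          (Algebra.TensorProduct.includeRight : RR R →ₐ[K] R ⊗[K] RR R))).map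
        (algebraMap (R ⊗[K] RR R) (DB K R p)) := by
  rw [Ideal.map_sup]
  conv_lhs => rw [diagIdeal, ← IsLocalization.map_under p.primeCompl A P,
    ← IsLocalization.map_under p.primeCompl A Q]
  congr 1
  · rw [Ideal.map_map, ← Ideal.map_coe (Algebra.TensorProduct.includeLeft : R →ₐ[K] R ⊗[K] RR R),
      Ideal.map_map]
    congr 1
    exact RingHom.ext fun x => lHom_algebraMap K R p A x
  · rw [Ideal.map_map, ← Ideal.map_coe (Algebra.TensorProduct.includeRight : RR R →ₐ[K] R ⊗[K] RR R),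
      Ideal.map_map]
    congr 1
    exact RingHom.ext fun x => rHom_algebraMap K R p A x

include K in
/-- `dim A/P + dim R/p = dim R/P₀`. -/
theorem dim_quotient_add (P : Ideal A) [P.IsPrime] :
    ∃ a r s : ℕ, ringKrullDim (A ⧸ P) = a ∧ ringKrullDim (R ⧸ p) = r ∧
      ringKrullDim (R ⧸ P.comap (algebraMap R A)) = s ∧ a + r = s := by
  have hle : P.comap (algebraMap R A) ≤ p := fun x hx => by
    by_contra hxp
    exact Ideal.IsPrime.ne_top ‹P.IsPrime›
      (Ideal.eq_top_of_isUnit_mem _ hx (IsLocalization.map_units (M := p.primeCompl) A ⟨x, hxp⟩))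
  obtain ⟨e, r, t, he, hr, ht, hsum⟩ :=
    dim_localization_add K (P.comap (algebraMap R A)) p hle A
  have h1 : (P.comap (algebraMap R A)).map (algebraMap R A) = P :=
    IsLocalization.map_under p.primeCompl A P
  exact ⟨e, r, t, by rw [← he, h1], hr, ht, hsum⟩

variable [IsAlgClosed K]

/-- The dimension of `V × W` at the diagonal point. -/
theorem dim_diagIdeal (P Q : Ideal A) [P.IsPrime] [Q.IsPrime] :
    ∃ a b r e : ℕ, ringKrullDim (A ⧸ P) = a ∧ ringKrullDim (A ⧸ Q) = b ∧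
      ringKrullDim (R ⧸ p) = r ∧ ringKrullDim (DB K R p ⧸ diagIdeal K R p A P Q) = e ∧
      e = a + b + r := by
  obtain ⟨a, r, s, ha, hr, hs, hsum⟩ := dim_quotient_add K R p A P
  obtain ⟨b, r', s', hb, hr', hs', hsum'⟩ := dim_quotient_add K R p A Q
  obtain rfl : r = r' := by exact_mod_cast hr.symm.trans hr'
  let P₀ : Ideal R := P.comap (algebraMap R A)
  let Q₀ : Ideal (RR R) := Q.comap (algebraMap R A)
  haveI : Q₀.IsPrime := inferInstanceAs (Q.comap (algebraMap R A)).IsPrime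
  haveI : Algebra.FiniteType K (R ⧸ P₀) := VarDim.finiteType_quotient K R P₀
  haveI : Algebra.FiniteType K (RR R ⧸ Q₀) := VarDim.finiteType_quotient K (RR R) Q₀
  haveI hD : IsDomain ((R ⧸ P₀) ⊗[K] (RR R ⧸ Q₀)) :=
    Hensel.TensorMinimal.isDomain_tensor K (R ⧸ P₀) (RR R ⧸ Q₀)
  let φ : R ⊗[K] RR R →ₐ[K] (R ⧸ P₀) ⊗[K] (RR R ⧸ Q₀) :=
    Algebra.TensorProduct.map (Ideal.Quotient.mkₐ K P₀) (Ideal.Quotient.mkₐ K Q₀)
  have hφ : Function.Surjective φ := Algebra.TensorProduct.map_surjective _ _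
    (Ideal.Quotient.mkₐ_surjective K P₀) (Ideal.Quotient.mkₐ_surjective K Q₀)
  let I : Ideal (R ⊗[K] RR R) := RingHom.ker φ
  haveI : I.IsPrime := RingHom.ker_isPrime φ
  have hI : I = P₀.map (Algebra.TensorProduct.includeLeft : R →ₐ[K] R ⊗[K] RR R) ⊔
      Q₀.map (Algebra.TensorProduct.includeRight : RR R →ₐ[K] R ⊗[K] RR R) := by
    refine (Algebra.TensorProduct.map_ker _ _ (Ideal.Quotient.mkₐ_surjective K P₀)
      (Ideal.Quotient.mkₐ_surjective K Q₀)).trans ?_
    rw [AlgHom.ker_coe, AlgHom.ker_coe]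
    congr 2 <;> exact Ideal.mk_ker
  have hle : ∀ J : Ideal A, J ≠ ⊤ → J.comap (algebraMap R A) ≤ p := fun J hJ x hx => by
    by_contra hxp
    exact hJ (Ideal.eq_top_of_isUnit_mem _ hx
      (IsLocalization.map_units (M := p.primeCompl) A ⟨x, hxp⟩))
  have hIq : I ≤ dq K R p := by
    rw [hI, sup_le_iff, Ideal.map_le_iff_le_comap, Ideal.map_le_iff_le_comap]
    refine ⟨fun x hx => ?_, fun y hy => ?_⟩
    · show mu K R (x ⊗ₜ[K] (1 : RR R)) ∈ p
      rw [mu_tmul, map_one, mul_one]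
      exact hle P (Ideal.IsPrime.ne_top inferInstance) hx
    · show mu K R ((1 : R) ⊗ₜ[K] y) ∈ p
      rw [mu_tmul, one_mul]
      exact hle Q (Ideal.IsPrime.ne_top inferInstance) hy
  haveI : Algebra.FiniteType K (R ⊗[K] RR R) := finiteType_tensor K R
  obtain ⟨e, r₂, t, he, hr₂, ht, hsum₂⟩ := dim_localization_add K I (dq K R p) hIq (DB K R p)
  have h1 : r₂ = r := by
    let ψ : R ⊗[K] RR R →+* R ⧸ p := (Ideal.Quotient.mk p).comp (mu K R).toRingHom
    have hψ : Function.Surjective ψ := Ideal.Quotient.mk_surjective.comp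
      fun x => ⟨x ⊗ₜ[K] 1, by simp [mu_tmul]⟩
    have hker : RingHom.ker ψ = dq K R p := by
      rw [← RingHom.comap_ker, Ideal.mk_ker]
    have := ringKrullDim_eq_of_ringEquiv
      ((Ideal.quotEquivOfEq hker.symm).trans (RingHom.quotientKerEquivOfSurjective hψ))
    exact_mod_cast hr₂.symm.trans (this.trans hr)
  have h2 : t = s + s' := by
    have hM : (⊥ : Ideal ((R ⧸ P₀) ⊗[K] (RR R ⧸ Q₀))) ∈
        minimalPrimes ((R ⧸ P₀) ⊗[K] (RR R ⧸ Q₀)) := by
      rw [IsDomain.minimalPrimes_eq_singleton_bot]; rfl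
    have hs'' : ringKrullDim (RR R ⧸ Q₀) = s' := hs'
    have h := ProjDim.ringKrullDim_quotient_minimalPrime_tensor K (R ⧸ P₀) (RR R ⧸ Q₀) hs hs'' ⊥ hM
    have hD' := ringKrullDim_eq_of_ringEquiv
      (RingHom.quotientKerEquivOfSurjective (f := φ.toRingHom) hφ)
    rw [ringKrullDim_eq_of_ringEquiv (RingEquiv.quotientBot _)] at h
    exact_mod_cast ht.symm.trans (hD'.trans h)
  refine ⟨a, b, r, e, ha, hb, hr, ?_, by omega⟩
  rw [diagIdeal_eq, ← hI]
  exact he

end Groth.Agent.IntMult66
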