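import Groth.Agent.IntMult66.FamProd
import Groth.Agent.CycLib.PullDivApp
import Groth.Agent.CycLib.PullSurj
import Groth.Agent.CycLib.RatMap
import Groth.Agent.CycLib.P1SheafCut
import Groth.Agent.IntMult66.Bilin

/-!
# Products with the sections of `P¹` as divisors
-/

set_option autoImplicit false
set_option linter.style.haveILetI false
set_option maxSynthPendingDepth 3

universe u

open CategoryTheory CategoryTheory.Limits AlgebraicGeometry IsLocalRing
open scoped TensorProduct

namespace Groth.Agent.IntMult66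

open CycLib

variable {K : Type u} [Field K] [IsAlgClosed K] {P : Scheme.{u}} [IsIntegral P]
  (fP : P ⟶ Spec (CommRingCat.of K)) [Smooth fP] [IsSeparated fP] [QuasiCompact fP]

include fP in
theorem mult_sect_eq_divFun {δ' : ↥(CohB1.ProjSpaceOver 1 P) → ℤ} (hd : Cyc.IsDimFun _ δ')
    [IsLocallyNoetherian (CohB1.ProjSpaceOver 1 P)] (i j : Fin (1 + 1)) (hij : i ≠ j)
    (ζ : ↥(CohB1.ProjSpaceOver 1 P)) (hζ : ζ ∉ Set.range ⇑(P1.sect P i))
    (hi : ζ ∈ chartOpen P i) (y : P) (h : ζ ⤳ P1.sect P i y) (h1 : δ' (P1.sect P i y) + 1 = δ' ζ) :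
    IntMult.mult (IntMult.ptIdeal ζ) (IntMult.ptIdeal (P1.sect P i (genericPoint P))) (P1.sect P i y) =
      Cyc.divFun δ' ζ (tVal P i j ζ hi) (P1.sect P i y) := by
  haveI := isClosedImmersion_sect P i
  haveI : Smooth (CohB1.ProjSpaceOver.toBase 1 P ≫ fP) := smooth_toBase_comp fP
  obtain ⟨R, _, _, _, p, _, _, _⟩ := exists_chart fP y
  haveI := isRegularLocalRing_localization K R p (P.presheaf.stalk y)
  haveI := isRegular_stalk fP (P1.sect P i y)
  haveI : IsDomain ((CohB1.ProjSpaceOver 1 P).presheaf.stalk (P1.sect P i y)) := RegLoc.isDomain _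
  have hp : P1.sect P i y ∈ chartOpen P i := ((mem_range_sect_iff P i j hij _).1 ⟨y, rfl⟩).1
  have hker := ker_stalkMap_sect P i j hij y hp
  set B := (CohB1.ProjSpaceOver 1 P).presheaf.stalk (P1.sect P i y)
  set A := P.presheaf.stalk y
  set t : B := tGerm P i j (P1.sect P i y) hp
  set I := (ptPrime (P1.sect P i y) ζ h).asIdeal
  haveI : I.IsPrime := (ptPrime (P1.sect P i y) ζ h).isPrime
  letI : Algebra B A := ((P1.sect P i).stalkMap y).hom.toAlgebra
  have hs : Function.Surjective (algebraMap B A) := (P1.sect P i).stalkMap_surjective y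
  have htI : t ∉ I := fun ht => by
    refine hζ ?_
    have hle : RingHom.ker ((P1.sect P i).stalkMap y).hom ≤ I := by
      rw [hker]
      exact (Ideal.span_singleton_le_iff_mem _).2 ht
    obtain ⟨x, hx, -⟩ := S1954.mem_range_of_le (P1.sect P i) y h hle
    exact ⟨x, hx⟩
  have ht0 : t ≠ 0 := fun h0 => htI (h0 ▸ I.zero_mem)
  have hk : RingHom.ker (algebraMap B A) = Ideal.span {t} := hker
  have hI : IntMult.stalkIdeal (IntMult.ptIdeal (P1.sect P i (genericPoint P))) (P1.sect P i y) =
      Ideal.span {t} := by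
    rw [← hker]
    exact (ker_stalkMap_eq_stalkIdeal (P1.sect P i) y).symm
  rw [IntMult.mult, hI, stalkIdeal_ptIdeal h, IntMult88.chi_comm,
    chi_congr_right _ ((Submodule.quotEquivOfEq _ (LinearMap.ker (Algebra.linearMap B A)) hk.symm).trans
      (LinearMap.quotKerEquivOfSurjective (Algebra.linearMap B A) hs)),
    chi_cut_quot t hk hs (isRegular_of_ne_zero ht0).left I (by
      intro a b hab
      obtain ⟨a, rfl⟩ := Ideal.Quotient.mk_surjective a
      obtain ⟨b, rfl⟩ := Ideal.Quotient.mk_surjective b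
      refine Ideal.Quotient.eq.2 ((Ideal.IsPrime.mem_or_mem inferInstance ?_).resolve_left htI)
      rw [mul_sub]
      exact Ideal.Quotient.eq.1 (show Ideal.Quotient.mk I (t * a) = Ideal.Quotient.mk I (t * b) from hab)) A,
    chi_self]
  have hne : Cyc.specMap (P1.sect P i y) ζ h t ≠ 0 := fun h0 => htI h0
  rw [Cyc.divFun, dif_pos ⟨h, h1⟩, tVal_eq_specMap i j h hp, ordAt_specMap hd h h1 hne]
  show _ = ((Module.length _ _).toNat : ℤ)
  refine congrArg (fun x : ℕ∞ => (x.toNat : ℤ)) ?_
  rw [length_quot_surjective (algebraMap B A) hs (I.map (algebraMap B A)) (I ⊔ Ideal.span {t})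
      (by rw [Ideal.comap_map_of_surjective _ hs, ← RingHom.ker_eq_comap_bot, hk])]
  exact (length_quot_surjective (Ideal.Quotient.mk I) Ideal.Quotient.mk_surjective
      (Ideal.span {Ideal.Quotient.mk I t}) (I ⊔ Ideal.span {t}) (by
        rw [← Set.image_singleton, ← Ideal.map_span, Ideal.comap_map_of_surjective _ Ideal.Quotient.mk_surjective,
          ← RingHom.ker_eq_comap_bot, Ideal.mk_ker, sup_comm])).symm

end Groth.Agent.IntMult66
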