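import Groth.Agent.IntMult66.FamCoeff
import Groth.Agent.S6450

/-!
# Cutting by the zero section
-/

set_option autoImplicit false
set_option linter.style.haveILetI false
set_option maxSynthPendingDepth 3

universe u

open CategoryTheory CategoryTheory.Limits AlgebraicGeometry IsLocalRing
open scoped TensorProduct

namespace Groth.Agent.IntMult66

open CycLib

variable {K : Type u} [Field K] [IsAlgClosed K] {P : Scheme.{u}} [IsIntegral P]
  (fP : P ⟶ Spec (CommRingCat.of K)) [Smooth fP] [IsSeparated fP] [QuasiCompact fP]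

include fP in
/-- The kernel of restriction to the section is the ideal of the section. -/
theorem stalkIdeal_sect_genericPoint (y : P) :
    IntMult.stalkIdeal (IntMult.ptIdeal (P1.sect P 0 (genericPoint P))) (P1.sect P 0 y) =
      RingHom.ker (sig P y) := by
  haveI := isClosedImmersion_sect P 0
  exact (ker_stalkMap_eq_stalkIdeal (P1.sect P 0) y).symm

include fP in
theorem chi_sig (y : P) (I : Ideal ((CohB1.ProjSpaceOver 1 P).presheaf.stalk (P1.sect P 0 y))) [I.IsPrime]
    (hI : ¬ RingHom.ker (sig P y) ≤ I) (Q : Ideal (P.presheaf.stalk y)) :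
    IntMult.chi ((CohB1.ProjSpaceOver 1 P).presheaf.stalk (P1.sect P 0 y)) ((CohB1.ProjSpaceOver 1 P).presheaf.stalk (P1.sect P 0 y) ⧸ I)
        ((CohB1.ProjSpaceOver 1 P).presheaf.stalk (P1.sect P 0 y) ⧸ Q.comap (sig P y)) =
      IntMult.chi (P.presheaf.stalk y) (P.presheaf.stalk y ⧸ I.map (sig P y)) (P.presheaf.stalk y ⧸ Q) := by
  obtain ⟨R, _, _, _, p, _, _, _⟩ := exists_chart fP y
  haveI := isRegularLocalRing_localization K R p (P.presheaf.stalk y)
  haveI := isRegular_stalk fP (P1.sect P 0 y)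
  haveI : IsDomain ((CohB1.ProjSpaceOver 1 P).presheaf.stalk (P1.sect P 0 y)) := RegLoc.isDomain _
  letI : Algebra ((CohB1.ProjSpaceOver 1 P).presheaf.stalk (P1.sect P 0 y)) (P.presheaf.stalk y) :=
    (sig P y).toAlgebra
  obtain ⟨t, ht⟩ := exists_ker_sig y
  have htI : t ∉ I := fun h => hI (ht ▸ (Ideal.span_singleton_le_iff_mem _).2 h)
  have ht0 : t ≠ 0 := fun h => htI (h ▸ I.zero_mem)
  have hs : Function.Surjective (algebraMap ((CohB1.ProjSpaceOver 1 P).presheaf.stalk (P1.sect P 0 y))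
      (P.presheaf.stalk y)) := sig_surjective y
  let e : ((CohB1.ProjSpaceOver 1 P).presheaf.stalk (P1.sect P 0 y) ⧸ Q.comap (sig P y)) →ₗ[(CohB1.ProjSpaceOver 1 P).presheaf.stalk (P1.sect P 0 y)]
      (P.presheaf.stalk y ⧸ Q) :=
    Submodule.liftQ _ (((Ideal.Quotient.mkₐ (P.presheaf.stalk y) Q).toLinearMap.restrictScalars
        ((CohB1.ProjSpaceOver 1 P).presheaf.stalk (P1.sect P 0 y))) ∘ₗ Algebra.linearMap _ _)
      (fun a ha => Ideal.Quotient.eq_zero_iff_mem.2 ha)
  have he : Function.Bijective e := by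
    refine ⟨?_, fun z => ?_⟩
    · rw [← LinearMap.ker_eq_bot, LinearMap.ker_eq_bot']
      intro z hz
      obtain ⟨z, rfl⟩ := Ideal.Quotient.mk_surjective z
      have hz' : Ideal.Quotient.mk Q (sig P y z) = 0 := hz
      exact Ideal.Quotient.eq_zero_iff_mem.2 (Ideal.mem_comap.2 (Ideal.Quotient.eq_zero_iff_mem.1 hz'))
    · obtain ⟨z, rfl⟩ := Ideal.Quotient.mk_surjective z
      obtain ⟨w, rfl⟩ := hs z
      exact ⟨Ideal.Quotient.mk _ w, rfl⟩
  rw [chi_congr_right _ (LinearEquiv.ofBijective e he)]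
  refine chi_cut_quot t ht hs (isRegular_of_ne_zero ht0).left I ?_ _
  intro a b hab
  obtain ⟨a, rfl⟩ := Ideal.Quotient.mk_surjective a
  obtain ⟨b, rfl⟩ := Ideal.Quotient.mk_surjective b
  refine Ideal.Quotient.eq.2 ((Ideal.IsPrime.mem_or_mem inferInstance ?_).resolve_left htI)
  rw [mul_sub]
  exact Ideal.Quotient.eq.1 (show Ideal.Quotient.mk I (t * a) = Ideal.Quotient.mk I (t * b) from hab)

variable {δP : P → ℤ} (hδP : Cyc.DeltaCompat fP δP (fun _ => 0))
  {δ' : ↥(CohB1.ProjSpaceOver 1 P) → ℤ}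
  (hδ' : Cyc.DeltaCompat (CohB1.ProjSpaceOver.toBase 1 P) δ' δP)

include hδP hδ' in
theorem interProd_fibre_sect {X : Scheme.{u}} [IsIntegral X] (fX : X ⟶ Spec (CommRingCat.of K)) [Smooth fX]
    [IsSeparated fX] [QuasiCompact fX] (ι : X ⟶ P) [IsClosedImmersion ι]
    (NP n : ℕ) (hNP : δP (genericPoint P) = NP) (hn : δP (ι (genericPoint X)) = n)
    (ζ : ↥(CohB1.ProjSpaceOver 1 P)) (h1 : CohB1.ProjSpaceOver.toBase 1 P ζ = ι (genericPoint X))
    (h2 : δ' ζ = n + 1) :
    IntMult.interProd δ' ((NP : ℤ) + 1) (Set.indicator {ζ} 1)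
        (Set.indicator {P1.sect P 0 (genericPoint P)} 1) =
      Set.indicator {P1.sect P 0 (ι (genericPoint X))} 1 := by
  classical
  haveI := isClosedImmersion_sect P 0
  haveI := smooth_toBase_comp fP
  have hδ := deltaCompat_toBase_comp fP hδP hδ'
  set x := ι (genericPoint X)
  obtain ⟨hs, hsum⟩ := fibre_point fP hδP hδ' fX ι ζ h1 (by rw [h2, hn])
  funext w
  rw [interProd_indicator, h2, delta_sect hδ', hNP]
  by_cases hw : w = P1.sect P 0 x
  · subst hw
    rw [if_pos (by rw [delta_sect hδ', hn]; omega), Set.indicator_of_mem (Set.mem_singleton _), Pi.one_apply]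
    have hnle : ¬ RingHom.ker (sig P x) ≤ (ptPrime (P1.sect P 0 x) ζ hs).asIdeal := fun hle => by
      obtain ⟨ξ, hξ, hξx⟩ := exists_ker_sig_le hs hle
      subst hξ
      rw [toBase_sect] at h1
      subst h1
      rw [delta_sect hδ', hn] at h2
      omega
    haveI := (ptPrime (P1.sect P 0 x) ζ hs).isPrime
    have hb : RingHom.ker (sig P x) = (⊥ : Ideal (P.presheaf.stalk x)).comap (sig P x) := rfl
    rw [IntMult.mult, stalkIdeal_sect_genericPoint fP, stalkIdeal_ptIdeal hs, IntMult88.chi_comm, hb,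
      chi_sig fP x _ hnle ⊥,
      chi_congr_right _ (Submodule.quotEquivOfEqBot (⊥ : Ideal (P.presheaf.stalk x)) rfl)]
    obtain ⟨R, _, _, _, p, _, _, _⟩ := exists_chart fP x
    haveI := isRegularLocalRing_localization K R p (P.presheaf.stalk x)
    rw [chi_self]
    have hmap : (ptPrime (P1.sect P 0 x) ζ hs).asIdeal.map (sig P x) = maximalIdeal _ := by
      refine le_antisymm (Ideal.map_le_iff_le_comap.2 fun a ha => ?_) fun b hb' => ?_
      · rw [Ideal.mem_comap, mem_maximalIdeal]
        exact map_nonunit ((P1.sect P 0).stalkMap x).hom a (le_maximalIdeal Ideal.IsPrime.ne_top' ha)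
      · obtain ⟨a, rfl⟩ := sig_surjective x b
        have ha : a ∈ maximalIdeal _ := by
          rw [mem_maximalIdeal]
          exact fun hu => (mem_maximalIdeal _).1 hb' (hu.map (sig P x))
        rw [← hsum, Submodule.mem_sup] at ha
        obtain ⟨u, hu, v, hv, rfl⟩ := ha
        rw [map_add, RingHom.mem_ker.1 hv, add_zero]
        exact Ideal.mem_map_of_mem _ hu
    rw [hmap]
    haveI : IsSimpleModule (P.presheaf.stalk x)
        (P.presheaf.stalk x ⧸ maximalIdeal (P.presheaf.stalk x)) :=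
      isSimpleModule_iff_isCoatom.2 (Ideal.isMaximal_def.1 (maximalIdeal.isMaximal _))
    rw [Module.length_eq_one]
    rfl
  · rw [Set.indicator_of_notMem (by simpa using hw)]
    split_ifs with hd
    · by_contra hne
      have hz : ζ ⤳ w := by_contra fun h => hne (mult_eq_zero_left h)
      have hsw : P1.sect P 0 (genericPoint P) ⤳ w := by_contra fun h => hne (mult_eq_zero_right h)
      obtain ⟨y, rfl⟩ := hsw.mem_closed (P1.sect P 0).isClosedEmbedding.isClosed_range ⟨_, rfl⟩
      have hxy := hz.map (CohB1.ProjSpaceOver.toBase 1 P).continuous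
      rw [h1, toBase_sect] at hxy
      rw [delta_sect hδ'] at hd
      exact hw (congrArg _ (eq_of_le fP hδP hxy (by omega)).symm)
    · rfl

end Groth.Agent.IntMult66
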