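import Groth.Agent.Wt.FlatWt
import Mathlib.FieldTheory.PurelyInseparable.Basic
import Mathlib.FieldTheory.Normal.Basic
import Mathlib.RingTheory.Etale.Field
import Mathlib.AlgebraicGeometry.Morphisms.FlatRank

/-!
# Fibres of a base change by a finite normal extension
-/

set_option autoImplicit false
set_option linter.style.haveILetI false
set_option maxHeartbeats 1000000

universe u

open CategoryTheory CategoryTheory.Limits AlgebraicGeometry

namespace Groth.Agent.IntMult66.GalDescent

open Groth.Agent.Wt.FlatWt

/-- Two embeddings of a normal extension differ by an automorphism. -/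
theorem exists_algEquiv_comp {k K L : Type u} [Field k] [Field K] [Algebra k K] [Normal k K] [Field L] [Algebra k L]
    (a b : K →ₐ[k] L) : ∃ σ : K ≃ₐ[k] K, ∀ x, a (σ x) = b x := by
  have e := AlgEquiv.ofInjectiveField a
  haveI : Normal k a.fieldRange := Normal.of_algEquiv e
  let f : a.fieldRange →ₐ[k] L := b.comp (AlgEquiv.ofInjectiveField a).symm.toAlgHom
  have hf : f.fieldRange = a.fieldRange := AlgHom.fieldRange_of_normal f
  have hmem : ∀ x : K, b x ∈ a.fieldRange := fun x => by
    rw [← hf]
    exact ⟨AlgEquiv.ofInjectiveField a x, congrArg b ((AlgEquiv.ofInjectiveField a).symm_apply_apply x)⟩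
  let φ : K →ₐ[k] K := (AlgEquiv.ofInjectiveField a).symm.toAlgHom.comp (b.codRestrict a.fieldRange.toSubalgebra hmem)
  refine ⟨AlgEquiv.ofBijective φ (Algebra.IsAlgebraic.algHom_bijective φ), fun x => ?_⟩
  show (AlgEquiv.ofInjectiveField a ((AlgEquiv.ofInjectiveField a).symm _) : L) = b x
  rw [AlgEquiv.apply_symm_apply]
  rfl

variable {k : Type u} [Field k] {k' : Type u} [Field k'] [Algebra k k'] {X : Scheme.{u}}
  (f : X ⟶ Spec (CommRingCat.of k))

/-- Two points over the same point come from two points valued in one field. -/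
theorem exists_field_points (x₁ x₂ : ↥(pullback f (Spec.map (CommRingCat.ofHom (algebraMap k k')))))
    (h : pullback.fst f (Spec.map (CommRingCat.ofHom (algebraMap k k'))) x₁ =
      pullback.fst f (Spec.map (CommRingCat.ofHom (algebraMap k k'))) x₂) :
    ∃ (L : CommRingCat.{u}) (_ : IsField L) (a b : Spec L ⟶ pullback f (Spec.map (CommRingCat.ofHom (algebraMap k k'))))
      (z : ↥(Spec L)), a z = x₁ ∧ b z = x₂ ∧
      a ≫ pullback.fst f _ = b ≫ pullback.fst f _ := by
  obtain ⟨w, h1, h2⟩ := Scheme.Pullback.exists_preimage_pullback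
    (f := pullback.fst f (Spec.map (CommRingCat.ofHom (algebraMap k k'))))
    (g := pullback.fst f (Spec.map (CommRingCat.ofHom (algebraMap k k')))) x₁ x₂ h
  let p := pullback.fst f (Spec.map (CommRingCat.ofHom (algebraMap k k')))
  refine ⟨(pullback p p).residueField w, Field.toIsField _, (pullback p p).fromSpecResidueField w ≫ pullback.fst p p,
    (pullback p p).fromSpecResidueField w ≫ pullback.snd p p, IsLocalRing.closedPoint _, ?_, ?_, ?_⟩
  · rw [Scheme.Hom.comp_apply, Scheme.fromSpecResidueField_apply, h1]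
  · rw [Scheme.Hom.comp_apply, Scheme.fromSpecResidueField_apply, h2]
  · rw [Category.assoc, Category.assoc, pullback.condition]

theorem exists_translate [Normal k k'] (x₁ x₂ : ↥(pullback f (Spec.map (CommRingCat.ofHom (algebraMap k k')))))
    (h : pullback.fst f (Spec.map (CommRingCat.ofHom (algebraMap k k'))) x₁ =
      pullback.fst f (Spec.map (CommRingCat.ofHom (algebraMap k k'))) x₂) :
    ∃ (σ : k' ≃ₐ[k] k')
      (t : pullback f (Spec.map (CommRingCat.ofHom (algebraMap k k'))) ⟶
        pullback f (Spec.map (CommRingCat.ofHom (algebraMap k k')))),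
      IsIso t ∧ t ≫ pullback.fst f _ = pullback.fst f _ ∧
      t ≫ pullback.snd f _ = pullback.snd f _ ≫ Spec.map (CommRingCat.ofHom σ.toAlgHom.toRingHom) ∧
      t x₁ = x₂ := by
  obtain ⟨L, hL, a, b, z, ha, hb, hab⟩ := exists_field_points f x₁ x₂ h
  letI := hL.toField
  let g := Spec.map (CommRingCat.ofHom (algebraMap k k'))
  obtain ⟨φa, hφa⟩ := Spec.map_surjective (a ≫ pullback.snd f g)
  obtain ⟨φb, hφb⟩ := Spec.map_surjective (b ≫ pullback.snd f g)
  have hcomm : CommRingCat.ofHom (algebraMap k k') ≫ φa = CommRingCat.ofHom (algebraMap k k') ≫ φb := by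
    apply Spec.map_injective
    rw [Spec.map_comp, Spec.map_comp, hφa, hφb, Category.assoc, Category.assoc, ← pullback.condition,
      ← Category.assoc, hab, Category.assoc]
  letI : Algebra k L := (φa.hom.comp (algebraMap k k')).toAlgebra
  let A : k' →ₐ[k] L := { φa.hom with commutes' := fun _ => rfl }
  let B : k' →ₐ[k] L := { φb.hom with commutes' := fun c => (ConcreteCategory.congr_hom hcomm c).symm }
  obtain ⟨σ, hσ⟩ := exists_algEquiv_comp A B
  let s : Spec (CommRingCat.of k') ⟶ Spec (CommRingCat.of k') := Spec.map (CommRingCat.ofHom σ.toAlgHom.toRingHom)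
  haveI : IsIso s := by
    haveI : IsIso (CommRingCat.ofHom σ.toAlgHom.toRingHom) :=
      (inferInstance : IsIso σ.toRingEquiv.toCommRingCatIso.hom)
    infer_instance
  have hs : s ≫ g = g := by
    rw [← Spec.map_comp, ← CommRingCat.ofHom_comp]
    exact congrArg (fun r => Spec.map (CommRingCat.ofHom r)) (RingHom.ext fun c => σ.commutes c)
  refine ⟨σ, pullback.map f g f g (𝟙 _) s (𝟙 _) (by simp) (by rw [Category.comp_id, hs]), inferInstance,
    ?_, pullback.lift_snd _ _ _, ?_⟩
  · exact (pullback.lift_fst _ _ _).trans (Category.comp_id _)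
  have key : a ≫ pullback.map f g f g (𝟙 _) s (𝟙 _) (by simp) (by rw [Category.comp_id, hs]) = b := by
    apply pullback.hom_ext
    · rw [Category.assoc, pullback.lift_fst, Category.comp_id, hab]
    · rw [Category.assoc, pullback.lift_snd, ← Category.assoc, ← hφa, ← hφb, ← Spec.map_comp]
      exact congrArg Spec.map (CommRingCat.hom_ext (RingHom.ext fun c => hσ c))
  rw [← ha, ← hb, ← key, Scheme.Hom.comp_apply]

theorem eq_of_fst_eq [IsPurelyInseparable k k']
    (x₁ x₂ : ↥(pullback f (Spec.map (CommRingCat.ofHom (algebraMap k k')))))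
    (h : pullback.fst f (Spec.map (CommRingCat.ofHom (algebraMap k k'))) x₁ =
      pullback.fst f (Spec.map (CommRingCat.ofHom (algebraMap k k'))) x₂) : x₁ = x₂ := by
  obtain ⟨L, hL, a, b, z, ha, hb, hab⟩ := exists_field_points f x₁ x₂ h
  letI := hL.toField
  let g := Spec.map (CommRingCat.ofHom (algebraMap k k'))
  obtain ⟨φa, hφa⟩ := Spec.map_surjective (a ≫ pullback.snd f g)
  obtain ⟨φb, hφb⟩ := Spec.map_surjective (b ≫ pullback.snd f g)
  have hcomm : CommRingCat.ofHom (algebraMap k k') ≫ φa = CommRingCat.ofHom (algebraMap k k') ≫ φb := by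
    apply Spec.map_injective
    rw [Spec.map_comp, Spec.map_comp, hφa, hφb, Category.assoc, Category.assoc, ← pullback.condition,
      ← Category.assoc, hab, Category.assoc]
  letI : Algebra k L := (φa.hom.comp (algebraMap k k')).toAlgebra
  let A : k' →ₐ[k] L := { φa.hom with commutes' := fun _ => rfl }
  let B : k' →ₐ[k] L := { φb.hom with commutes' := fun c => (ConcreteCategory.congr_hom hcomm c).symm }
  have hφ : φa = φb := CommRingCat.hom_ext (congrArg AlgHom.toRingHom (Subsingleton.elim A B))
  have key : a = b := by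
    apply pullback.hom_ext hab
    rw [← hφa, ← hφb, hφ]
  rw [← ha, ← hb, key]

/-- The multiplicity of a point divides the inseparable degree. -/
theorem ringLen_fst [FiniteDimensional k k'] (x : ↥(pullback f (Spec.map (CommRingCat.ofHom (algebraMap k k'))))) :
    0 < ringLen ((pullback.fst f (Spec.map (CommRingCat.ofHom (algebraMap k k')))).stalkMap x) ∧
      ringLen ((pullback.fst f (Spec.map (CommRingCat.ofHom (algebraMap k k')))).stalkMap x) ∣
        Field.finInsepDegree k k' := by
  let ks := separableClosure k k'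
  let g := Spec.map (CommRingCat.ofHom (algebraMap k k'))
  let g1 := Spec.map (CommRingCat.ofHom (algebraMap ks k'))
  let g2 := Spec.map (CommRingCat.ofHom (algebraMap k ks))
  have hg : g1 ≫ g2 = g := by
    rw [← Spec.map_comp, ← CommRingCat.ofHom_comp, ← IsScalarTower.algebraMap_eq]
  haveI : Etale g2 := by
    haveI : Algebra.FormallyEtale k ks := Algebra.FormallyEtale.of_isSeparable k ks
    haveI : Algebra.Etale k ks := ⟨inferInstance, Algebra.FinitePresentation.of_finiteType.1 inferInstance⟩
    exact (HasRingHomProperty.Spec_iff (P := @Etale)).2 (RingHom.etale_algebraMap.2 inferInstance)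
  haveI : IsFinite g1 := (IsFinite.SpecMap_iff _).2 (RingHom.finite_algebraMap.2 inferInstance)
  haveI : Flat g1 := Flat.SpecMap_iff.2 (RingHom.flat_algebraMap_iff.2 inferInstance)
  let h : pullback f g ⟶ pullback f g2 := pullback.lift (pullback.fst f g) (pullback.snd f g ≫ g1)
    (by rw [Category.assoc, hg, pullback.condition])
  have hh1 : h ≫ pullback.fst f g2 = pullback.fst f g := pullback.lift_fst _ _ _
  have hh2 : h ≫ pullback.snd f g2 = pullback.snd f g ≫ g1 := pullback.lift_snd _ _ _
  have hsq : IsPullback h (pullback.snd f g) (pullback.snd f g2) g1 :=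
    IsPullback.of_right (by rw [hh1, hg]; exact IsPullback.of_hasPullback f g) hh2 (IsPullback.of_hasPullback f g2)
  haveI : IsFinite h := MorphismProperty.of_isPullback hsq.flip ‹IsFinite g1›
  haveI : Flat h := MorphismProperty.of_isPullback hsq.flip ‹Flat g1›
  have hinj : ∀ u, h u = h x → u = x := fun u hu => by
    -- the base change of `h` along the second projection is the pullback of `k'` over `ks`
    have e := hsq.isoPullback
    have hfst : hsq.isoPullback.hom ≫ pullback.fst (pullback.snd f g2) g1 = h := hsq.isoPullback_hom_fst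
    have := eq_of_fst_eq (k := ks) (k' := k') (pullback.snd f g2) (hsq.isoPullback.hom u) (hsq.isoPullback.hom x)
      (by rw [← Scheme.Hom.comp_apply, ← Scheme.Hom.comp_apply, hfst]; exact hu)
    exact hsq.isoPullback.hom.isOpenEmbedding.injective this
  have hd : h.finrank (h x) = Field.finInsepDegree k k' := by
    rw [Scheme.Hom.finrank_of_isPullback _ _ _ _ hsq.flip (h x),
      Scheme.Hom.finrank_SpecMap_eq_finrank ((IsFinite.SpecMap_iff _).1 ‹IsFinite g1›) (Flat.SpecMap_iff.1 ‹Flat g1›)]
    rw [CommRingCat.hom_ofHom, RingHom.finrank_algebraMap, Module.rankAtStalk_eq_finrank_of_free]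
    rfl
  have hint := fibreIntegral_eq_finrank h (h x)
  letI : Unique {u // h u = h x} := ⟨⟨⟨x, rfl⟩⟩, fun u => Subtype.ext (hinj u.1 u.2)⟩
  rw [MoreMor.fibreIntegral, finsum_unique, hd] at hint
  have hlen : ringLen ((pullback.fst f g).stalkMap x) = ringLen (h.stalkMap x) := by
    have e : ∀ (p : pullback f g ⟶ X), p = h ≫ pullback.fst f g2 →
        ringLen (p.stalkMap x) = ringLen (h.stalkMap x) := by
      rintro p rfl
      rw [Scheme.Hom.stalkMap_comp]
      exact ringLen_comp_of_map_eq _ _ (etale_stalk (pullback.fst f g2) (h x)).1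
    exact e _ hh1.symm
  rw [hlen]
  have hpos := wt_pos h x
  refine ⟨Nat.pos_of_ne_zero fun h0 => ?_, ?_⟩
  · rw [wt, h0] at hpos
    simp at hpos
  · rw [wt, mul_assoc] at hint
    exact Int.natCast_dvd_natCast.1 ⟨_, hint.symm⟩

end Groth.Agent.IntMult66.GalDescent
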