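import Groth.Agent.IntMult66.FlatTor
import Groth.Agent.IntMult66.Oz
import Groth.Agent.S1897
import Groth.Agent.S17840
import Groth.Agent.CycLib.ChartKills
import Groth.Agent.CycLib.ShiftPull
import Groth.Agent.ZClosLib.CohDescent

/-!
# The intersection of a graph with the pullback of a cycle
-/

set_option autoImplicit false
set_option linter.style.haveILetI false

universe u

open CategoryTheory AlgebraicGeometry IsLocalRing
open scoped TensorProduct

namespace Groth.Agent.IntMult66

open CycLib

variable {K : Type u} [Field K] [IsAlgClosed K] {X W Y : Scheme.{u}} [IsIntegral X] [IsIntegral W]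
  [IsIntegral Y] (fX : X ⟶ Spec (CommRingCat.of K)) (fW : W ⟶ Spec (CommRingCat.of K))
  (fY : Y ⟶ Spec (CommRingCat.of K)) [LocallyOfFiniteType fX] [Smooth fW] [LocallyOfFiniteType fY]
  (g : X ⟶ W) [IsClosedImmersion g] (hg : g ≫ fW = fX) (q : W ⟶ Y) [Flat q] (hq : q ≫ fY = fW)
  [Flat (g ≫ q)] {δX : X → ℤ} {δW : W → ℤ} {δY : Y → ℤ}
  (hX : Cyc.IsSetup X δX) (hW : Cyc.IsSetup W δW) (hY : Cyc.IsSetup Y δY)
  (hδX : Cyc.DeltaCompat fX δX (fun _ => 0)) (hδW : Cyc.DeltaCompat fW δW (fun _ => 0))
  (hδY : Cyc.DeltaCompat fY δY (fun _ => 0)) (dX dY : ℕ) (hdX : δX (genericPoint X) = dX)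
  (hdY : δY (genericPoint Y) = dY) (hdW : δW (genericPoint W) = (dX : ℤ) + dY)

include hg hδX hδW in
theorem delta_closedImmersion (x : X) : δW (g x) = δX x := by
  have hc : Cyc.DeltaCompat g δX δW := by
    rw [delta_eq fX hδX, delta_eq fW hδW]
    exact deltaCompat_fdelta K g fX fW hg
  exact (delta_eq_of_surjective g hc x (residueFieldMap_bijective_closedImmersion g x).2).symm

include hg hq hX hY hδX hδY hdX hdY in
theorem exists_relDim : (dY : ℤ) ≤ dX ∧ (∀ x : X, δX x ≤ δY ((g ≫ q) x) + ((dX : ℤ) - dY)) := by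
  haveI := hX.1
  haveI : LocallyOfFiniteType ((g ≫ q) ≫ fY) := by
    rw [Category.assoc, hq, hg]; infer_instance
  haveI : LocallyOfFiniteType (g ≫ q) := locallyOfFiniteType_of_comp (g ≫ q) fY
  have hc : Cyc.DeltaCompat (g ≫ q) δX δY := by
    rw [delta_eq fX hδX, delta_eq fY hδY]
    exact deltaCompat_fdelta K (g ≫ q) fX fY (by rw [Category.assoc, hq, hg])
  obtain ⟨h0, hrel, -⟩ := Groth.Agent.S17840.result (g ≫ q) δX δY hY hc
  rw [hdX, hdY] at h0 hrel
  refine ⟨by omega, fun x => ?_⟩
  have hs : ShiftBy (g ≫ q) δX δY ((dX : ℤ) - dY) := by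
    intro z hm
    obtain ⟨k, hk, hk'⟩ := hc z
    have := trdeg_eq_of_hasRelDim (g ≫ q) hrel z hm
    rw [hk] at this
    rw [hk', show k = ((dX : ℤ) - dY).toNat by exact_mod_cast this]
    omega
  exact hs.le hX.2.2 x

include hg hq hX hW hY hδX hδW hδY hdX hdY hdW in
theorem interProd_graph (v : Y) :
    IntMult.IntersectProperly δW ((dX : ℤ) + dY) (Set.indicator {g (genericPoint X)} 1)
        (Cyc.pullFun q δW δY dX (Set.indicator {v} 1)) ∧
    (∀ w : W, (∀ x : X, g x ≠ w) →
      IntMult.interProd δW ((dX : ℤ) + dY) (Set.indicator {g (genericPoint X)} 1)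
        (Cyc.pullFun q δW δY dX (Set.indicator {v} 1)) w = 0) ∧
    ∀ x : X, IntMult.interProd δW ((dX : ℤ) + dY) (Set.indicator {g (genericPoint X)} 1)
        (Cyc.pullFun q δW δY dX (Set.indicator {v} 1)) (g x) =
      Cyc.pullFun (g ≫ q) δX δY ((dX : ℤ) - dY) (Set.indicator {v} 1) x := by
  classical
  haveI := hW.1
  haveI := hY.1
  haveI := hX.1
  obtain ⟨hdd, hle⟩ := exists_relDim fX fW fY g hg q hq hX hY hδX hδY dX dY hdX hdY
  have hδg := delta_closedImmersion fX fW g hg hδX hδW
  haveI : LocallyOfFiniteType (q ≫ fY) := hq ▸ inferInstance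
  haveI : LocallyOfFiniteType q := locallyOfFiniteType_of_comp q fY
  have hcq : Cyc.DeltaCompat q δW δY := by
    rw [delta_eq fW hδW, delta_eq fY hδY]
    exact deltaCompat_fdelta K q fW fY hq
  obtain ⟨-, hrelq, -⟩ := Groth.Agent.S17840.result q δW δY hY hcq
  rw [hdW, hdY, show ((dX : ℤ) + dY - dY).toNat = dX by omega] at hrelq
  have hc2 := Groth.Agent.CohDev.isCoh_oz (X := Y) v
  haveI := hc2.1
  obtain ⟨hsv, hev⟩ := sheafFun_oz fY hδY v
  obtain ⟨hb, hpull⟩ := Groth.Agent.S1897.result W Y δW δY hW hY q dX hrelq hcq (δY v)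
    (Cyc.closureStructureSheaf v) hc2 fun y hy => delta_mono fY hδY (hsv y hy)
  rw [hev] at hpull
  obtain ⟨hsg, heg⟩ := sheafFun_oz fW hδW (g (genericPoint X))
  have hG := ZClosLib.CohDescent.isCoh_pullback q _ hc2
  haveI := hG.1
  have hdown : ∀ w : W,
      Nontrivial (((Scheme.Modules.pullback q).obj (Cyc.closureStructureSheaf v)).presheaf.stalk w) →
        v ⤳ q w := by
    intro w hw
    refine hsv _ ?_
    by_contra h
    haveI := not_nontrivial_iff_subsingleton.mp h
    letI := (q.stalkMap w).hom.toAlgebra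
    letI := PullStalk.Basic.moduleOver q (Cyc.closureStructureSheaf v) w
    haveI : IsScalarTower (Y.presheaf.stalk (q w)) (W.presheaf.stalk w)
        (((Scheme.Modules.pullback q).obj (Cyc.closureStructureSheaf v)).presheaf.stalk w) :=
      IsScalarTower.of_algebraMap_smul fun _ _ => rfl
    exact not_subsingleton _ (PullStalk.Basic.isBaseChange_unitStalk q (Cyc.closureStructureSheaf v) w).equiv.symm.injective.subsingleton
  have hongraph : ∀ w : W, g (genericPoint X) ⤳ w → ∃ x : X, g x = w := fun w h => by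
    have hcl : IsClosed (Set.range g) := g.isClosedEmbedding.isClosed_range
    exact hcl.stableUnderSpecialization h ⟨_, rfl⟩
  obtain ⟨hprop, hval⟩ := interProd_sheafFun fW hδW hdW (Cyc.closureStructureSheaf (g (genericPoint X)))
    ((Scheme.Modules.pullback q).obj (Cyc.closureStructureSheaf v)) (CohDev.isCoh_oz _) hG
    (r := δW (g (genericPoint X))) (s := δY v + dX)
    (fun w hw => delta_mono fW hδW (hsg w hw)) hb fun w h1 h2 => by
      obtain ⟨x, rfl⟩ := hongraph w (hsg w h1)
      have h3 := hle x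
      have h4 := delta_mono fY hδY (hdown _ h2)
      rw [hδg, hδg, hdX]
      rw [Scheme.Hom.comp_apply] at h3
      omega
  rw [heg, ← hpull] at hprop
  refine ⟨hprop, fun w hw => ?_, fun x => ?_⟩
  · rw [← heg, hpull, hval w]
    split_ifs
    · rcases subsingleton_or_nontrivial ((Cyc.closureStructureSheaf (g (genericPoint X))).presheaf.stalk w) with h0 | h0
      · rw [IntMult88.chi_comm, chi_subsingleton]
      · obtain ⟨x, hx⟩ := hongraph w (hsg w h0)
        exact absurd hx (hw x)
    · rfl
  rw [← heg, hpull, hval (g x), hδg, hδg, hdX]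
  have hsp : g (genericPoint X) ⤳ g x := (genericPoint_specializes x).map g.continuous
  unfold Cyc.pullFun
  by_cases hd : δX x = δY v + ((dX : ℤ) - dY)
  swap
  · rw [if_neg (by omega)]
    split_ifs with h
    · rw [Set.indicator_of_notMem (fun h' => hd ?_), zero_mul]
      rw [Set.mem_singleton_iff] at h'
      rwa [h'] at h
    · rfl
  rw [if_pos (by omega)]
  have hcomp : (g ≫ q) x = q (g x) := Scheme.Hom.comp_apply g q x
  by_cases hv : v ⤳ q (g x)
  swap
  · rcases subsingleton_or_nontrivial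
      (((Scheme.Modules.pullback q).obj (Cyc.closureStructureSheaf v)).presheaf.stalk (g x)) with h0 | h0
    · rw [chi_subsingleton, Set.indicator_of_notMem (fun h => hv ?_)]
      · simp
      · rw [Set.mem_singleton_iff, hcomp] at h
        rw [h]
    · exact absurd (hdown _ h0) hv
  have hvx : q (g x) = v := by
    have h3 := hle x
    rw [hcomp] at h3
    exact (eq_of_le fY hδY hv (by omega)).symm
  rw [if_pos (by rw [hcomp, hvx, hd]), Set.indicator_of_mem (by rw [Set.mem_singleton_iff, hcomp, hvx]),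
    Pi.one_apply, one_mul]
  letI aAB : Algebra (Y.presheaf.stalk (q (g x))) (W.presheaf.stalk (g x)) := (q.stalkMap (g x)).hom.toAlgebra
  letI aBX : Algebra (W.presheaf.stalk (g x)) (X.presheaf.stalk x) := (g.stalkMap x).hom.toAlgebra
  letI aAX : Algebra (Y.presheaf.stalk (q (g x))) (X.presheaf.stalk x) :=
    (q.stalkMap (g x) ≫ g.stalkMap x).hom.toAlgebra
  haveI : IsScalarTower (Y.presheaf.stalk (q (g x))) (W.presheaf.stalk (g x)) (X.presheaf.stalk x) :=
    IsScalarTower.of_algebraMap_eq fun _ => rfl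
  have hflat : (q.stalkMap (g x) ≫ g.stalkMap x).hom.Flat := by
    rw [← Scheme.Hom.stalkMap_comp]
    exact Flat.stalkMap (g ≫ q) x
  haveI : Module.Flat (Y.presheaf.stalk (q (g x))) (X.presheaf.stalk x) := hflat
  haveI : Module.Flat (Y.presheaf.stalk (q (g x))) (W.presheaf.stalk (g x)) := Flat.stalkMap q (g x)
  letI := PullStalk.Basic.moduleOver q (Cyc.closureStructureSheaf v) (g x)
  haveI : IsScalarTower (Y.presheaf.stalk (q (g x))) (W.presheaf.stalk (g x))
      (((Scheme.Modules.pullback q).obj (Cyc.closureStructureSheaf v)).presheaf.stalk (g x)) :=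
    IsScalarTower.of_algebraMap_smul fun _ _ => rfl
  obtain ⟨eF⟩ := nonempty_stalk_oz hsp
  have hsurj : Function.Surjective (g.stalkMap x).hom := g.stalkMap_surjective x
  have hkerg : RingHom.ker (g.stalkMap x).hom = (ptPrime (g x) (g (genericPoint X)) hsp).asIdeal := by
    ext c
    show _ ↔ Cyc.specMap (g x) (g (genericPoint X)) hsp c = 0
    rw [RingHom.mem_ker, ← map_eq_zero_iff _ (g.residueFieldMap (genericPoint X)).hom.injective]
    erw [residueFieldMap_specMap' g (genericPoint_specializes x) c]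
    refine ⟨fun h => by erw [h, map_zero], fun h => ?_⟩
    replace h : X.residue (genericPoint X) (X.presheaf.stalkSpecializes (genericPoint_specializes x) (g.stalkMap x c)) = 0 := h
    have hres : ∀ z : X.presheaf.stalk (genericPoint X), X.residue (genericPoint X) z = 0 → z = 0 := fun z hz => by
      have := (IsLocalRing.residue_eq_zero_iff z).1 hz
      rwa [(IsLocalRing.isField_iff_maximalIdeal_eq).1 (Field.toIsField X.functionField), Ideal.mem_bot] at this
    exact (IsFractionRing.injective (X.presheaf.stalk x) X.functionField) ((hres _ h).trans (map_zero (algebraMap (X.presheaf.stalk x) X.functionField)).symm)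
  let eX : (W.presheaf.stalk (g x) ⧸ (ptPrime (g x) (g (genericPoint X)) hsp).asIdeal) ≃ₗ[W.presheaf.stalk (g x)]
      X.presheaf.stalk x :=
    (Submodule.quotEquivOfEq _ (LinearMap.ker (Algebra.linearMap (W.presheaf.stalk (g x)) (X.presheaf.stalk x)))
      (hkerg.symm.trans rfl)).trans
      (LinearMap.quotKerEquivOfSurjective (Algebra.linearMap (W.presheaf.stalk (g x)) (X.presheaf.stalk x)) hsurj)
  haveI := FDesc.QuasiFlat.finite_stalk_of_isCoh _ hc2 (q (g x))
  rw [chi_congr_left _ (eF.symm.trans eX),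
    ← chi_congr_right _ (PullStalk.Basic.isBaseChange_unitStalk q (Cyc.closureStructureSheaf v) (g x)).equiv,
    IntMult88.chi_comm, chi_baseChange_flat, Module.length_eq_of_surjective (S := W.presheaf.stalk (g x))
      (R := X.presheaf.stalk x) hsurj]
  haveI : IsLocalHom (algebraMap (Y.presheaf.stalk (q (g x))) (X.presheaf.stalk x)) :=
    inferInstanceAs (IsLocalHom (q.stalkMap (g x) ≫ g.stalkMap x).hom)
  rw [CycLib.length_tensor, show Module.length (Y.presheaf.stalk (q (g x)))
    ((Cyc.closureStructureSheaf v).presheaf.stalk (q (g x))) = 1 by rw [hvx]; exact CohDev.length_stalk_oz v,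
    one_mul]
  rw [show (algebraMap (Y.presheaf.stalk (q (g x))) (X.presheaf.stalk x)) = (q.stalkMap (g x) ≫ g.stalkMap x).hom
    from rfl, ← Scheme.Hom.stalkMap_comp]
  rfl

end Groth.Agent.IntMult66
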