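import Groth.Agent.IntMult66.Dim
import Groth.Agent.KosEuler.Devissage
import Groth.Agent.KosTor.Basic
import Groth.Agent.EGA4Lib.SmoothRegular
import Groth.Agent.RegLoc.Basic

/-!
# The Euler characteristic of `Tor` on a smooth algebra, through the diagonal

Additivity, vanishing in excess dimension, and positivity in the expected dimension.
-/

set_option autoImplicit false
set_option linter.style.haveILetI false
set_option maxSynthPendingDepth 3

universe u

open scoped TensorProduct
open IsLocalRing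

namespace Groth.Agent.IntMult66

variable (K R : Type u) [Field K] [IsAlgClosed K] [CommRing R] [Algebra K R] [Algebra.Smooth K R]
  (p : Ideal R) [p.IsPrime] (A : Type u) [CommRing A] [Algebra R A] [IsLocalization.AtPrime A p]
  [IsLocalRing A]

include K R p

omit [IsAlgClosed K] [IsLocalRing A] in
theorem isRegularLocalRing_localization : IsRegularLocalRing A := by
  haveI : IsNoetherianRing R := Algebra.FiniteType.isNoetherianRing K R
  have hK : PrimeSpectrum.comap (algebraMap K R) ⟨p, inferInstance⟩ ∈ EGA4.regLocus K :=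
    IsRegularRing.isRegularLocalRing_localization _
  have h : IsRegularLocalRing (Localization.AtPrime p) :=
    EGA4Lib.mem_regLocus_of_smooth (R := K) (S := R) ⟨p, inferInstance⟩ hK
  exact IsRegularLocalRing.of_ringEquiv
    (IsLocalization.algEquiv p.primeCompl (Localization.AtPrime p) A).toRingEquiv

theorem smooth_tensor : Algebra.Smooth K (R ⊗[K] RR R) :=
  Algebra.Smooth.comp K R (R ⊗[K] RR R)

/-- The diagonal is cut out by a regular sequence of length `dim A + dim R/p`. -/
theorem exists_seq : ∃ (l : List (DB K R p)) (d r : ℕ), ringKrullDim A = d ∧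
    ringKrullDim (R ⧸ p) = r ∧ l.length = d + r ∧ (∀ x ∈ l, x ∈ maximalIdeal (DB K R p)) ∧
    RingTheory.Sequence.IsWeaklyRegular (DB K R p) l.reverse ∧
    Ideal.ofList l = RingHom.ker (algebraMap (DB K R p) A) := by
  classical
  haveI := isRegularLocalRing_localization K R p A
  haveI := smooth_tensor K R
  haveI : IsRegularLocalRing (DB K R p) :=
    isRegularLocalRing_localization K (R ⊗[K] RR R) (dq K R p) (DB K R p)
  haveI : IsDomain A := RegLoc.isDomain A
  haveI : IsDomain (DB K R p) := RegLoc.isDomain _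
  obtain ⟨a, b, r, e, ha, hb, hr, he, hsum⟩ := dim_diagIdeal K R p A ⊥ ⊥
  rw [ringKrullDim_eq_of_ringEquiv (RingEquiv.quotientBot A)] at ha hb
  obtain rfl : a = b := by exact_mod_cast ha.symm.trans hb
  have hJ : diagIdeal K R p A ⊥ ⊥ = ⊥ := by simp [diagIdeal]
  rw [hJ, ringKrullDim_eq_of_ringEquiv (RingEquiv.quotientBot _)] at he
  let I : Ideal (DB K R p) := RingHom.ker (algebraMap (DB K R p) A)
  have hsurj := surjective_algebraMap (A := A) (B := DB K R p)
  let eI := RingHom.quotientKerEquivOfSurjective hsurj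
  haveI : IsRegularLocalRing (DB K R p ⧸ I) := IsRegularLocalRing.of_ringEquiv eI.symm
  obtain ⟨s, t, hs, hst, hcard⟩ := RegLoc.exists_finset_span_eq_of_quotient he I
  have hsp : ∀ u : Finset (DB K R p), (Ideal.span (u : Set (DB K R p))).spanFinrank ≤ u.card :=
    fun u => (Submodule.spanFinrank_span_le_ncard_of_finite (Finset.finite_toSet u)).trans
      (Set.ncard_coe_finset u).le
  obtain ⟨-, e', he', h1, -⟩ := RegLoc.isRegularLocalRing_quotient_of_sup_eq
    (a := s.card) (b := t.card) he hst (hsp s) (hsp t) hcard.le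
  have h2 : e' = a := by
    rw [hs, ringKrullDim_eq_of_ringEquiv eI] at he'
    exact_mod_cast he'.symm.trans ha
  let L : List (DB K R p) := s.toList ++ t.toList
  have hlen : L.length = e := by simp [L, hcard]
  have hrange : Ideal.span (Set.range L.get) = maximalIdeal (DB K R p) := by
    rw [← hst, ← Ideal.span_union]
    congr 1
    ext x
    simp [L]
  have hreg := RegLoc.isRegular_ofFn (R := DB K R p) (n := L.length) (hlen ▸ he) L.get hrange
  rw [List.ofFn_get] at hreg
  refine ⟨s.toList.reverse, a, r, ha, hr, ?_, ?_, ?_, ?_⟩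
  · simp only [List.length_reverse, Finset.length_toList]
    omega
  · intro x hx
    rw [← hst]
    exact Ideal.mem_sup_left (Ideal.subset_span (by simpa using hx))
  · rw [List.reverse_reverse]
    exact ((RingTheory.Sequence.isWeaklyRegular_append_iff (DB K R p) _ _).1
      hreg.toIsWeaklyRegular).1
  · show Ideal.ofList s.toList.reverse = I
    rw [← hs, Ideal.ofList]
    congr 1
    ext x
    simp

section Key

variable [Algebra (RR R) A] [IsCopy R A] (N : Type u) [AddCommGroup N] [Module A N]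
  [Module (RR R) N] [IsScalarTower (RR R) A N] [Module.Finite A N]
  (M : Type u) [AddCommGroup M] [Module A M] [Module.Finite A M]

omit [IsAlgClosed K] [Algebra.Smooth K R] [IsLocalRing A] in
theorem finite_E : Module.Finite (DB K R p) (DL K R p N ⊗[A] M) := by
  haveI := finite_DL K R p A N
  obtain ⟨m, f, hf⟩ := Module.Finite.exists_fin' A M
  exact Module.Finite.of_surjective
    ((TensorProduct.AlgebraTensorModule.lTensor (DB K R p) (DL K R p N) f) ∘ₗ
      (TensorProduct.piScalarRight A (DB K R p) (DL K R p N) (Fin m)).symm.toLinearMap)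
    ((LinearMap.lTensor_surjective _ hf).comp (LinearEquiv.surjective _))

omit [IsAlgClosed K] [Module.Finite A M] in
theorem chi_eq_χ [Module.Finite A M] (l : List (DB K R p))
    (hl : RingTheory.Sequence.IsWeaklyRegular (DB K R p) l.reverse)
    (hI : Ideal.ofList l = RingHom.ker (algebraMap (DB K R p) A)) :
    IntMult.chi A N M = KosEuler.χ l (DL K R p N ⊗[A] M) := by
  haveI := isRegularLocalRing_localization K R p A
  haveI := flat_DL K R p A N
  rw [chi_eq (DL K R p N) N (diagEquiv K R p A N) (subsingleton_tor_DL K R p A N) M,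
    chi_congr_left _ ((Submodule.quotEquivOfEq (Ideal.ofList l)
      (LinearMap.ker (Algebra.linearMap (DB K R p) A)) hI) ≪≫ₗ
      LinearMap.quotKerEquivOfSurjective (Algebra.linearMap (DB K R p) A)
        (surjective_algebraMap (A := A) (B := DB K R p))).symm,
    KosTor.chi_eq l hl]

omit [IsAlgClosed K] [Algebra.Smooth K R] in
theorem prim_E [IsNoetherianRing (DB K R p)] (l : List (DB K R p))
    (hI : Ideal.ofList l = RingHom.ker (algebraMap (DB K R p) A))
    (hfl : Module.length A (N ⊗[A] M) ≠ ⊤) : KosEuler.Prim l (DL K R p N ⊗[A] M) := by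
  haveI := finite_E K R p A N M
  refine KosEuler.prim_of_isFiniteLength l _ (Module.length_ne_top_iff.1 ?_)
  have e1 := ((TensorProduct.quotTensorEquivQuotSMul (DL K R p N ⊗[A] M) (Ideal.ofList l)).symm ≪≫ₗ
    TensorProduct.congr ((Submodule.quotEquivOfEq (Ideal.ofList l)
      (LinearMap.ker (Algebra.linearMap (DB K R p) A)) hI) ≪≫ₗ
      LinearMap.quotKerEquivOfSurjective (Algebra.linearMap (DB K R p) A)
        (surjective_algebraMap (A := A) (B := DB K R p))) (LinearEquiv.refl _ _)).length_eq
  rw [e1, Module.length_eq_of_surjective (surjective_algebraMap (A := A) (B := DB K R p))]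
  have e2 := ((TensorProduct.congr (diagEquiv K R p A N).symm (LinearEquiv.refl A M)) ≪≫ₗ
    TensorProduct.AlgebraTensorModule.assoc A (DB K R p) A A (DL K R p N) M).length_eq
  rwa [← e2]

end Key

section Prime

variable [Algebra (RR R) A] [IsCopy R A] (P Q : Ideal A)

set_option maxHeartbeats 1000000 in
omit [IsAlgClosed K] [Algebra.Smooth K R] [IsLocalRing A] in
/-- `V × W` at the diagonal point. -/
theorem nonempty_E_equiv :
    Nonempty ((DB K R p ⧸ diagIdeal K R p A P Q) ≃ₗ[DB K R p] DL K R p (A ⧸ Q) ⊗[A] (A ⧸ P)) := by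
  set J := diagIdeal K R p A P Q with hJ
  let ιr : A ⧸ Q →+* DB K R p ⧸ J := Ideal.Quotient.lift Q ((Ideal.Quotient.mk J).comp (rHom K R p A))
    fun a ha => Ideal.Quotient.eq_zero_iff_mem.2 (Ideal.mem_sup_right (Ideal.mem_map_of_mem _ ha))
  let ιl : A ⧸ P →+* DB K R p ⧸ J := Ideal.Quotient.lift P ((Ideal.Quotient.mk J).comp (lHom K R p A))
    fun a ha => Ideal.Quotient.eq_zero_iff_mem.2 (Ideal.mem_sup_left (Ideal.mem_map_of_mem _ ha))
  let gr : A ⧸ Q →ₗ[RR R] DB K R p ⧸ J :=
    { toFun := ιr
      map_add' := map_add ιr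
      map_smul' := fun y x => by
        obtain ⟨a, rfl⟩ := Ideal.Quotient.mk_surjective x
        show ιr (Ideal.Quotient.mk Q (y • a)) = Ideal.Quotient.mk J (y • rHom K R p A a)
        rw [Algebra.smul_def, Algebra.smul_def, algebraMap_RR K R p A y, IsCopy.eq, map_mul, map_mul,
          map_mul]
        rfl }
  let ψ1 : DL K R p (A ⧸ Q) →ₗ[DB K R p] DB K R p ⧸ J :=
    TensorProduct.AlgebraTensorModule.lift (LinearMap.toSpanSingleton (DB K R p) _ gr)
  let mul : (DB K R p ⧸ J) →ₗ[DB K R p] (A ⧸ P) →ₗ[A] DB K R p ⧸ J :=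
    { toFun := fun z =>
        { toFun := fun x => z * ιl x
          map_add' := fun x y => by rw [map_add, mul_add]
          map_smul' := fun a x => by
            obtain ⟨b, rfl⟩ := Ideal.Quotient.mk_surjective x
            obtain ⟨w, rfl⟩ := Ideal.Quotient.mk_surjective z
            show Ideal.Quotient.mk J w * ιl (Ideal.Quotient.mk P (a * b)) =
              Ideal.Quotient.mk J (a • (w * lHom K R p A b))
            rw [Algebra.smul_def, ← mul_left_comm, map_mul, map_mul]
            rfl }
      map_add' := fun z w => by ext x; simp [add_mul]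
      map_smul' := fun b z => by ext x; simp [smul_mul_assoc] }
  let ψ : DL K R p (A ⧸ Q) ⊗[A] (A ⧸ P) →ₗ[DB K R p] DB K R p ⧸ J :=
    TensorProduct.AlgebraTensorModule.lift (mul ∘ₗ ψ1)
  let g : DL K R p (A ⧸ Q) ⊗[A] (A ⧸ P) := ((1 : DB K R p) ⊗ₜ (1 : A ⧸ Q)) ⊗ₜ (1 : A ⧸ P)
  let φ0 : DB K R p →ₗ[DB K R p] DL K R p (A ⧸ Q) ⊗[A] (A ⧸ P) := LinearMap.toSpanSingleton _ _ g
  have hker : J ≤ LinearMap.ker φ0 := by
    refine sup_le ?_ ?_
    · rw [Ideal.map_le_iff_le_comap]
      intro a ha
      show lHom K R p A a • g = 0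
      have h1 : lHom K R p A a • ((1 : DB K R p) ⊗ₜ[RR R] (1 : A ⧸ Q)) =
          a • ((1 : DB K R p) ⊗ₜ[RR R] (1 : A ⧸ Q)) :=
        algebraMap_smul (DB K R p) a _
      rw [TensorProduct.smul_tmul', h1, TensorProduct.smul_tmul]
      have h2 : a • (1 : A ⧸ P) = 0 := by
        show Ideal.Quotient.mk P (a * 1) = 0
        rw [mul_one, Ideal.Quotient.eq_zero_iff_mem]
        exact ha
      rw [h2, TensorProduct.tmul_zero]
    · rw [Ideal.map_le_iff_le_comap]
      intro a ha
      show rHom K R p A a • g = 0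
      have h2 : a • (1 : A ⧸ Q) = 0 := by
        show Ideal.Quotient.mk Q (a * 1) = 0
        rw [mul_one, Ideal.Quotient.eq_zero_iff_mem]
        exact ha
      rw [TensorProduct.smul_tmul', rHom_smul K R p A (A ⧸ Q), h2, TensorProduct.tmul_zero,
        TensorProduct.zero_tmul]
  let φ := Submodule.liftQ J φ0 hker
  have hψφ : ∀ z, ψ (φ z) = z := fun z => by
    obtain ⟨b, rfl⟩ := Submodule.mkQ_surjective J z
    show ψ (b • g) = Submodule.mkQ J b
    rw [map_smul]
    show b • ((1 : DB K R p) • ιr 1 * ιl 1) = Ideal.Quotient.mk J b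
    rw [map_one, map_one, mul_one, smul_smul, mul_one, Algebra.smul_def, mul_one]
    rfl
  have hsurj : Function.Surjective φ := by
    intro z
    induction z using TensorProduct.induction_on with
    | zero => exact ⟨0, map_zero _⟩
    | add x y hx hy =>
      obtain ⟨u, rfl⟩ := hx
      obtain ⟨v, rfl⟩ := hy
      exact ⟨u + v, map_add _ _ _⟩
    | tmul x m =>
      obtain ⟨a, rfl⟩ := Ideal.Quotient.mk_surjective m
      induction x using TensorProduct.induction_on with
      | zero => exact ⟨0, by rw [map_zero, TensorProduct.zero_tmul]⟩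
      | add x y hx hy =>
        obtain ⟨u, hu⟩ := hx
        obtain ⟨v, hv⟩ := hy
        exact ⟨u + v, by rw [map_add, hu, hv, TensorProduct.add_tmul]⟩
      | tmul b n =>
        obtain ⟨c, rfl⟩ := Ideal.Quotient.mk_surjective n
        refine ⟨Submodule.mkQ J (lHom K R p A a * (rHom K R p A c * b)), ?_⟩
        show (lHom K R p A a * (rHom K R p A c * b)) • g = _
        rw [mul_smul, mul_smul, TensorProduct.smul_tmul', TensorProduct.smul_tmul',
          TensorProduct.smul_tmul' b, smul_eq_mul, mul_one, rHom_smul K R p A (A ⧸ Q),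
          TensorProduct.smul_tmul']
        have h1 : lHom K R p A a • (b ⊗ₜ[RR R] (c • (1 : A ⧸ Q))) =
            a • (b ⊗ₜ[RR R] (c • (1 : A ⧸ Q))) := algebraMap_smul (DB K R p) a _
        rw [h1, TensorProduct.smul_tmul,
          show c • (1 : A ⧸ Q) = Ideal.Quotient.mk Q c from by
            show Ideal.Quotient.mk Q (c * 1) = _; rw [mul_one],
          show a • (1 : A ⧸ P) = Ideal.Quotient.mk P a from by
            show Ideal.Quotient.mk P (a * 1) = _; rw [mul_one]]
  exact ⟨LinearEquiv.ofBijective φ ⟨Function.LeftInverse.injective hψφ, hsurj⟩⟩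

end Prime

/-- Additivity of the intersection number in the second variable. -/
theorem chi_add (N : Type u) [AddCommGroup N] [Module A N] [Module.Finite A N]
    {M₁ M₂ M₃ : Type u} [AddCommGroup M₁] [Module A M₁] [Module.Finite A M₁] [AddCommGroup M₂]
    [Module A M₂] [Module.Finite A M₂] [AddCommGroup M₃] [Module A M₃] [Module.Finite A M₃]
    (f : M₁ →ₗ[A] M₂) (g : M₂ →ₗ[A] M₃) (hf : Function.Injective f) (hg : Function.Surjective g)
    (hfg : Function.Exact f g) (hfl : Module.length A (N ⊗[A] M₂) ≠ ⊤) :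
    IntMult.chi A N M₂ = IntMult.chi A N M₁ + IntMult.chi A N M₃ := by
  letI : Algebra (RR R) A := inferInstanceAs (Algebra R A)
  haveI : IsCopy R A := ⟨fun _ => rfl⟩
  letI : Module (RR R) N := Module.compHom N (algebraMap (RR R) A)
  haveI : IsScalarTower (RR R) A N := IsScalarTower.of_algebraMap_smul fun _ _ => rfl
  haveI := smooth_tensor K R
  haveI : IsRegularLocalRing (DB K R p) :=
    isRegularLocalRing_localization K (R ⊗[K] RR R) (dq K R p) (DB K R p)
  haveI := flat_DL K R p A N
  obtain ⟨l, d, r, -, -, -, -, hl, hI⟩ := exists_seq K R p A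
  haveI := finite_E K R p A N M₁
  haveI := finite_E K R p A N M₂
  haveI := finite_E K R p A N M₃
  have h₂ := prim_E K R p A N M₂ l hI hfl
  have hf' : Function.Injective (TensorProduct.AlgebraTensorModule.lTensor (DB K R p) (DL K R p N) f) :=
    Module.Flat.lTensor_preserves_injective_linearMap f hf
  have hg' : Function.Surjective (TensorProduct.AlgebraTensorModule.lTensor (DB K R p) (DL K R p N) g) :=
    LinearMap.lTensor_surjective _ hg
  rw [chi_eq_χ K R p A N M₁ l hl hI, chi_eq_χ K R p A N M₂ l hl hI, chi_eq_χ K R p A N M₃ l hl hI]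
  exact KosEuler.χ_add hf' hg' (lTensor_exact (DL K R p N) hfg hg)
    (fun i => (h₂.of_injective _ hf').length_ne_top i) h₂.length_ne_top
    (fun i => (h₂.of_surjective _ hg').length_ne_top i)

/-- Vanishing and positivity for subvarieties. -/
theorem chi_prime (P Q : Ideal A) [P.IsPrime] [Q.IsPrime] {a b d : ℕ}
    (ha : ringKrullDim (A ⧸ P) = a) (hb : ringKrullDim (A ⧸ Q) = b) (hd : ringKrullDim A = d)
    (hfl : Module.length A ((A ⧸ Q) ⊗[A] (A ⧸ P)) ≠ ⊤) :
    (a + b < d → IntMult.chi A (A ⧸ Q) (A ⧸ P) = 0) ∧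
      (a + b = d → 0 < IntMult.chi A (A ⧸ Q) (A ⧸ P)) := by
  letI : Algebra (RR R) A := inferInstanceAs (Algebra R A)
  haveI : IsCopy R A := ⟨fun _ => rfl⟩
  haveI := smooth_tensor K R
  haveI : IsRegularLocalRing (DB K R p) :=
    isRegularLocalRing_localization K (R ⊗[K] RR R) (dq K R p) (DB K R p)
  obtain ⟨l, d', r, hd', hr, hlen, hmem, hl, hI⟩ := exists_seq K R p A
  obtain rfl : d = d' := by exact_mod_cast hd.symm.trans hd'
  haveI := finite_E K R p A (A ⧸ Q) (A ⧸ P)
  obtain ⟨a', b', r', e, ha', hb', hr', he, hsum⟩ := dim_diagIdeal K R p A P Q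
  obtain rfl : a = a' := by exact_mod_cast ha.symm.trans ha'
  obtain rfl : b = b' := by exact_mod_cast hb.symm.trans hb'
  obtain rfl : r = r' := by exact_mod_cast hr.symm.trans hr'
  obtain ⟨ε⟩ := nonempty_E_equiv K R p A P Q
  have hdimE : Module.supportDim (DB K R p) (DL K R p (A ⧸ Q) ⊗[A] (A ⧸ P)) =
      ((a + b + r : ℕ) : WithBot ℕ∞) := by
    rw [← Module.supportDim_eq_of_equiv ε, Module.supportDim_quotient_eq_ringKrullDim, he, hsum]
  obtain ⟨h0, h1⟩ := KosEuler.χ_dim (d + r) l hlen hmem _ (prim_E K R p A (A ⧸ Q) (A ⧸ P) l hI hfl)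
  rw [chi_eq_χ K R p A (A ⧸ Q) (A ⧸ P) l hl hI]
  refine ⟨fun h => h0 ?_, fun h => h1 ?_⟩
  · rw [hdimE]
    exact_mod_cast (by omega : a + b + r < d + r)
  · rw [hdimE, h]

/-- Serre's intersection inequality. -/
theorem dim_add_le (P Q : Ideal A) [P.IsPrime] [Q.IsPrime] {a b d : ℕ}
    (ha : ringKrullDim (A ⧸ P) = a) (hb : ringKrullDim (A ⧸ Q) = b) (hd : ringKrullDim A = d)
    (hfl : Module.length A ((A ⧸ Q) ⊗[A] (A ⧸ P)) ≠ ⊤) : a + b ≤ d := by
  letI : Algebra (RR R) A := inferInstanceAs (Algebra R A)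
  haveI : IsCopy R A := ⟨fun _ => rfl⟩
  haveI := smooth_tensor K R
  haveI : IsRegularLocalRing (DB K R p) :=
    isRegularLocalRing_localization K (R ⊗[K] RR R) (dq K R p) (DB K R p)
  obtain ⟨l, d', r, hd', hr, hlen, hmem, hl, hI⟩ := exists_seq K R p A
  obtain rfl : d = d' := by exact_mod_cast hd.symm.trans hd'
  obtain ⟨a', b', r', e, ha', hb', hr', he, hsum⟩ := dim_diagIdeal K R p A P Q
  obtain rfl : a = a' := by exact_mod_cast ha.symm.trans ha'
  obtain rfl : b = b' := by exact_mod_cast hb.symm.trans hb'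
  obtain rfl : r = r' := by exact_mod_cast hr.symm.trans hr'
  obtain ⟨ε⟩ := nonempty_E_equiv K R p A P Q
  have hprim := prim_E K R p A (A ⧸ Q) (A ⧸ P) l hI hfl
  rw [KosEuler.Prim, ← ε.annihilator_eq, Ideal.annihilator_quotient] at hprim
  set J := diagIdeal K R p A P Q
  haveI hnt : Nontrivial (DB K R p ⧸ J) := by
    by_contra h
    rw [not_nontrivial_iff_subsingleton] at h
    rw [ringKrullDim_eq_bot_of_subsingleton] at he
    exact WithBot.bot_ne_coe he
  haveI : IsLocalRing (DB K R p ⧸ J) := IsLocalRing.of_surjective' _ Ideal.Quotient.mk_surjective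
  let I : Ideal (DB K R p ⧸ J) := (Ideal.ofList l).map (Ideal.Quotient.mk J)
  have hle : I ≤ Ring.jacobson (DB K R p ⧸ J) := by
    rw [IsLocalRing.ringJacobson_eq_maximalIdeal, Ideal.map_le_iff_le_comap]
    refine Ideal.span_le.2 fun x hx => ?_
    haveI : IsLocalHom (Ideal.Quotient.mk J) :=
      IsLocalHom.of_surjective _ Ideal.Quotient.mk_surjective
    exact map_nonunit (Ideal.Quotient.mk J) x (hmem x hx)
  have h1 := ringKrullDim_le_ringKrullDim_quotient_add_spanFinrank I hle
  have h0 : ringKrullDim ((DB K R p ⧸ J) ⧸ I) ≤ 0 := by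
    rw [ringKrullDim_eq_of_ringEquiv (DoubleQuot.quotQuotEquivQuotSup J (Ideal.ofList l))]
    haveI : Ring.KrullDimLE 0 (DB K R p ⧸ (J ⊔ Ideal.ofList l)) := by
      refine Ring.KrullDimLE.mk₀ fun q hq => ?_
      have hc : maximalIdeal (DB K R p) ≤ q.comap (Ideal.Quotient.mk (J ⊔ Ideal.ofList l)) := by
        refine hprim.trans ((Ideal.IsPrime.isRadical inferInstance).radical_le_iff.2 ?_)
        intro x hx
        rw [Ideal.mem_comap, Ideal.Quotient.eq_zero_iff_mem.2 (sup_comm (Ideal.ofList l) J ▸ hx)]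
        exact zero_mem _
      haveI : (q.comap (Ideal.Quotient.mk (J ⊔ Ideal.ofList l))).IsMaximal := by
        rw [← (maximalIdeal.isMaximal (DB K R p)).eq_of_le
          (Ideal.IsPrime.ne_top inferInstance) hc]
        exact maximalIdeal.isMaximal _
      rw [← Ideal.map_comap_of_surjective _ Ideal.Quotient.mk_surjective q]
      exact Ideal.IsMaximal.map_of_surjective_of_ker_le Ideal.Quotient.mk_surjective
        (by rw [RingHom.ker_eq_comap_bot]; exact Ideal.comap_mono bot_le)
    exact Ring.krullDimLE_iff.1 inferInstance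
  have h2 : I.spanFinrank ≤ d + r := by
    refine (Ideal.spanFinrank_map_le_of_fg _ (IsNoetherian.noetherian _)).trans ?_
    rw [← hlen]
    refine (Submodule.spanFinrank_span_le_ncard_of_finite (List.finite_toSet l)).trans ?_
    classical
    rw [← List.coe_toFinset, Set.ncard_coe_finset]
    exact List.toFinset_card_le l
  have h3 : ringKrullDim (DB K R p ⧸ J) ≤ ((d + r : ℕ) : WithBot ℕ∞) := by
    refine h1.trans ((add_le_add h0 le_rfl).trans ?_)
    rw [zero_add]
    exact_mod_cast h2
  rw [he] at h3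
  have : e ≤ d + r := by exact_mod_cast h3
  omega

end Groth.Agent.IntMult66
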