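import Groth.Agent.IntMult66.SemiTor
import Groth.Agent.IntMult66.FamCoeff
import Groth.Agent.CycLib.NormMap
import Groth.Agent.S6315

/-!
# The projection formula at a point with finite fibre
-/

set_option autoImplicit false
set_option linter.style.haveILetI false
set_option maxSynthPendingDepth 3
set_option maxHeartbeats 1000000

universe u

open CategoryTheory AlgebraicGeometry IsLocalRing
open scoped TensorProduct

namespace Groth.Agent.IntMult66

open CycLib

variable {K : Type u} [Field K] [IsAlgClosed K] {X Y : Scheme.{u}} (f : X ⟶ Y)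
  (gX : X ⟶ Spec (CommRingCat.of K)) (gY : Y ⟶ Spec (CommRingCat.of K))
  [Smooth gX] [Smooth gY] [IsIntegral Y] [Flat f] [IsProper f] [IsLocallyNoetherian X] [IsLocallyNoetherian Y]
  {δX : X → ℤ} {δY : Y → ℤ} (hδX : Cyc.DeltaCompat gX δX (fun _ => 0))
  (hδY : Cyc.DeltaCompat gY δY (fun _ => 0)) (hδ : Cyc.DeltaCompat f δX δY)

omit [IsAlgClosed K] in
theorem bijective_stalkSpecializes_of_eq {W : Scheme.{u}} {a b : W} (e : a = b) (h : a ⤳ b) :
    Function.Bijective (W.presheaf.stalkSpecializes h).hom := by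
  subst e
  rw [show W.presheaf.stalkSpecializes h = 𝟙 _ from TopCat.Presheaf.stalk_hom_ext _ fun U hU => by simp]
  exact Function.bijective_id

omit [IsAlgClosed K] in
theorem locLen_eq_zero_of_not_le {B : Type u} [CommRing B] {S : Type u} [AddCommGroup S] [Module B S]
    [Module.Finite B S] (Q : PrimeSpectrum B) (h : ¬ Module.annihilator B S ≤ Q.asIdeal) : locLen S Q = 0 := by
  have : Subsingleton (LocalizedModule Q.asIdeal.primeCompl S) := by
    rw [LocalizedModule.subsingleton_iff]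
    obtain ⟨b, hb, hbQ⟩ := SetLike.not_le_iff_exists.1 h
    exact fun x => ⟨b, hbQ, Module.mem_annihilator.1 hb x⟩
  simp [locLen, Module.length_eq_zero]

omit [IsAlgClosed K] [IsIntegral Y] [Flat f] [IsProper f] [IsLocallyNoetherian X] [IsLocallyNoetherian Y] in
theorem length_quot_atPrime [LocallyOfFiniteType f] {Z : Scheme.{u}} (i : Z ⟶ X) [IsClosedImmersion i] {z : Z} {w : Y}
    (he : f (i z) = w) {S : Type u} [CommRing S] [Algebra (Y.presheaf.stalk w) S] (n : Ideal S) [n.IsMaximal]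
    (L : Type u) [CommRing L] [IsLocalRing L] [Algebra S L] [IsLocalization.AtPrime L n]
    [Algebra (Y.presheaf.stalk w) L] [IsScalarTower (Y.presheaf.stalk w) S L]
    [Algebra (X.presheaf.stalk (i z)) L] (hs : Function.Surjective (algebraMap (X.presheaf.stalk (i z)) L))
    (hz : δX (i z) = δY (f (i z))) (hδ : Cyc.DeltaCompat f δX δY)
    (hb : algebraMap (Y.presheaf.stalk w) L = (algebraMap (X.presheaf.stalk (i z)) L).comp
      (Y.presheaf.stalkSpecializes (specializes_of_eq he) ≫ f.stalkMap (i z)).hom) :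
    (Module.length (Y.presheaf.stalk w) (S ⧸ n)).toNat = f.residueDegree (i z) := by
  subst he
  replace hb : ∀ b, algebraMap (Y.presheaf.stalk (f (i z))) L b =
      algebraMap (X.presheaf.stalk (i z)) L (f.stalkMap (i z) b) := fun b => by
    rw [hb, show Y.presheaf.stalkSpecializes (specializes_of_eq (rfl : f (i z) = f (i z))) = 𝟙 _ from
      TopCat.Presheaf.stalk_hom_ext _ fun U hU => by simp, Category.id_comp]
    rfl
  letI := (f.residueFieldMap (i z)).hom.toAlgebra
  letI : Algebra (Y.presheaf.stalk (f (i z))) (Y.residueField (f (i z))) := (Y.residue (f (i z))).hom.toAlgebra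
  letI aK : Algebra (Y.presheaf.stalk (f (i z))) (X.residueField (i z)) :=
    ((X.residue (i z)).hom.comp (f.stalkMap (i z)).hom).toAlgebra
  haveI : IsScalarTower (Y.presheaf.stalk (f (i z))) (Y.residueField (f (i z))) (X.residueField (i z)) :=
    IsScalarTower.of_algebraMap_eq fun b => by
      show X.residue (i z) (f.stalkMap (i z) b) = f.residueFieldMap (i z) (Y.residue (f (i z)) b)
      exact (ConcreteCategory.congr_hom (Scheme.residue_residueFieldMap f (i z)) b).symm
  haveI : Module.Finite (Y.residueField (f (i z))) (X.residueField (i z)) :=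
    residueFieldMap_finite_of_delta_eq f hδ (i z) hz
  let ψ : S →+* X.residueField (i z) ⧸ (⊥ : Ideal (X.residueField (i z))) := Ideal.Quotient.mk _ |>.comp
    ((RingHom.liftOfSurjective (algebraMap (X.presheaf.stalk (i z)) L) hs ⟨(X.residue (i z)).hom, fun a ha => by
      rw [RingHom.mem_ker] at ha ⊢
      refine (IsLocalRing.residue_eq_zero_iff a).2 fun hu => ?_
      have := hu.map (algebraMap (X.presheaf.stalk (i z)) L)
      rw [ha] at this
      exact not_isUnit_zero this⟩).comp (algebraMap S L))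
  let π : L →+* X.residueField (i z) :=
    RingHom.liftOfSurjective (algebraMap (X.presheaf.stalk (i z)) L) hs ⟨(X.residue (i z)).hom, fun a ha => by
      rw [RingHom.mem_ker] at ha ⊢
      refine (IsLocalRing.residue_eq_zero_iff a).2 fun hu => ?_
      have := hu.map (algebraMap (X.presheaf.stalk (i z)) L)
      rw [ha] at this
      exact not_isUnit_zero this⟩
  have hπ : ∀ a, π (algebraMap (X.presheaf.stalk (i z)) L a) = X.residue (i z) a := fun a =>
    RingHom.liftOfRightInverse_comp_apply _ _ _ _ a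
  let φ : S →ₐ[Y.presheaf.stalk (f (i z))] X.residueField (i z) :=
    { toRingHom := π.comp (algebraMap S L)
      commutes' := fun b => by
        show π (algebraMap S L (algebraMap _ S b)) = X.residue (i z) (f.stalkMap (i z) b)
        rw [← IsScalarTower.algebraMap_apply, hb, hπ] }
  have hker : RingHom.ker φ = n := by
    refine ((inferInstance : n.IsMaximal).eq_of_le (RingHom.ker_ne_top _) fun x hx => ?_).symm
    show π (algebraMap S L x) = 0
    obtain ⟨a, ha⟩ := hs (algebraMap S L x)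
    rw [← ha, hπ]
    refine (IsLocalRing.residue_eq_zero_iff a).2 fun hu => ?_
    have := hu.map (algebraMap (X.presheaf.stalk (i z)) L)
    rw [ha] at this
    exact ((IsLocalization.AtPrime.isUnit_to_map_iff L n x).1 this) hx
  have hφ : Function.Surjective φ := fun c => by
    obtain ⟨a, rfl⟩ := X.residue_surjective (i z) c
    obtain ⟨⟨x, s⟩, hxs⟩ := IsLocalization.surj n.primeCompl (algebraMap (X.presheaf.stalk (i z)) L a)
    obtain ⟨u, m, hm, hu⟩ := Ideal.IsMaximal.exists_inv (inferInstance : n.IsMaximal) s.2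
    refine ⟨x * u, ?_⟩
    show π (algebraMap S L (x * u)) = _
    have h1 : φ (u * s.1) = 1 := by
      rw [← map_one φ, ← hu, map_add, show φ m = 0 from (hker.ge hm : m ∈ RingHom.ker φ), add_zero]
    rw [map_mul, ← hxs, map_mul, map_mul, hπ, mul_assoc,
      show π (algebraMap S L s) * π (algebraMap S L u) = φ (u * s.1) by
        rw [mul_comm, map_mul]; rfl, h1, mul_one]
  have hlen : Module.length (Y.presheaf.stalk (f (i z))) (S ⧸ n) =
      Module.length (Y.presheaf.stalk (f (i z))) (X.residueField (i z)) :=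
    ((Ideal.quotientEquivAlgOfEq _ hker.symm).trans
      (Ideal.quotientKerAlgEquivOfSurjective hφ)).toLinearEquiv.length_eq
  rw [hlen, LenLib.length_eq_finrank_of_surjective (κ := Y.residueField (f (i z))) (fun c => Y.residue_surjective _ c)]
  simp only [ENat.toNat_coe]
  rfl

omit [IsAlgClosed K] [IsIntegral Y] [Flat f] [IsProper f] [IsLocallyNoetherian X] [IsLocallyNoetherian Y] in
theorem locLen_generic [LocallyOfFiniteType f] {Z : Scheme.{u}} [IsIntegral Z] (i : Z ⟶ X) [IsClosedImmersion i]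
    {w : Y} (hcw : (i ≫ f) (genericPoint Z) ⤳ w) (S : Type u) [CommRing S] [Algebra (Y.presheaf.stalk w) S]
    [Module.Finite (Y.presheaf.stalk w) S]
    (ε : S →+* Z.residueField (genericPoint Z)) (hε : Function.Injective ε)
    (hεB : ∀ b, ε (algebraMap (Y.presheaf.stalk w) S b) =
      (i ≫ f).residueFieldMap (genericPoint Z) (Cyc.specMap w ((i ≫ f) (genericPoint Z)) hcw b))
    (hgen : ∀ c : Z.residueField (genericPoint Z), ∃ a b : S, ε b ≠ 0 ∧ c = ε a / ε b)
    (hc : δX (i (genericPoint Z)) = δY ((i ≫ f) (genericPoint Z))) (hδ : Cyc.DeltaCompat f δX δY) :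
    locLen S (ptPrime w ((i ≫ f) (genericPoint Z)) hcw) = (f.residueDegree (i (genericPoint Z)) : ℤ) := by
  let q := i ≫ f
  let η := genericPoint Z
  letI aBY : Algebra (Y.presheaf.stalk w) (Y.presheaf.stalk (q η)) := (Y.presheaf.stalkSpecializes hcw).hom.toAlgebra
  haveI : IsLocalization.AtPrime (Y.presheaf.stalk (q η)) (ptPrime w (q η) hcw).asIdeal :=
    isLocalization_stalkSpecializes hcw
  letI := (q.residueFieldMap η).hom.toAlgebra
  letI : Algebra (Y.presheaf.stalk (q η)) (Y.residueField (q η)) := (Y.residue (q η)).hom.toAlgebra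
  letI aYK : Algebra (Y.presheaf.stalk (q η)) (Z.residueField η) :=
    ((q.residueFieldMap η).hom.comp (Y.residue (q η)).hom).toAlgebra
  letI aBK : Algebra (Y.presheaf.stalk w) (Z.residueField η) :=
    ((q.residueFieldMap η).hom.comp (Cyc.specMap w (q η) hcw)).toAlgebra
  haveI : IsScalarTower (Y.presheaf.stalk w) (Y.presheaf.stalk (q η)) (Z.residueField η) :=
    IsScalarTower.of_algebraMap_eq fun _ => rfl
  haveI : IsScalarTower (Y.presheaf.stalk (q η)) (Y.residueField (q η)) (Z.residueField η) :=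
    IsScalarTower.of_algebraMap_eq fun _ => rfl
  haveI : Module.Finite (Y.residueField (q η)) (Z.residueField η) :=
    finite_residueFieldMap_comp i f η (residueFieldMap_finite_of_delta_eq f hδ (i η) hc)
  let g : S →ₐ[Y.presheaf.stalk w] Z.residueField η := { toRingHom := ε, commutes' := hεB }
  haveI : IsLocalizedModule (ptPrime w (q η) hcw).asIdeal.primeCompl g.toLinearMap := by
    refine IsLocalizedModule.mk ?_ ?_ ?_
    · intro s
      have hu : IsUnit (algebraMap (Y.presheaf.stalk w) (Z.residueField η) s) := by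
        rw [isUnit_iff_ne_zero]
        exact fun h => s.2 ((map_eq_zero_iff _ (q.residueFieldMap η).hom.injective).1 h)
      obtain ⟨u, hu⟩ := hu
      rw [Module.End.isUnit_iff]
      refine ⟨fun x y h => ?_, fun y => ⟨↑u⁻¹ * y, ?_⟩⟩
      · simp only [Module.algebraMap_end_apply, Algebra.smul_def, ← hu] at h
        exact u.isUnit.mul_left_cancel h
      · simp only [Module.algebraMap_end_apply, Algebra.smul_def, ← hu]
        rw [← mul_assoc, u.mul_inv, one_mul]
    · intro c
      obtain ⟨a, b, hb, rfl⟩ := hgen c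
      haveI : IsDomain S := hε.isDomain ε
      haveI : Algebra.IsIntegral (Y.presheaf.stalk w) S := Algebra.IsIntegral.of_finite _ _
      obtain ⟨P, hP, hPb⟩ := Algebra.IsIntegral.isIntegral (R := Y.presheaf.stalk w) b
      obtain ⟨b₀, u, hb₀, hu⟩ : ∃ (b₀ : Y.presheaf.stalk w) (u : S),
          b₀ ∉ (ptPrime w (q η) hcw).asIdeal ∧ algebraMap _ S b₀ = b * u := by
        have hb' : b ≠ 0 := fun h => hb (by rw [h, map_zero])
        obtain ⟨k, hk, hk'⟩ := Ideal.exists_coeff_mem_comap_sdiff_comap_of_root_mem_sdiff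
          (f := algebraMap (Y.presheaf.stalk w) S) (I := (⊥ : Ideal S)) (J := Ideal.span {b}) (r := b) bot_le
          ⟨Ideal.mem_span_singleton_self b, by simpa using hb'⟩ (hP.map _).ne_zero (by simpa using hPb)
        rw [SetLike.mem_coe, Ideal.mem_comap, Ideal.mem_span_singleton'] at hk
        obtain ⟨u, hu⟩ := hk
        refine ⟨P.coeff k, u, fun hT => hk' ?_, by rw [← hu, mul_comm]⟩
        show algebraMap (Y.presheaf.stalk w) S (P.coeff k) ∈ (⊥ : Ideal S)
        rw [Ideal.mem_bot]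
        exact hε (by rw [hεB, show Cyc.specMap w (q η) hcw (P.coeff k) = 0 from hT, map_zero, map_zero])
      refine ⟨⟨a * u, ⟨b₀, hb₀⟩⟩, ?_⟩
      show (⟨b₀, hb₀⟩ : (ptPrime w (q η) hcw).asIdeal.primeCompl) • (ε a / ε b) = ε (a * u)
      rw [Submonoid.smul_def, Algebra.smul_def, show algebraMap _ (Z.residueField η) b₀ = ε (b * u) from
        (hεB b₀).symm.trans (congrArg ε hu), map_mul, map_mul]
      field_simp
    · intro x y h
      exact ⟨1, by rw [hε h]⟩
  rw [locLen_eq (ptPrime w (q η) hcw) (Y.presheaf.stalk (q η))]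
  have e : Y.presheaf.stalk (q η) ⊗[Y.presheaf.stalk w] S ≃ₗ[Y.presheaf.stalk (q η)] Z.residueField η :=
    ((isLocalizedModule_iff_isBaseChange (ptPrime w (q η) hcw).asIdeal.primeCompl (Y.presheaf.stalk (q η))
      g.toLinearMap).1 inferInstance).equiv
  rw [e.length_eq, LenLib.length_eq_finrank_of_surjective (κ := Y.residueField (q η))
    (fun c => Y.residue_surjective _ c)]
  simp only [ENat.toNat_coe]
  have h := residueDegree_comp i f η
  rw [residueDegree_closedImmersion i η] at h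
  simp only [one_mul, mul_one] at h
  rw [← h]
  rfl

open Classical in
include gX gY hδX hδY hδ in
theorem sum_chi_fibre {Z : Scheme.{u}} [IsIntegral Z] (i : Z ⟶ X) [IsClosedImmersion i] {m : ℤ}
    (hm : δY (genericPoint Y) = m) (v w : Y) (hvw : v ⤳ w) (hcw : (i ≫ f) (genericPoint Z) ⤳ w)
    (ht : δY w = δX (i (genericPoint Z)) + δY v - m)
    (hfin : {z : Z | (i ≫ f) z = w}.Finite)
    (hz : ∀ z : Z, (i ≫ f) z = w → δX (i z) = δY w)
    (hmeet : ∀ η : Y, (i ≫ f) (genericPoint Z) ⤳ η → v ⤳ η → η ⤳ w → η = w) :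
    (∑ z ∈ hfin.toFinset, (f.residueDegree (i z) : ℤ) *
      IntMult.chi (X.presheaf.stalk (i z))
        (X.presheaf.stalk (i z) ⧸ IntMult.stalkIdeal (IntMult.ptIdeal (i (genericPoint Z))) (i z))
        (X.presheaf.stalk (i z) ⧸ (IntMult.stalkIdeal (IntMult.ptIdeal v) (f (i z))).map (f.stalkMap (i z)).hom)) =
    (if δX (i (genericPoint Z)) = δY ((i ≫ f) (genericPoint Z)) then (f.residueDegree (i (genericPoint Z)) : ℤ)
        else 0) *
      IntMult.chi (Y.presheaf.stalk w) (Y.presheaf.stalk w ⧸ IntMult.stalkIdeal (IntMult.ptIdeal v) w)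
        (Y.presheaf.stalk w ⧸ IntMult.stalkIdeal (IntMult.ptIdeal ((i ≫ f) (genericPoint Z))) w) := by
  set q := i ≫ f with hq
  set ζ := genericPoint Z
  haveI : IsProper q := MorphismProperty.comp_mem _ i f inferInstance inferInstance
  haveI : IsLocallyNoetherian Z := LocallyOfFiniteType.isLocallyNoetherian i
  obtain ⟨V, hV, hwV, hVfin⟩ := exists_affine_isFinite_of_finite_fibre q w hfin
  haveI := hVfin
  have hW : IsAffineOpen (q ⁻¹ᵁ V) := by
    haveI : IsAffine (V : Scheme.{u}) := hV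
    exact isAffine_of_isAffineHom (q ∣_ V)
  have hfinapp : (q.app V).hom.Finite := by
    haveI : IsAffine (V : Scheme.{u}) := hV
    exact finite_app_of_restrict q hVfin
  have hζW : ζ ∈ q ⁻¹ᵁ V := show q ζ ∈ V from hcw.mem_open V.2 hwV
  letI : Algebra Γ(Y, V) Γ(Z, q ⁻¹ᵁ V) := (q.app V).hom.toAlgebra
  haveI : Module.Finite Γ(Y, V) Γ(Z, q ⁻¹ᵁ V) := hfinapp
  letI := TopCat.Presheaf.algebra_section_stalk Y.presheaf (⟨w, hwV⟩ : V)
  haveI := hV.isLocalization_stalk ⟨w, hwV⟩
  set P := (hV.primeIdealOf ⟨w, hwV⟩).asIdeal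
  let S := Localization (Algebra.algebraMapSubmonoid Γ(Z, q ⁻¹ᵁ V) P.primeCompl)
  letI aBS : Algebra (Y.presheaf.stalk w) S :=
    localizationAlgebra (Rₘ := Y.presheaf.stalk w) (Sₘ := S) P.primeCompl Γ(Z, q ⁻¹ᵁ V)
  haveI : IsScalarTower Γ(Y, V) (Y.presheaf.stalk w) S :=
    IsScalarTower.of_algebraMap_eq fun a => by
      show algebraMap Γ(Y, V) S a = IsLocalization.map S _ _ (algebraMap Γ(Y, V) (Y.presheaf.stalk w) a)
      rw [IsLocalization.map_eq]
      exact IsScalarTower.algebraMap_apply Γ(Y, V) Γ(Z, q ⁻¹ᵁ V) S a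
  haveI : Module.Finite (Y.presheaf.stalk w) S :=
    Module.Finite.of_isLocalization Γ(Y, V) Γ(Z, q ⁻¹ᵁ V) P.primeCompl
  -- the points over `w`
  let T := {z : Z // z ∈ hfin.toFinset}
  have hTw : ∀ z : T, q z.1 = w := fun z => (Set.Finite.mem_toFinset hfin).1 z.2
  have hTW : ∀ z : T, z.1 ∈ q ⁻¹ᵁ V := fun z => show q z.1 ∈ V from (hTw z).symm ▸ hwV
  let bA : ∀ z : T, Y.presheaf.stalk w →+* X.presheaf.stalk (i z.1) := fun z =>
    (Y.presheaf.stalkSpecializes (specializes_of_eq (show f (i z.1) = w from hTw z)) ≫ f.stalkMap (i z.1)).hom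
  letI : ∀ z : T, Algebra (Y.presheaf.stalk w) (X.presheaf.stalk (i z.1)) := fun z => (bA z).toAlgebra
  haveI : ∀ z : T, Module.Flat (Y.presheaf.stalk w) (X.presheaf.stalk (i z.1)) := fun z => by
    have h1 : (bA z).Flat := by
      have he : f (i z.1) = w := hTw z
      refine RingHom.Flat.comp ?_ (Flat.stalkMap f (i z.1))
      exact RingHom.Flat.of_bijective (bijective_stalkSpecializes_of_eq he _)
    exact h1
  letI : ∀ z : T, Algebra (X.presheaf.stalk (i z.1)) (Z.presheaf.stalk z.1) := fun z => (i.stalkMap z.1).hom.toAlgebra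
  let bL : ∀ z : T, Y.presheaf.stalk w →+* Z.presheaf.stalk z.1 := fun z => (i.stalkMap z.1).hom.comp (bA z)
  letI : ∀ z : T, Algebra (Y.presheaf.stalk w) (Z.presheaf.stalk z.1) := fun z => (bL z).toAlgebra
  haveI : ∀ z : T, IsScalarTower (Y.presheaf.stalk w) (X.presheaf.stalk (i z.1)) (Z.presheaf.stalk z.1) := fun z =>
    IsScalarTower.of_algebraMap_eq fun _ => rfl
  let gm : ∀ z : T, Γ(Z, q ⁻¹ᵁ V) →+* Z.presheaf.stalk z.1 := fun z =>
    (Z.presheaf.germ (q ⁻¹ᵁ V) z.1 (hTW z)).hom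
  have hgm : ∀ (z : T) (a : Γ(Y, V)), bL z (Y.presheaf.germ V w hwV a) = gm z (q.app V a) := fun z a => by
    show i.stalkMap z.1 (f.stalkMap (i z.1) (Y.presheaf.stalkSpecializes _ (Y.presheaf.germ V w hwV a))) = _
    rw [TopCat.Presheaf.germ_stalkSpecializes_apply]
    erw [Scheme.Hom.germ_stalkMap_apply, Scheme.Hom.germ_stalkMap_apply]
    rfl
  have hunit : ∀ (z : T) (s : Algebra.algebraMapSubmonoid Γ(Z, q ⁻¹ᵁ V) P.primeCompl),
      IsUnit (gm z s) := by
    rintro z ⟨_, a, ha, rfl⟩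
    show IsUnit (gm z (q.app V a))
    rw [← hgm]
    exact (IsLocalization.map_units (Y.presheaf.stalk w) (⟨a, ha⟩ : P.primeCompl)).map (bL z)
  letI : ∀ z : T, Algebra S (Z.presheaf.stalk z.1) := fun z => (IsLocalization.lift (hunit z)).toAlgebra
  letI : ∀ z : T, Algebra Γ(Z, q ⁻¹ᵁ V) (Z.presheaf.stalk z.1) := fun z => (gm z).toAlgebra
  haveI : ∀ z : T, IsScalarTower Γ(Z, q ⁻¹ᵁ V) S (Z.presheaf.stalk z.1) := fun z =>
    IsScalarTower.of_algebraMap_eq fun a => (IsLocalization.lift_eq (hunit z) a).symm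
  haveI : ∀ z : T, IsScalarTower (Y.presheaf.stalk w) S (Z.presheaf.stalk z.1) := fun z =>
    IsScalarTower.of_algebraMap_eq' (IsLocalization.ringHom_ext P.primeCompl (RingHom.ext fun a => by
      show bL z (algebraMap Γ(Y, V) (Y.presheaf.stalk w) a) =
        IsLocalization.lift (hunit z) (algebraMap (Y.presheaf.stalk w) S (algebraMap Γ(Y, V) (Y.presheaf.stalk w) a))
      rw [← IsScalarTower.algebraMap_apply Γ(Y, V) (Y.presheaf.stalk w) S,
        IsScalarTower.algebraMap_apply Γ(Y, V) Γ(Z, q ⁻¹ᵁ V) S, IsLocalization.lift_eq]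
      exact hgm z a))
  let n : T → Ideal S := fun z => (maximalIdeal (Z.presheaf.stalk z.1)).comap (algebraMap S (Z.presheaf.stalk z.1))
  haveI hnp : ∀ z, (n z).IsPrime := fun z => Ideal.IsPrime.comap _
  haveI hnm : ∀ z, (n z).IsMaximal := fun z => by
    refine Ideal.isMaximal_of_isIntegral_of_isMaximal_comap (R := Y.presheaf.stalk w) (n z) ?_
    have hloc : IsLocalHom (bL z) := by
      haveI : IsLocalHom (Y.presheaf.stalkSpecializes
          (specializes_of_eq (show f (i z.1) = w from hTw z))).hom :=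
        ⟨fun a ha => isUnit_of_stalkSpecializes_eq (show f (i z.1) = w from hTw z) _ a ha⟩
      show IsLocalHom ((i.stalkMap z.1).hom.comp ((f.stalkMap (i z.1)).hom.comp (Y.presheaf.stalkSpecializes _).hom))
      infer_instance
    have : (n z).comap (algebraMap (Y.presheaf.stalk w) S) = maximalIdeal _ := by
      rw [show (n z) = _ from rfl, Ideal.comap_comap, ← IsScalarTower.algebraMap_eq]
      exact ((IsLocalRing.local_hom_TFAE (bL z)).out 0 4 :).1 hloc
    rw [this]
    exact maximalIdeal.isMaximal _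
  haveI hLloc : ∀ z : T, IsLocalization.AtPrime (Z.presheaf.stalk z.1) (n z) := fun z => by
    haveI : IsLocalization.AtPrime (Z.presheaf.stalk z.1) (hW.primeIdealOf ⟨z.1, hTW z⟩).asIdeal :=
      hW.isLocalization_stalk ⟨z.1, hTW z⟩
    have hmem : ∀ a : Γ(Z, q ⁻¹ᵁ V), a ∈ (hW.primeIdealOf ⟨z.1, hTW z⟩).asIdeal.primeCompl ↔
        algebraMap Γ(Z, q ⁻¹ᵁ V) S a ∉ n z := fun a => by
      rw [Ideal.mem_comap, ← IsScalarTower.algebraMap_apply, notMem_maximalIdeal]
      exact (IsLocalization.AtPrime.isUnit_to_map_iff (Z.presheaf.stalk z.1) _ a).symm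
    have h1 : Algebra.algebraMapSubmonoid Γ(Z, q ⁻¹ᵁ V) P.primeCompl ≤
        (hW.primeIdealOf ⟨z.1, hTW z⟩).asIdeal.primeCompl := fun a ha =>
      (IsLocalization.AtPrime.isUnit_to_map_iff (Z.presheaf.stalk z.1) _ a).1 (hunit z ⟨a, ha⟩)
    haveI := IsLocalization.isLocalization_of_submonoid_le S (Z.presheaf.stalk z.1) _ _ h1
    refine IsLocalization.of_le_of_exists_dvd
      ((hW.primeIdealOf ⟨z.1, hTW z⟩).asIdeal.primeCompl.map (algebraMap Γ(Z, q ⁻¹ᵁ V) S)) _ ?_ ?_
    · rintro _ ⟨a, ha, rfl⟩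
      exact (hmem a).1 ha
    · intro x hx
      obtain ⟨⟨a, s⟩, has⟩ := IsLocalization.surj (Algebra.algebraMapSubmonoid Γ(Z, q ⁻¹ᵁ V) P.primeCompl) x
      refine ⟨algebraMap _ S a, ⟨a, (hmem a).2 ?_, rfl⟩, Dvd.intro _ has⟩
      rw [← has]
      exact fun h => ((hnp z).mem_or_mem h).elim hx ((hmem _).1 (h1 s.2))
  have hprime : ∀ (z : T) (a : Γ(Z, q ⁻¹ᵁ V)),
      a ∈ (hW.primeIdealOf ⟨z.1, hTW z⟩).asIdeal ↔ algebraMap _ S a ∈ n z := fun z a => by
    haveI : IsLocalization.AtPrime (Z.presheaf.stalk z.1) (hW.primeIdealOf ⟨z.1, hTW z⟩).asIdeal :=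
      hW.isLocalization_stalk ⟨z.1, hTW z⟩
    rw [Ideal.mem_comap, ← IsScalarTower.algebraMap_apply]
    exact (IsLocalization.AtPrime.to_map_mem_maximal_iff (Z.presheaf.stalk z.1) _ a).symm
  have hninj : Function.Injective n := fun z z' he => by
    have e : hW.primeIdealOf ⟨z.1, hTW z⟩ = hW.primeIdealOf ⟨z'.1, hTW z'⟩ :=
      PrimeSpectrum.ext (Ideal.ext fun a => by rw [hprime z a, hprime z' a, he])
    exact Subtype.ext (by rw [← hW.fromSpec_primeIdealOf ⟨z.1, hTW z⟩, e, hW.fromSpec_primeIdealOf])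
  have hall : ∀ M : Ideal S, M.IsMaximal → ∃ z, n z = M := fun M hM => by
    haveI := hM.isPrime
    let Q : PrimeSpectrum Γ(Z, q ⁻¹ᵁ V) := PrimeSpectrum.comap (algebraMap _ S) ⟨M, hM.isPrime⟩
    have hQW : hW.fromSpec Q ∈ q ⁻¹ᵁ V := (Set.ext_iff.1 hW.range_fromSpec _).1 ⟨Q, rfl⟩
    have hQ : hW.primeIdealOf ⟨hW.fromSpec Q, hQW⟩ = Q :=
      hW.fromSpec.isOpenEmbedding.injective (hW.fromSpec_primeIdealOf _)
    have hmax : M.comap (algebraMap (Y.presheaf.stalk w) S) = maximalIdeal _ :=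
      IsLocalRing.eq_maximalIdeal (Ideal.isMaximal_comap_of_isIntegral_of_isMaximal M)
    have hcomap : PrimeSpectrum.comap (q.app V).hom Q = hV.primeIdealOf ⟨w, hwV⟩ := by
      refine PrimeSpectrum.ext (Ideal.ext fun a => ?_)
      show algebraMap Γ(Z, q ⁻¹ᵁ V) S (algebraMap Γ(Y, V) Γ(Z, q ⁻¹ᵁ V) a) ∈ M ↔ _
      rw [← IsScalarTower.algebraMap_apply, IsScalarTower.algebraMap_apply Γ(Y, V) (Y.presheaf.stalk w) S,
        ← Ideal.mem_comap, hmax]
      exact IsLocalization.AtPrime.to_map_mem_maximal_iff (Y.presheaf.stalk w) _ a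
    have hqy : q (hW.fromSpec Q) = w := by
      have e := hV.SpecMap_appLE_fromSpec q hW (le_refl (q ⁻¹ᵁ V))
      rw [Scheme.Hom.appLE_eq_app] at e
      have e' : (Spec.map (q.app V) ≫ hV.fromSpec) Q = (hW.fromSpec ≫ q) Q :=
        congrArg (fun m : Spec _ ⟶ Y => m Q) e
      refine Eq.trans e'.symm ?_
      show hV.fromSpec (PrimeSpectrum.comap (q.app V).hom Q) = w
      rw [hcomap, hV.fromSpec_primeIdealOf]
    let z : T := ⟨hW.fromSpec Q, (Set.Finite.mem_toFinset hfin).2 hqy⟩
    refine ⟨z, ?_⟩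
    rw [← IsLocalization.map_under (Algebra.algebraMapSubmonoid Γ(Z, q ⁻¹ᵁ V) P.primeCompl) S (n z),
      ← IsLocalization.map_under (Algebra.algebraMapSubmonoid Γ(Z, q ⁻¹ᵁ V) P.primeCompl) S M]
    refine congrArg _ (Ideal.ext fun a => ?_)
    exact (hprime z a).symm.trans (SetLike.ext_iff.1 (congrArg PrimeSpectrum.asIdeal hQ) a)
  have hsur : ∀ z : T, Function.Surjective (algebraMap (X.presheaf.stalk (i z.1)) (Z.presheaf.stalk z.1)) :=
    fun z => i.stalkMap_surjective z.1
  -- data at `w`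
  obtain ⟨R, _, _, _, p, _, _, _⟩ := exists_chart gY w
  haveI := isRegularLocalRing_localization K R p (Y.presheaf.stalk w)
  set Pc := ptPrime w (q ζ) hcw
  set Pv := ptPrime w v hvw
  -- the generic point
  let ev : Γ(Z, q ⁻¹ᵁ V) →+* Z.residueField ζ := (Z.evaluation (q ⁻¹ᵁ V) ζ hζW).hom
  have hev : Function.Injective ev := by
    haveI : Nonempty ↥(q ⁻¹ᵁ V) := ⟨⟨ζ, hζW⟩⟩
    haveI : Nonempty ↥((q ⁻¹ᵁ V : Z.Opens) : Scheme.{u}) := ⟨⟨ζ, hζW⟩⟩
    have h1 : Function.Injective (Z.presheaf.germ (q ⁻¹ᵁ V) ζ hζW).hom :=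
      Z.germToFunctionField_injective (q ⁻¹ᵁ V)
    have h2 : Function.Injective (Z.residue ζ).hom := by
      rw [injective_iff_map_eq_zero]
      intro a ha
      have h' : a ∈ maximalIdeal (Z.presheaf.stalk ζ) := (IsLocalRing.residue_eq_zero_iff a).1 ha
      rwa [(IsLocalRing.isField_iff_maximalIdeal_eq).1 (Field.toIsField Z.functionField), Ideal.mem_bot] at h'
    exact h2.comp h1
  have hevw : ∀ a : Γ(Y, V), ev (q.app V a) = q.residueFieldMap ζ (Cyc.specMap w (q ζ) hcw (Y.presheaf.germ V w hwV a)) :=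
    fun a => by
      rw [specMap_germ hcw hwV a]
      exact (Scheme.evaluation_naturality_apply q ζ hζW a).symm
  have hevu : ∀ s : Algebra.algebraMapSubmonoid Γ(Z, q ⁻¹ᵁ V) P.primeCompl, IsUnit (ev s) := by
    rintro ⟨_, a, ha, rfl⟩
    show IsUnit (ev (q.app V a))
    rw [hevw]
    exact ((IsLocalization.map_units (Y.presheaf.stalk w) (⟨a, ha⟩ : P.primeCompl)).map
      (Cyc.specMap w (q ζ) hcw)).map (q.residueFieldMap ζ).hom
  let ε : S →+* Z.residueField ζ := IsLocalization.lift hevu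
  have hε : Function.Injective ε := by
    refine (IsLocalization.lift_injective_iff hevu).2 fun a b => ?_
    refine ⟨fun h => congrArg _ ?_, fun h => ?_⟩
    · obtain ⟨s, hs⟩ := (IsLocalization.eq_iff_exists (Algebra.algebraMapSubmonoid Γ(Z, q ⁻¹ᵁ V) P.primeCompl) S).1 h
      have := congrArg ev hs
      rw [map_mul, map_mul] at this
      exact hev ((hevu s).mul_left_cancel this)
    · exact congrArg _ (hev h)
  have hεB : ∀ b : Y.presheaf.stalk w, ε (algebraMap (Y.presheaf.stalk w) S b) =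
      q.residueFieldMap ζ (Cyc.specMap w (q ζ) hcw b) := by
    intro b
    refine RingHom.congr_fun (IsLocalization.ringHom_ext P.primeCompl
      (j := ε.comp (algebraMap (Y.presheaf.stalk w) S))
      (k := (q.residueFieldMap ζ).hom.comp (Cyc.specMap w (q ζ) hcw)) (RingHom.ext fun a => ?_)) b
    show ε (algebraMap (Y.presheaf.stalk w) S (algebraMap Γ(Y, V) (Y.presheaf.stalk w) a)) = _
    rw [← IsScalarTower.algebraMap_apply Γ(Y, V) (Y.presheaf.stalk w) S,
      IsScalarTower.algebraMap_apply Γ(Y, V) Γ(Z, q ⁻¹ᵁ V) S]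
    exact (IsLocalization.lift_eq hevu _).trans (hevw a)
  have hann : Pc.asIdeal ≤ Module.annihilator (Y.presheaf.stalk w) S := fun b hb =>
    Module.mem_annihilator.2 fun x => hε (by
      rw [Algebra.smul_def, map_mul, hεB, show Cyc.specMap w (q ζ) hcw b = 0 from hb, map_zero, zero_mul,
        map_zero])
  obtain ⟨d, hd, hd'⟩ := ringKrullDim_stalk gY hδY w
  rw [hm] at hd'
  obtain ⟨bv, hbv, hbv'⟩ := ringKrullDim_ptPrime gY hδY hvw
  obtain ⟨ac, hac, hac'⟩ := ringKrullDim_ptPrime gY hδY hcw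
  have hδc : δY (q ζ) ≤ δX (i ζ) := le_delta f hδ (i ζ)
  have hvm : δY v ≤ m := hm ▸ delta_mono gY hδY (genericPoint_specializes v)
  obtain ⟨a, ha⟩ : ∃ a : ℕ, (a : ℤ) = δX (i ζ) - δY w :=
    ⟨(δX (i ζ) - δY w).toNat, by omega⟩
  have hrad : maximalIdeal (Y.presheaf.stalk w) ≤ (Pc.asIdeal ⊔ Pv.asIdeal).radical := by
    rw [Ideal.radical_eq_sInf]
    refine le_sInf ?_
    rintro J ⟨hJ, hJp⟩
    obtain ⟨η, hη, he⟩ := exists_ptPrime w ⟨J, hJp⟩
    have he' : (ptPrime w η hη).asIdeal = J := congrArg PrimeSpectrum.asIdeal he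
    rw [← he'] at hJ
    obtain rfl := hmeet η ((ptPrime_le_iff hcw hη).1 (le_sup_left.trans hJ))
      ((ptPrime_le_iff hvw hη).1 (le_sup_right.trans hJ)) hη
    rw [← he']
    have : ptPrime η η hη = IsLocalRing.closedPoint (Y.presheaf.stalk η) :=
      (Y.fromSpecStalk η).isEmbedding.injective
        ((fromSpecStalk_ptPrime _ _ _).trans Scheme.fromSpecStalk_closedPoint.symm)
    exact (congrArg PrimeSpectrum.asIdeal this).ge
  let N := Y.presheaf.stalk w ⧸ Pv.asIdeal
  have htorfin : ∀ k, Module.length (Y.presheaf.stalk w) (_root_.DRing.Tor (Y.presheaf.stalk w) k S N) ≠ ⊤ := fun k => by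
    haveI : Module.Finite (Y.presheaf.stalk w) (_root_.DRing.Tor (Y.presheaf.stalk w) k S N) :=
      Groth.Agent.S6315.result _ _ _ k
    refine Module.length_ne_top_iff.2 (KosEuler.isFiniteLength_of_radical hrad fun b hb z => ?_)
    refine Module.mem_annihilator.1 (annihilator_le_tor (A := Y.presheaf.stalk w) S N k ?_) z
    refine sup_le_sup hann ?_ hb
    rw [Ideal.annihilator_quotient]
  obtain ⟨D0, hD0⟩ := tor_top K R p (Y.presheaf.stalk w) S N
  have hDz : ∀ z : T, ∃ D, ∀ k, D < k → Subsingleton (_root_.DRing.Tor (X.presheaf.stalk (i z.1)) k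
      (Z.presheaf.stalk z.1) (X.presheaf.stalk (i z.1) ⊗[Y.presheaf.stalk w] N)) := fun z => by
    obtain ⟨R', _, _, _, p', _, _, _⟩ := exists_chart gX (i z.1)
    haveI := isRegularLocalRing_localization K R' p' (X.presheaf.stalk (i z.1))
    haveI : Module.Finite (X.presheaf.stalk (i z.1)) (Z.presheaf.stalk z.1) :=
      Module.Finite.of_surjective (Algebra.linearMap _ _) (hsur z)
    exact tor_top K R' p' (X.presheaf.stalk (i z.1)) _ _
  choose Dz hDz using hDz
  have key := chi_semilocal n hninj hall (fun z : T => X.presheaf.stalk (i z.1)) (fun z : T => Z.presheaf.stalk z.1)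
    hsur N (max D0 (Finset.univ.sup Dz)) htorfin (fun k hk => hD0 k (lt_of_le_of_lt (le_max_left _ _) hk))
    (fun z k hk => hDz z k (lt_of_le_of_lt
      ((Finset.le_sup (f := Dz) (Finset.mem_univ z)).trans (le_max_right _ _)) hk))
  -- the point-by-point side
  have hL : ∀ z : T, ((Module.length (Y.presheaf.stalk w) (S ⧸ n z)).toNat : ℤ) *
      IntMult.chi (X.presheaf.stalk (i z.1)) (Z.presheaf.stalk z.1) (X.presheaf.stalk (i z.1) ⊗[Y.presheaf.stalk w] N) =
    (f.residueDegree (i z.1) : ℤ) * IntMult.chi (X.presheaf.stalk (i z.1))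
        (X.presheaf.stalk (i z.1) ⧸ IntMult.stalkIdeal (IntMult.ptIdeal (i ζ)) (i z.1))
        (X.presheaf.stalk (i z.1) ⧸ (IntMult.stalkIdeal (IntMult.ptIdeal v) (f (i z.1))).map (f.stalkMap (i z.1)).hom) :=
    fun z => by
    have he : f (i z.1) = w := hTw z
    rw [← ker_stalkMap_eq_stalkIdeal i z.1]
    congr 1
    · rw [length_quot_atPrime f i he (n z) (Z.presheaf.stalk z.1) (hsur z)
        (by show δX (i z.1) = _; rw [he]; exact hz z.1 (hTw z)) hδ rfl]
    · rw [chi_congr_right _ (quotTensor (X.presheaf.stalk (i z.1)) Pv.asIdeal),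
        chi_congr_left _ (LinearMap.quotKerEquivOfSurjective
          (Algebra.linearMap (X.presheaf.stalk (i z.1)) (Z.presheaf.stalk z.1)) (hsur z)).symm]
      rw [show Pv.asIdeal.map (algebraMap (Y.presheaf.stalk w) (X.presheaf.stalk (i z.1))) =
        (IntMult.stalkIdeal (IntMult.ptIdeal v) (f (i z.1))).map (f.stalkMap (i z.1)).hom by
          rw [← stalkIdeal_map _ (specializes_of_eq he), stalkIdeal_ptIdeal hvw, Ideal.map_map]; rfl]
      rfl
  rw [Finset.sum_subtype hfin.toFinset (p := fun z => z ∈ hfin.toFinset) fun _ => Iff.rfl]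
  rw [← Finset.sum_congr rfl fun z _ => hL z, ← key, IntMult88.chi_comm]
  -- dévissage
  have hsupp : Module.supportDim (Y.presheaf.stalk w) S ≤ a := supportDim_le a fun Q hQ => by
    obtain ⟨η, hη, rfl⟩ := exists_ptPrime w Q
    have h1 := (ptPrime_le_iff hcw hη).1 (hann.trans (Module.mem_support_iff_of_finite.1 hQ))
    obtain ⟨e, he, he'⟩ := ringKrullDim_ptPrime gY hδY hη
    have := delta_mono gY hδY h1
    rw [he]
    exact_mod_cast (by omega : e ≤ a)
  have hM : Meet (A := Y.presheaf.stalk w) N S := by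
    refine hrad.trans (Ideal.radical_mono (sup_le (hann.trans le_sup_right) ?_))
    rw [Ideal.annihilator_quotient]
    exact le_sup_left
  obtain ⟨-, F, hF⟩ := chi_devissage K R p N a (fun Q hQ hm' =>
    chi_eq_zero_of_lt K R p hd Q Pv hQ.le hbv.le (Or.inl hQ) (by omega) hm') inferInstance hsupp hM
  obtain ⟨hzero, hsum⟩ := hF (insert Pc F) (Finset.subset_insert _ _)
  rw [hsum, stalkIdeal_ptIdeal hvw, stalkIdeal_ptIdeal hcw, Finset.sum_eq_single Pc]
  · by_cases hc : δX (i ζ) = δY (q ζ)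
    · rw [if_pos hc, if_pos (by rw [hac, show ac = a by omega]),
        locLen_generic f i hcw S ε hε hεB (fun c => by
          obtain ⟨a, b, hab⟩ := evaluation_surj hW hζW c
          by_cases hb : ev b = 0
          · exact ⟨0, 1, by simp, by rw [hab]; show ev a / ev b = _; simp [hb]⟩
          · exact ⟨algebraMap _ S a, algebraMap _ S b, by rwa [IsLocalization.lift_eq hevu],
              by rw [IsLocalization.lift_eq hevu, IsLocalization.lift_eq hevu, hab]⟩) hc hδ]
    · rw [if_neg hc, if_neg, zero_mul]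
      rw [hac]
      intro h
      have : ac = a := by exact_mod_cast h
      omega
  · intro Q _ hQ
    split_ifs with hQa
    · obtain ⟨η, hη, rfl⟩ := exists_ptPrime w Q
      rw [locLen_eq_zero_of_not_le _ (fun hle => hQ ?_), zero_mul]
      have h1 := (ptPrime_le_iff hcw hη).1 (hann.trans hle)
      obtain ⟨e, he, he'⟩ := ringKrullDim_ptPrime gY hδY hη
      rw [hQa] at he
      have : a = e := by exact_mod_cast he
      obtain rfl := eq_of_le gY hδY h1 (by omega)
      rfl
    · rfl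
  · exact fun h => absurd (Finset.mem_insert_self _ _) h

end Groth.Agent.IntMult66
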