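import Groth.Agent.IntMult66.ProjForm
import Groth.Agent.IntMult66.Oz
import Groth.Agent.S1897
import Groth.Agent.ZClosLib.CohDescent
import Groth.Agent.CycLib.ShiftPull

/-!
# The projection formula for prime cycles
-/

set_option autoImplicit false
set_option linter.style.haveILetI false
set_option maxSynthPendingDepth 3

universe u

open CategoryTheory AlgebraicGeometry IsLocalRing
open scoped TensorProduct

namespace Groth.Agent.IntMult66

open CycLib

theorem nonempty_stalk_pullback_oz_of_specializes {W Z : Scheme.{u}} (q : W ⟶ Z) {v : Z} (w : W) (h : v ⤳ q w) :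
    Nonempty ((W.presheaf.stalk w ⧸ (IntMult.stalkIdeal (IntMult.ptIdeal v) (q w)).map (q.stalkMap w).hom) ≃ₗ[W.presheaf.stalk w]
      ((Scheme.Modules.pullback q).obj (Cyc.closureStructureSheaf v)).presheaf.stalk w) := by
  letI := (q.stalkMap w).hom.toAlgebra
  letI := PullStalk.Basic.moduleOver q (Cyc.closureStructureSheaf v) w
  haveI : IsScalarTower (Z.presheaf.stalk (q w)) (W.presheaf.stalk w)
      (((Scheme.Modules.pullback q).obj (Cyc.closureStructureSheaf v)).presheaf.stalk w) :=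
    IsScalarTower.of_algebraMap_smul fun _ _ => rfl
  obtain ⟨e⟩ := nonempty_stalk_oz h
  rw [← stalkIdeal_ptIdeal h] at e
  exact ⟨((quotTensor (W.presheaf.stalk w) (IntMult.stalkIdeal (IntMult.ptIdeal v) (q w))).symm.trans
    (e.baseChange (Z.presheaf.stalk (q w)) (W.presheaf.stalk w))).trans
    (PullStalk.Basic.isBaseChange_unitStalk q (Cyc.closureStructureSheaf v) w).equiv⟩

theorem specializes_of_nontrivial_pullback_oz {W Z : Scheme.{u}} (q : W ⟶ Z) (v : Z)
    (hv : ∀ y : Z, Nontrivial ((Cyc.closureStructureSheaf v).presheaf.stalk y) → v ⤳ y) (w : W)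
    (hw : Nontrivial (((Scheme.Modules.pullback q).obj (Cyc.closureStructureSheaf v)).presheaf.stalk w)) : v ⤳ q w := by
  refine hv _ ?_
  by_contra h
  haveI := not_nontrivial_iff_subsingleton.mp h
  letI := (q.stalkMap w).hom.toAlgebra
  letI := PullStalk.Basic.moduleOver q (Cyc.closureStructureSheaf v) w
  haveI : IsScalarTower (Z.presheaf.stalk (q w)) (W.presheaf.stalk w)
      (((Scheme.Modules.pullback q).obj (Cyc.closureStructureSheaf v)).presheaf.stalk w) :=
    IsScalarTower.of_algebraMap_smul fun _ _ => rfl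
  exact not_subsingleton _ (PullStalk.Basic.isBaseChange_unitStalk q (Cyc.closureStructureSheaf v) w).equiv.symm.injective.subsingleton

theorem exists_lift {X Y : Scheme.{u}} (f : X ⟶ Y) [IsProper f] {ξ : X} {y : Y} (h : f ξ ⤳ y) :
    ∃ z : X, ξ ⤳ z ∧ f z = y := by
  have hcl : IsClosed (f '' closure {ξ}) := f.isClosedMap _ isClosed_closure
  obtain ⟨z, hz, hzy⟩ := h.mem_closed hcl ⟨ξ, subset_closure rfl, rfl⟩
  exact ⟨z, specializes_iff_mem_closure.2 hz, hzy⟩

variable {K : Type u} [Field K] [IsAlgClosed K] {X Y : Scheme.{u}} (f : X ⟶ Y)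
  (gX : X ⟶ Spec (CommRingCat.of K)) (gY : Y ⟶ Spec (CommRingCat.of K))
  [Smooth gX] [Smooth gY] [IsIntegral X] [IsIntegral Y] [Flat f] [IsProper f]
  {δX : X → ℤ} {δY : Y → ℤ} (hX : Cyc.IsSetup X δX) (hY : Cyc.IsSetup Y δY)
  (hδX : Cyc.DeltaCompat gX δX (fun _ => 0))
  (hδY : Cyc.DeltaCompat gY δY (fun _ => 0)) (hδ : Cyc.DeltaCompat f δX δY)

open Classical in
include gX gY hX hY hδX hδY hδ in
theorem key_projection {n m : ℤ} (hn : δX (genericPoint X) = n) (hm : δY (genericPoint Y) = m) (e : ℕ)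
    (he : (e : ℤ) = n - m) (hrel : Cyc.HasRelDim f e) (ξ : X) (v : Y)
    (hb : ∀ z : X, ξ ⤳ z → v ⤳ f z → δX z ≤ δX ξ + δY v - m) (w : Y) (F : Finset X)
    (hF : ∀ z ∈ F, f z = w)
    (hFmem : v ⤳ w → δY w = δX ξ + δY v - m → ∀ z, ξ ⤳ z → f z = w → z ∈ F) :
    ∑ z ∈ F, (AlgebraicCycle.mapCoeff f δX δY z : ℤ) *
        IntMult.interProd δX n (Set.indicator {ξ} 1) (Cyc.pullFun f δX δY e (Set.indicator {v} 1)) z =
      (AlgebraicCycle.mapCoeff f δX δY ξ : ℤ) *
        IntMult.interProd δY m (Set.indicator {f ξ} 1) (Set.indicator {v} 1) w := by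
  haveI := hX.1
  haveI := hY.1
  obtain ⟨hsξ, heξ⟩ := sheafFun_oz gX hδX ξ
  obtain ⟨hsv, hev⟩ := sheafFun_oz gY hδY v
  have hcξ := Groth.Agent.CohDev.isCoh_oz (X := X) ξ
  have hcv := Groth.Agent.CohDev.isCoh_oz (X := Y) v
  obtain ⟨hbv, hpv⟩ := Groth.Agent.S1897.result X Y δX δY hX hY f e hrel hδ (δY v) _ hcv
    fun y hy => delta_mono gY hδY (hsv y hy)
  rw [hev] at hpv
  obtain ⟨-, hval⟩ := interProd_sheafFun gX hδX hn _ _ hcξ (ZClosLib.CohDescent.isCoh_pullback f _ hcv)
    (r := δX ξ) (s := δY v + e) (fun z hz => delta_mono gX hδX (hsξ z hz)) hbv fun z h1 h2 => by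
      have := hb z (hsξ z h1) (specializes_of_nontrivial_pullback_oz f v hsv z h2)
      omega
  rw [heξ, ← hpv] at hval
  simp only [hval]
  rw [interProd_indicator]
  have hzero : ∀ z : X, ¬(ξ ⤳ z ∧ v ⤳ f z) →
      IntMult.chi ↑(X.presheaf.stalk z) ↑((Cyc.closureStructureSheaf ξ).presheaf.stalk z)
        ↑(((Scheme.Modules.pullback f).obj (Cyc.closureStructureSheaf v)).presheaf.stalk z) = 0 := fun z h => by
    rcases subsingleton_or_nontrivial ((Cyc.closureStructureSheaf ξ).presheaf.stalk z) with h1 | h1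
    · rw [IntMult88.chi_comm, chi_subsingleton]
    rcases subsingleton_or_nontrivial (((Scheme.Modules.pullback f).obj (Cyc.closureStructureSheaf v)).presheaf.stalk z) with h2 | h2
    · rw [chi_subsingleton]
    exact absurd ⟨hsξ z h1, specializes_of_nontrivial_pullback_oz f v hsv z h2⟩ h
  have hcoeff : ∀ z : X, (AlgebraicCycle.mapCoeff f δX δY z : ℤ) =
      if δX z = δY (f z) then (f.residueDegree z : ℤ) else 0 := fun z => by
    unfold AlgebraicCycle.mapCoeff
    split_ifs <;> simp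
  by_cases hall : f ξ ⤳ w ∧ v ⤳ w ∧ δY w = δX ξ + δY v - m
  swap
  · rw [Finset.sum_eq_zero fun z hz => ?_]
    · rw [hcoeff]
      split_ifs with h1 h2
      · by_cases h3 : f ξ ⤳ w
        · by_cases h4 : v ⤳ w
          · exact absurd ⟨h3, h4, by omega⟩ hall
          · rw [mult_eq_zero_right h4, mul_zero]
        · rw [mult_eq_zero_left h3, mul_zero]
      all_goals simp
    · rw [hcoeff]
      split_ifs with h1 h2
      · by_cases h3 : ξ ⤳ z ∧ v ⤳ f z
        · rw [hF z hz] at h1 h3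
          exact absurd ⟨hF z hz ▸ h3.1.map f.continuous, h3.2, by omega⟩ hall
        · rw [hzero z h3, mul_zero]
      all_goals simp
  obtain ⟨hcw, hvw, ht⟩ := hall
  obtain ⟨Z, _, i, _, hi, hrange⟩ := exists_closure_subscheme ξ
  subst hi
  haveI : IsLocallyNoetherian Z := LocallyOfFiniteType.isLocallyNoetherian i
  have hsp : ∀ z : Z, i (genericPoint Z) ⤳ i z := fun z => (hrange _).1 ⟨z, rfl⟩
  have hzδ : ∀ z : Z, (i ≫ f) z = w → δX (i z) = δY w := fun z hz => by
    have h1 : f (i z) = w := hz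
    have := le_delta f hδ (i z)
    have := hb (i z) (hsp z) (h1.symm ▸ hvw)
    rw [h1] at *
    omega
  have hfin : {z : Z | (i ≫ f) z = w}.Finite := by
    haveI : IsProper (i ≫ f) := MorphismProperty.comp_mem _ i f inferInstance inferInstance
    refine finite_fibre_of_discrete (i ≫ f) w fun z z' hz hz' hs => ?_
    exact i.isClosedEmbedding.injective
      (eq_of_le gX hδX (hs.map i.continuous) (by rw [hzδ z hz, hzδ z' hz']))
  have hcw' : (i ≫ f) (genericPoint Z) ⤳ w := hcw
  have hmeet : ∀ η : Y, (i ≫ f) (genericPoint Z) ⤳ η → v ⤳ η → η ⤳ w → η = w := fun η h1 h2 h3 => by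
    obtain ⟨z, hz1, hz2⟩ := exists_lift f (show f (i (genericPoint Z)) ⤳ η from h1)
    have := le_delta f hδ z
    have := hb z hz1 (hz2.symm ▸ h2)
    rw [hz2] at *
    exact eq_of_le gY hδY h3 (by omega)
  have hkey := sum_chi_fibre f gX gY hδX hδY hδ i hm v w hvw hcw' ht hfin hzδ hmeet
  have hsub : hfin.toFinset.image (fun z => i z) ⊆ F := fun z hz => by
    obtain ⟨z', hz', rfl⟩ := Finset.mem_image.1 hz
    exact hFmem hvw ht (i z') (hsp z') ((Set.Finite.mem_toFinset hfin).1 hz')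
  rw [← Finset.sum_subset hsub fun z hz hnot => ?_, Finset.sum_image fun _ _ _ _ h => i.isClosedEmbedding.injective h]
  swap
  · rw [hzero z fun h => hnot ?_]
    · simp
    obtain ⟨z', rfl⟩ := (hrange z).2 h.1
    exact Finset.mem_image.2 ⟨z', (Set.Finite.mem_toFinset hfin).2 (hF _ hz), rfl⟩
  have hterm : ∀ z ∈ hfin.toFinset, (AlgebraicCycle.mapCoeff f δX δY (i z) : ℤ) *
      (if δX (i z) = δX (i (genericPoint Z)) + (δY v + e) - n then
        IntMult.chi ↑(X.presheaf.stalk (i z)) ↑((Cyc.closureStructureSheaf (i (genericPoint Z))).presheaf.stalk (i z))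
          ↑(((Scheme.Modules.pullback f).obj (Cyc.closureStructureSheaf v)).presheaf.stalk (i z)) else 0) =
      (f.residueDegree (i z) : ℤ) * IntMult.chi (X.presheaf.stalk (i z))
        (X.presheaf.stalk (i z) ⧸ IntMult.stalkIdeal (IntMult.ptIdeal (i (genericPoint Z))) (i z))
        (X.presheaf.stalk (i z) ⧸ (IntMult.stalkIdeal (IntMult.ptIdeal v) (f (i z))).map (f.stalkMap (i z)).hom) := by
    intro z hz
    have h1 : f (i z) = w := (Set.Finite.mem_toFinset hfin).1 hz
    have h2 := hzδ z h1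
    obtain ⟨eξ⟩ := nonempty_stalk_oz (hsp z)
    obtain ⟨eF⟩ := nonempty_stalk_pullback_oz_of_specializes f (v := v) (i z) (h1.symm ▸ hvw)
    rw [hcoeff, if_pos (by rw [h1]; exact h2), if_pos (by omega), stalkIdeal_ptIdeal (hsp z),
      chi_congr_left _ eξ.symm, chi_congr_right _ eF.symm]
  rw [Finset.sum_congr rfl hterm, hkey, IntMult.mult]
  by_cases hc : δX (i (genericPoint Z)) = δY (f (i (genericPoint Z)))
  · rw [hcoeff, if_pos hc, if_pos (show δX (i (genericPoint Z)) = δY ((i ≫ f) (genericPoint Z)) from hc),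
      if_pos (by omega)]
    rfl
  · rw [hcoeff, if_neg hc, if_neg (show ¬ δX (i (genericPoint Z)) = δY ((i ≫ f) (genericPoint Z)) from hc)]
    simp

end Groth.Agent.IntMult66

namespace Groth.Agent.IntMult66

open CycLib

theorem exists_pullFun_ne_zero {X Y : Scheme.{u}} [IsLocallyNoetherian X] (f : X ⟶ Y) [Flat f]
    [LocallyOfFiniteType f] {δX : X → ℤ} {δY : Y → ℤ} (hδ : Cyc.DeltaCompat f δX δY) {e : ℕ}
    (hrel : Cyc.HasRelDim f e) (β : Y → ℤ) {v : Y} (hv : β v ≠ 0) {z : X} (h : v ⤳ f z) :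
    ∃ η : X, η ⤳ z ∧ f η = v ∧ δX η = δY v + e ∧ Cyc.pullFun f δX δY e β η ≠ 0 := by
  obtain ⟨η0, h0, h0'⟩ := Flat.generalizingMap f h
  obtain ⟨η, h1, h2, hmax⟩ := exists_generic_fibre f η0
  have hd := delta_eq_of_generic f hδ hrel η hmax
  have hv' : f η = v := h2.trans h0'
  refine ⟨η, h1.trans h0, hv', hv' ▸ hd, ?_⟩
  unfold Cyc.pullFun
  rw [if_pos hd]
  refine mul_ne_zero (by rw [hv']; exact hv) ?_
  set J := (maximalIdeal (Y.presheaf.stalk (f η))).map (f.stalkMap η).hom with hJ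
  have hJm : J ≤ maximalIdeal (X.presheaf.stalk η) := Ideal.map_le_iff_le_comap.2 fun a ha => by
    rw [Ideal.mem_comap, mem_maximalIdeal]
    exact map_nonunit (f.stalkMap η).hom a ha
  haveI : Nontrivial (X.presheaf.stalk η ⧸ J) :=
    Ideal.Quotient.nontrivial_iff.2 fun htop => (maximalIdeal.isMaximal _).ne_top (top_le_iff.1 (htop ▸ hJm))
  have hrad : maximalIdeal (X.presheaf.stalk η) ≤ J.radical := by
    rw [Ideal.radical_eq_sInf]
    refine le_sInf ?_
    rintro Q ⟨hQ, hQp⟩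
    obtain ⟨x, hx, he⟩ := exists_ptPrime η ⟨Q, hQp⟩
    have hf : f x = f η := by
      have := (le_prime_iff f η ⟨Q, hQp⟩).1 hQ
      rwa [← he, fromSpecStalk_ptPrime] at this
    obtain rfl := hmax x hf hx
    have : ptPrime x x hx = IsLocalRing.closedPoint (X.presheaf.stalk x) :=
      (X.fromSpecStalk x).isEmbedding.injective
        ((fromSpecStalk_ptPrime _ _ _).trans Scheme.fromSpecStalk_closedPoint.symm)
    exact (congrArg PrimeSpectrum.asIdeal (this.symm.trans he)).le
  have hfin : Module.length (X.presheaf.stalk η) (X.presheaf.stalk η ⧸ J) ≠ ⊤ :=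
    Module.length_ne_top_iff.2 (KosEuler.isFiniteLength_of_radical hrad fun a ha z => by
      obtain ⟨z, rfl⟩ := Ideal.Quotient.mk_surjective z
      exact Ideal.Quotient.eq_zero_iff_mem.2 (Ideal.mul_mem_right z J ha))
  intro h00
  rcases ENat.toNat_eq_zero.1 (by exact_mod_cast h00) with h3 | h3
  · exact Module.length_pos.ne' h3
  · exact hfin h3

end Groth.Agent.IntMult66
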