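import Groth.Agent.IntMult66.RegCut
import Groth.Agent.IntMult66.Assoc
import Groth.Agent.LenLib.Semilocal
import Groth.Agent.CycLib.ModCut

/-!
# `Tor` of a semi-local algebra, point by point
-/

set_option autoImplicit false
set_option linter.style.haveILetI false
set_option maxSynthPendingDepth 3

universe u

open scoped TensorProduct

namespace Groth.Agent.IntMult66

variable {B S : Type u} [CommRing B] [IsNoetherianRing B] [CommRing S] [Algebra B S]
  {ι : Type u} [Fintype ι] (n : ι → Ideal S) [∀ i, (n i).IsMaximal] (hn : Function.Injective n)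
  (hall : ∀ m : Ideal S, m.IsMaximal → ∃ i, n i = m)
  (A : ι → Type u) [∀ i, CommRing (A i)] [∀ i, Algebra B (A i)] [∀ i, Module.Flat B (A i)]
  (L : ι → Type u) [∀ i, CommRing (L i)] [∀ i, Algebra S (L i)] [∀ i, Algebra (A i) (L i)]
  [∀ i, Algebra B (L i)] [∀ i, IsScalarTower B S (L i)] [∀ i, IsScalarTower B (A i) (L i)]
  [∀ i, IsLocalization.AtPrime (L i) (n i)]
  (hsur : ∀ i, Function.Surjective (algebraMap (A i) (L i)))

omit [IsNoetherianRing B] [Fintype ι] in
/-- Finite length over the base gives finite length over the algebra. -/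
theorem isFiniteLength_of_length_ne_top (W : Type u) [AddCommGroup W] [Module S W] [Module B W]
    [IsScalarTower B S W] (h : Module.length B W ≠ ⊤) : IsFiniteLength S W := by
  rw [Module.length_ne_top_iff, isFiniteLength_iff_isNoetherian_isArtinian] at h
  obtain ⟨h1, h2⟩ := h
  exact isFiniteLength_iff_isNoetherian_isArtinian.2 ⟨isNoetherian_of_tower B h1, isArtinian_of_tower B h2⟩

include hn hall in
omit [IsNoetherianRing B] [∀ i, CommRing (A i)] in
theorem length_decomp (W : Type u) [AddCommGroup W] [Module S W] [Module B W] [IsScalarTower B S W]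
    (h : Module.length B W ≠ ⊤) :
    Module.length B W = ∑ i, Module.length B (S ⧸ n i) * Module.length (L i) ((L i) ⊗[S] W) := by
  rw [LenLib.length_restrict_decomp n hn hall W (isFiniteLength_of_length_ne_top W h)]
  refine Finset.sum_congr rfl fun i _ => ?_
  congr 1
  haveI : IsLocalizedModule (n i).primeCompl (TensorProduct.mk S (L i) W 1) :=
    (isLocalizedModule_iff_isBaseChange (n i).primeCompl (L i) _).2 (TensorProduct.isBaseChange S W (L i))
  exact CycLib.length_eq_of_isLocalizedModule (n i).primeCompl
    (IsLocalization.algEquiv (n i).primeCompl (Localization.AtPrime (n i)) (L i)).toAlgHom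
    (IsLocalization.algEquiv (n i).primeCompl (Localization.AtPrime (n i)) (L i)).surjective
    (LocalizedModule.mkLinearMap (n i).primeCompl W) (TensorProduct.mk S (L i) W 1)

include hn hall hsur in
theorem length_tor_semilocal : ∀ (q : ℕ) (N : Type u) [AddCommGroup N] [Module B N] [Module.Finite B N],
    Module.length B (_root_.DRing.Tor B q S N) ≠ ⊤ →
      Module.length B (_root_.DRing.Tor B q S N) = ∑ i, Module.length B (S ⧸ n i) *
        Module.length (A i) (_root_.DRing.Tor (A i) q (L i) (A i ⊗[B] N)) := by
  classical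
  intro q
  induction q using Nat.strong_induction_on with
  | _ q ih =>
  intro N _ _ _ hfin
  obtain ⟨m, p, hp⟩ := Module.Finite.exists_fin' B N
  let K := LinearMap.ker p
  let f : K →ₗ[B] (Fin m → B) := K.subtype
  have hf : Function.Injective f := Subtype.val_injective
  have hfg : Function.Exact f p := LinearMap.exact_subtype_ker_map p
  obtain ⟨b1, b2⟩ := length_shift S f p hf hp hfg fun j hj => subsingleton_tor_projective S _ j hj
  have hA : ∀ i, (∀ k : ℕ, Module.length (A i) (_root_.DRing.Tor (A i) (k + 2) (L i) (A i ⊗[B] N)) =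
        Module.length (A i) (_root_.DRing.Tor (A i) (k + 1) (L i) (A i ⊗[B] K))) ∧
      Module.length (A i) (_root_.DRing.Tor (A i) 1 (L i) (A i ⊗[B] N)) =
        Module.length (A i) (LinearMap.ker ((TensorProduct.AlgebraTensorModule.lTensor (A i) (A i) f).lTensor (L i))) :=
    fun i => length_shift (L i) (TensorProduct.AlgebraTensorModule.lTensor (A i) (A i) f)
      (TensorProduct.AlgebraTensorModule.lTensor (A i) (A i) p)
      (Module.Flat.lTensor_preserves_injective_linearMap f hf) (LinearMap.lTensor_surjective (A i) hp)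
      (lTensor_exact (A i) hfg hp) fun j hj => subsingleton_tor_projective (L i) _ j hj
  match q with
  | 0 =>
    rw [length_tor_zero] at hfin ⊢
    rw [length_decomp n hn hall L (S ⊗[B] N) hfin]
    refine Finset.sum_congr rfl fun i _ => ?_
    congr 1
    rw [length_tor_zero,
      (TensorProduct.AlgebraTensorModule.cancelBaseChange B (A i) (A i) (L i) N).length_eq,
      Module.length_eq_of_surjective (hsur i)]
    exact (TensorProduct.AlgebraTensorModule.cancelBaseChange B S (L i) (L i) N).length_eq
  | 1 =>
    rw [b2] at hfin ⊢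
    let φ : S ⊗[B] K →ₗ[S] S ⊗[B] (Fin m → B) := TensorProduct.AlgebraTensorModule.lTensor S S f
    have hφ : Module.length B (LinearMap.ker φ) = Module.length B (LinearMap.ker (f.lTensor S)) :=
      LinearEquiv.length_eq
        { toFun := fun x => ⟨x.1, x.2⟩, invFun := fun x => ⟨x.1, x.2⟩,
          left_inv := fun _ => rfl, right_inv := fun _ => rfl,
          map_add' := fun _ _ => rfl, map_smul' := fun _ _ => rfl }
    rw [← hφ] at hfin ⊢
    rw [length_decomp n hn hall L (LinearMap.ker φ) hfin]
    refine Finset.sum_congr rfl fun i _ => ?_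
    congr 1
    haveI : Module.Flat S (L i) := IsLocalization.flat (L i) (n i).primeCompl
    let ψ : L i ⊗[B] K →ₗ[L i] L i ⊗[B] (Fin m → B) := TensorProduct.AlgebraTensorModule.lTensor (L i) (L i) f
    let inc : L i ⊗[S] LinearMap.ker φ →ₗ[L i] L i ⊗[S] (S ⊗[B] K) :=
      TensorProduct.AlgebraTensorModule.lTensor (L i) (L i) (LinearMap.ker φ).subtype
    let Φ : L i ⊗[S] (S ⊗[B] K) →ₗ[L i] L i ⊗[S] (S ⊗[B] (Fin m → B)) :=
      TensorProduct.AlgebraTensorModule.lTensor (L i) (L i) φ
    let cK := TensorProduct.AlgebraTensorModule.cancelBaseChange B S (L i) (L i) K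
    let cF := TensorProduct.AlgebraTensorModule.cancelBaseChange B S (L i) (L i) (Fin m → B)
    have hcomm : ∀ z, cF (Φ z) = ψ (cK z) := fun z => by
      induction z using TensorProduct.induction_on with
      | zero => simp
      | add x y hx hy => simp only [map_add, hx, hy]
      | tmul l w =>
        induction w using TensorProduct.induction_on with
        | zero => simp
        | add x y hx hy => simp only [TensorProduct.tmul_add, map_add, hx, hy]
        | tmul s k => simp [cF, cK, Φ, φ, ψ]
    have hinc : Function.Injective inc :=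
      Module.Flat.lTensor_preserves_injective_linearMap _ Subtype.val_injective
    have hex : Function.Exact inc Φ := Module.Flat.lTensor_exact (L i) (LinearMap.exact_subtype_ker_map φ)
    let e : L i ⊗[S] LinearMap.ker φ ≃ₗ[L i] LinearMap.ker ψ :=
      (LinearEquiv.ofInjective inc hinc).trans ((cK).ofSubmodules _ _ (by
        ext z
        obtain ⟨w, hw⟩ := cK.surjective z
        rw [← hw, LinearMap.mem_ker, ← hcomm, Submodule.mem_map_equiv, LinearEquiv.symm_apply_apply,
          LinearEquiv.map_eq_zero_iff, ← LinearMap.mem_ker]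
        exact SetLike.ext_iff.1 (LinearMap.exact_iff.1 hex).symm w))
    rw [e.length_eq, (hA i).2, ← Module.length_eq_of_surjective (S := A i) (M := LinearMap.ker ψ) (hsur i)]
    let dK := TensorProduct.AlgebraTensorModule.cancelBaseChange B (A i) (A i) (L i) K
    let dF := TensorProduct.AlgebraTensorModule.cancelBaseChange B (A i) (A i) (L i) (Fin m → B)
    have hcomm' : ∀ z, dF ((TensorProduct.AlgebraTensorModule.lTensor (A i) (A i) f).lTensor (L i) z) =
        ψ (dK z) := fun z => by
      induction z using TensorProduct.induction_on with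
      | zero => simp
      | add x y hx hy => simp only [map_add, hx, hy]
      | tmul l w =>
        induction w using TensorProduct.induction_on with
        | zero => simp
        | add x y hx hy => simp only [TensorProduct.tmul_add, map_add, hx, hy]
        | tmul a k => simp [dF, dK, ψ]
    symm
    refine LinearEquiv.length_eq (dK.ofSubmodules _ ((LinearMap.ker ψ).restrictScalars (A i)) ?_)
    ext z
    obtain ⟨w, hw⟩ := dK.surjective z
    rw [← hw, Submodule.mem_map_equiv, LinearEquiv.symm_apply_apply, Submodule.restrictScalars_mem,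
      LinearMap.mem_ker, LinearMap.mem_ker, ← hcomm', LinearEquiv.map_eq_zero_iff]
  | k + 2 =>
    rw [b1 k] at hfin ⊢
    rw [ih (k + 1) (by omega) K hfin]
    exact Finset.sum_congr rfl fun i _ => by rw [(hA i).1 k]

include hn hall hsur in
/-- The Euler characteristic, point by point. -/
theorem chi_semilocal (N : Type u) [AddCommGroup N] [Module B N] [Module.Finite B N] (D : ℕ)
    (hfin : ∀ q, Module.length B (_root_.DRing.Tor B q S N) ≠ ⊤)
    (hD : ∀ q, D < q → Subsingleton (_root_.DRing.Tor B q S N))
    (hD' : ∀ i q, D < q → Subsingleton (_root_.DRing.Tor (A i) q (L i) (A i ⊗[B] N))) :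
    IntMult.chi B S N = ∑ i, ((Module.length B (S ⧸ n i)).toNat : ℤ) *
      IntMult.chi (A i) (L i) (A i ⊗[B] N) := by
  classical
  unfold IntMult.chi
  rw [finsum_eq_finsetSum_of_support_subset _ (s := Finset.range (D + 1)) fun q hq => by
    by_contra h
    haveI := hD q (by simpa using h)
    exact hq (by simp [Module.length_eq_zero])]
  have hr : ∀ i, ∑ᶠ q : ℕ, (-1 : ℤ) ^ q *
      ((Module.length (A i) (_root_.DRing.Tor (A i) q (L i) (A i ⊗[B] N))).toNat : ℤ) =
      ∑ q ∈ Finset.range (D + 1), (-1 : ℤ) ^ q *
      ((Module.length (A i) (_root_.DRing.Tor (A i) q (L i) (A i ⊗[B] N))).toNat : ℤ) := fun i =>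
    finsum_eq_finsetSum_of_support_subset _ fun q hq => by
      by_contra h
      haveI := hD' i q (by simpa using h)
      exact hq (by simp [Module.length_eq_zero])
  simp only [hr, Finset.mul_sum]
  rw [Finset.sum_comm]
  refine Finset.sum_congr rfl fun q _ => ?_
  have h := length_tor_semilocal n hn hall A L hsur q N (hfin q)
  have hne : ∀ i ∈ (Finset.univ : Finset ι), Module.length B (S ⧸ n i) *
      Module.length (A i) (_root_.DRing.Tor (A i) q (L i) (A i ⊗[B] N)) ≠ ⊤ := fun i hi htop =>
    hfin q (top_le_iff.1 ((htop.symm.trans_le (Finset.single_le_sum (f := fun j => Module.length B (S ⧸ n j) *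
      Module.length (A j) (_root_.DRing.Tor (A j) q (L j) (A j ⊗[B] N))) (fun j _ => bot_le) hi)).trans h.ge))
  rw [h, ENat.toNat_sum hne, Nat.cast_sum, Finset.mul_sum]
  refine Finset.sum_congr rfl fun i _ => ?_
  rw [ENat.toNat_mul]
  push_cast
  ring

end Groth.Agent.IntMult66
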