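import Groth.Agent.SpFlat88.Basic
import Groth.Agent.CycLib.PullDiv
import Groth.Agent.CycLib.FibreDeg
import Groth.Agent.CycLib.PullFun
import Groth.Agent.CycLib.DevCycleClass
import Groth.Agent.AlgSpD.RelDim

/-!
# Specialisation and flat pullback
-/

set_option autoImplicit false
set_option linter.style.haveILetI false
set_option maxHeartbeats 2000000
set_option maxSynthPendingDepth 3

universe u

open CategoryTheory CategoryTheory.Limits AlgebraicGeometry IsLocalRing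

namespace Groth.Agent.IntMult66.SpPull

open Groth.Agent Groth.Agent.CycLib

theorem fibLen_congr {X Y : Scheme.{u}} {f g : X ⟶ Y} (h : f = g) (x : X) : fibLen f x = fibLen g x := by
  subst h; rfl

theorem fibLen_fibre {A B X' X : Scheme.{u}} (g : A ⟶ B) (ι' : A ⟶ X') [IsPreimmersion ι'] (ι : B ⟶ X) [IsPreimmersion ι]
    (f : X' ⟶ X) (h : g ≫ ι = ι' ≫ f) (a : A)
    (hker : RingHom.ker (ι'.stalkMap a).hom ≤
      (maximalIdeal (X.presheaf.stalk (f (ι' a)))).map (f.stalkMap (ι' a)).hom) :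
    fibLen g a = fibLen f (ι' a) := by
  have key : ∀ (I J : Ideal (A.presheaf.stalk a)), I = J →
      (Module.length (A.presheaf.stalk a) (A.presheaf.stalk a ⧸ I)).toNat =
        (Module.length (A.presheaf.stalk a) (A.presheaf.stalk a ⧸ J)).toNat := by rintro I J rfl; rfl
  have h1 : fibLen (g ≫ ι) a = fibLen g a := by
    refine key _ _ ?_
    rw [Scheme.Hom.stalkMap_comp]
    show (maximalIdeal (X.presheaf.stalk (ι (g a)))).map ((g.stalkMap a).hom.comp (ι.stalkMap (g a)).hom) = _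
    rw [← Ideal.map_map, IsLocalRing.map_maximalIdeal_of_surjective _ (ι.stalkMap_surjective (g a))]
  rw [← h1, fibLen_congr h a]
  have h2 : ((maximalIdeal (X.presheaf.stalk (f (ι' a)))).map (f.stalkMap (ι' a)).hom).map (ι'.stalkMap a).hom =
      (maximalIdeal (X.presheaf.stalk ((ι' ≫ f) a))).map ((ι' ≫ f).stalkMap a).hom := by
    rw [Scheme.Hom.stalkMap_comp, Ideal.map_map]
    rfl
  refine (key _ _ h2.symm).trans (congrArg ENat.toNat (length_quot_surjective (ι'.stalkMap a).hom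
    (ι'.stalkMap_surjective a) _ _ ?_))
  rw [Ideal.comap_map_of_surjective _ (ι'.stalkMap_surjective a), ← RingHom.ker_eq_comap_bot,
    sup_eq_left.2 hker]

variable {R : Type u} [CommRing R] [IsDomain R] [IsDiscreteValuationRing R] {X' X : Scheme.{u}}
  (b : X ⟶ Spec (CommRingCat.of R)) [LocallyOfFiniteType b] (f : X' ⟶ X) [LocallyOfFiniteType f]

theorem deltaCompat_dTot_comp : Cyc.DeltaCompat f (SpFlat88.dTot (f ≫ b)) (SpFlat88.dTot b) := by
  choose n m hm hh using fun x : X' => AlgSpD.exists_fibre_dims f x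
  let δ' : X' → ℤ := fun x => SpFlat88.dTot b (f x) + (m x : ℤ)
  have hc : Cyc.DeltaCompat f δ' (SpFlat88.dTot b) := fun x => ⟨m x, hm x, rfl⟩
  rwa [deltaCompat_eq (deltaCompat_comp hc (SpFlat88.deltaCompat_dTot b)) (SpFlat88.deltaCompat_dTot (f ≫ b))] at hc

theorem tAt_comp (ϖ : R) (p : X') : SpFlat88.tAt (f ≫ b) ϖ p = f.stalkMap p (SpFlat88.tAt b ϖ (f p)) :=
  (Scheme.Hom.germ_stalkMap_apply f ⊤ p trivial _).symm

/-- The multiplicity in the definition of specialisation is the order of the uniformiser. -/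
theorem length_spTerm {Z : Scheme.{u}} (a : Z ⟶ Spec (CommRingCat.of R)) [LocallyOfFiniteType a] {ϖ : R}
    (hϖ : maximalIdeal R = Ideal.span {ϖ}) {p ζ : Z} (h : ζ ⤳ p) (hp : a p = IsLocalRing.closedPoint R) :
    ((Module.length (Z.presheaf.stalk p) (Cyc.LocQuot p ζ h ⧸
      (maximalIdeal ((Spec (CommRingCat.of R)).presheaf.stalk (a p))).map
        ((Ideal.Quotient.mk (RingHom.ker (Cyc.specMap p ζ h))).comp (a.stalkMap p).hom))).toNat : ℤ) =
      LenLib.ordZ (Ideal.Quotient.mk (RingHom.ker (Cyc.specMap p ζ h)) (SpFlat88.tAt a ϖ p)) := by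
  rw [← Ideal.map_map, SpFlat88.map_maximalIdeal a ϖ p (by rw [hp]; exact hϖ), Ideal.map_span, Set.image_singleton,
    Module.length_eq_of_surjective (S := Z.presheaf.stalk p) (R := Cyc.LocQuot p ζ h) Ideal.Quotient.mk_surjective]
  rfl

variable [Flat f] {e : ℕ} (he : Cyc.HasRelDim f e)
  {δ'η : ↥((f ≫ b).fiber (genericPoint ↥(Spec (CommRingCat.of R)))) → ℤ}
  {δ's : ↥((f ≫ b).fiber (IsLocalRing.closedPoint R)) → ℤ}
  {δη : ↥(b.fiber (genericPoint ↥(Spec (CommRingCat.of R)))) → ℤ}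
  {δs : ↥(b.fiber (IsLocalRing.closedPoint R)) → ℤ}
  (h1 : Cyc.DeltaCompat ((f ≫ b).fiberToSpecResidueField (genericPoint ↥(Spec (CommRingCat.of R)))) δ'η (fun _ => 0))
  (h2 : Cyc.DeltaCompat ((f ≫ b).fiberToSpecResidueField (IsLocalRing.closedPoint R)) δ's (fun _ => 0))
  (h3 : Cyc.DeltaCompat (b.fiberToSpecResidueField (genericPoint ↥(Spec (CommRingCat.of R)))) δη (fun _ => 0))
  (h4 : Cyc.DeltaCompat (b.fiberToSpecResidueField (IsLocalRing.closedPoint R)) δs (fun _ => 0))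
  (fη : (f ≫ b).fiber (genericPoint ↥(Spec (CommRingCat.of R))) ⟶ b.fiber (genericPoint ↥(Spec (CommRingCat.of R))))
  (hη : fη ≫ b.fiberι (genericPoint ↥(Spec (CommRingCat.of R))) = (f ≫ b).fiberι (genericPoint ↥(Spec (CommRingCat.of R))) ≫ f)
  (fs : (f ≫ b).fiber (IsLocalRing.closedPoint R) ⟶ b.fiber (IsLocalRing.closedPoint R))
  (hs : fs ≫ b.fiberι (IsLocalRing.closedPoint R) = (f ≫ b).fiberι (IsLocalRing.closedPoint R) ≫ f)

theorem ker_le (s : ↥(Spec (CommRingCat.of R))) (x : ↥((f ≫ b).fiber s)) :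
    RingHom.ker (((f ≫ b).fiberι s).stalkMap x).hom ≤
      (maximalIdeal (X.presheaf.stalk (f ((f ≫ b).fiberι s x)))).map (f.stalkMap ((f ≫ b).fiberι s x)).hom := by
  rw [FlatMor.FibreStalk.ker_stalkMap_fiberι, Scheme.Hom.stalkMap_comp]
  show (maximalIdeal ((Spec (CommRingCat.of R)).presheaf.stalk (b (f ((f ≫ b).fiberι s x))))).map
    ((f.stalkMap ((f ≫ b).fiberι s x)).hom.comp (b.stalkMap (f ((f ≫ b).fiberι s x))).hom) ≤ _
  rw [← Ideal.map_map]
  exact Ideal.map_mono (Ideal.map_le_iff_le_comap.2 fun c hc => map_nonunit (b.stalkMap _).hom c hc)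

include he h1 h2 h3 h4 hη hs in
theorem spFun_pullFun (r : ℤ) (α : AlgebraicCycle (b.fiber (genericPoint ↥(Spec (CommRingCat.of R)))) ℤ)
    (x' : ↥((f ≫ b).fiber (IsLocalRing.closedPoint R))) :
    Cyc.spFun (f ≫ b) (genericPoint ↥(Spec (CommRingCat.of R))) (IsLocalRing.closedPoint R) δ'η δ's (r + e)
        (Cyc.pullFun fη δ'η δη e ⇑α) x' =
      Cyc.pullFun fs δ's δs e
        (Cyc.spFun b (genericPoint ↥(Spec (CommRingCat.of R))) (IsLocalRing.closedPoint R) δη δs r ⇑α) x' := by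
  classical
  haveI : IsLocallyNoetherian X := LocallyOfFiniteType.isLocallyNoetherian b
  haveI : IsLocallyNoetherian X' := LocallyOfFiniteType.isLocallyNoetherian f
  obtain ⟨ϖ, hϖ0, hϖ⟩ := SpFlat88.exists_uniformizer (R := R)
  set p := (f ≫ b).fiberι (IsLocalRing.closedPoint R) x' with hp
  have hfp : b.fiberι (IsLocalRing.closedPoint R) (fs x') = f p := by rw [← Scheme.Hom.comp_apply, hs]; rfl
  have hbp : (f ≫ b) p = (IsLocalRing.closedPoint R) := SpFlat88.apply_fiberι (f ≫ b) (IsLocalRing.closedPoint R) x'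
  have hbfp : b (f p) = (IsLocalRing.closedPoint R) := hbp
  have hdX := SpFlat88.isDimFun_dTot b
  have hdX' := SpFlat88.isDimFun_dTot (f ≫ b)
  have hδ := deltaCompat_dTot_comp b f
  have ts : SpFlat88.dTrait (R := R) (IsLocalRing.closedPoint R) = 0 := if_pos rfl
  have tη : SpFlat88.dTrait (R := R) (genericPoint ↥(Spec (CommRingCat.of R))) = 1 := if_neg SpFlat88.generic_ne_closed
  have dp : SpFlat88.dTot (f ≫ b) p = δ's x' := by rw [hp, SpFlat88.dTot_fiberι (f ≫ b) (IsLocalRing.closedPoint R) δ's h2, ts, zero_add]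
  have dfp : SpFlat88.dTot b (f p) = δs (fs x') := by rw [← hfp, SpFlat88.dTot_fiberι b (IsLocalRing.closedPoint R) δs h4, ts, zero_add]
  have dζ : ∀ z, SpFlat88.dTot b (b.fiberι (genericPoint ↥(Spec (CommRingCat.of R))) z) = 1 + δη z := fun z => by
    rw [SpFlat88.dTot_fiberι b (genericPoint ↥(Spec (CommRingCat.of R))) δη h3, tη]
  have dζ' : ∀ z, SpFlat88.dTot (f ≫ b) ((f ≫ b).fiberι (genericPoint ↥(Spec (CommRingCat.of R))) z) = 1 + δ'η z := fun z => by
    rw [SpFlat88.dTot_fiberι (f ≫ b) (genericPoint ↥(Spec (CommRingCat.of R))) δ'η h1, tη]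
  have hfι : ∀ z, b.fiberι (genericPoint ↥(Spec (CommRingCat.of R))) (fη z) = f ((f ≫ b).fiberι (genericPoint ↥(Spec (CommRingCat.of R))) z) := fun z => by
    rw [← Scheme.Hom.comp_apply, hη]; rfl
  have hne : ∀ z, b.fiberι (genericPoint ↥(Spec (CommRingCat.of R))) z ≠ f p := fun z h => SpFlat88.generic_ne_closed (R := R) (by
    have := congrArg b h
    rw [SpFlat88.apply_fiberι b (genericPoint ↥(Spec (CommRingCat.of R))) z, hbfp] at this
    exact this)
  have hlenη : ∀ z, fibLen fη z = fibLen f ((f ≫ b).fiberι (genericPoint ↥(Spec (CommRingCat.of R))) z) := fun z =>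
    fibLen_fibre fη _ _ f hη z (ker_le b f (genericPoint ↥(Spec (CommRingCat.of R))) z)
  have hlens : fibLen fs x' = fibLen f p := fibLen_fibre fs _ _ f hs x' (ker_le b f (IsLocalRing.closedPoint R) x')
  have hle := delta_le_add f hdX' hδ he p
  rw [dp, dfp] at hle
  by_cases hx' : δ's x' = r + e
  swap
  · rw [Cyc.spFun, if_neg hx']
    unfold Cyc.pullFun
    split_ifs with h
    · rw [Cyc.spFun, if_neg (show ¬ δs (fs x') = r by omega), zero_mul]
    · rfl
  rw [Cyc.spFun, if_pos hx']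
  by_cases hx : δs (fs x') = r
  swap
  · rw [Cyc.pullFun, if_neg (by omega)]
    refine finsum_eq_zero_of_forall_eq_zero fun z => ?_
    obtain ⟨z, hz, hzs⟩ := z
    rw [Cyc.pullFun]
    split_ifs with hc
    · exfalso
      have hsp : b.fiberι (genericPoint ↥(Spec (CommRingCat.of R))) (fη z) ⤳ f p := by rw [hfι]; exact hzs.map f.continuous
      have := (hdX _ _ hsp (hne _)).1
      change δ'η z = δη (fη z) + (e : ℤ) at hc
      rw [dζ, dfp] at this
      omega
    · rw [zero_mul]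
  conv_rhs => rw [Cyc.pullFun, if_pos (show δ's x' = δs (fs x') + (e : ℤ) by omega), Cyc.spFun, if_pos hx]
  -- the finitely many relevant points of the generic fibre
  obtain ⟨U, hU, hpU, -⟩ := exists_isAffineOpen_mem_and_subset (X := X) (x := f p) (U := ⊤) trivial
  haveI : IsAffineHom ((Spec (CommRingCat.of R)).fromSpecResidueField (genericPoint ↥(Spec (CommRingCat.of R)))) := inferInstance
  haveI : IsAffineHom (b.fiberι (genericPoint ↥(Spec (CommRingCat.of R)))) := MorphismProperty.pullback_fst _ _ inferInstance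
  have hTfin := CycLib.Dev.finite_inter_cycle α (b.fiberι (genericPoint ↥(Spec (CommRingCat.of R))) ⁻¹ᵁ U) (hU.preimage _)
  let T := hTfin.toFinset.filter fun z => δη z = r ∧ b.fiberι (genericPoint ↥(Spec (CommRingCat.of R))) z ⤳ f p
  have hT : ∀ z, z ∈ T ↔ α z ≠ 0 ∧ δη z = r ∧ b.fiberι (genericPoint ↥(Spec (CommRingCat.of R))) z ⤳ f p := fun z => by
    simp only [T, Finset.mem_filter, Set.Finite.mem_toFinset]
    exact ⟨fun h => ⟨h.1.2, h.2⟩, fun h => ⟨⟨h.2.2.mem_open U.2 hpU, h.1⟩, h.2⟩⟩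
  have hS : ∀ z ∈ T, ∃ S : Finset ↥((f ≫ b).fiber (genericPoint ↥(Spec (CommRingCat.of R)))),
      (∀ z', z' ∈ S ↔ (δ'η z' = r + e ∧ (f ≫ b).fiberι (genericPoint ↥(Spec (CommRingCat.of R))) z' ⤳ p) ∧ fη z' = z) ∧
      ∀ hzp : b.fiberι (genericPoint ↥(Spec (CommRingCat.of R))) z ⤳ f p,
        LenLib.ordZ (Ideal.Quotient.mk (RingHom.ker (Cyc.specMap (f p) _ hzp)) (SpFlat88.tAt b ϖ (f p))) * (fibLen f p : ℤ) =
        ∑ z' ∈ S, if h : (f ≫ b).fiberι (genericPoint ↥(Spec (CommRingCat.of R))) z' ⤳ p then (fibLen f ((f ≫ b).fiberι (genericPoint ↥(Spec (CommRingCat.of R))) z') : ℤ) *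
          LenLib.ordZ (Ideal.Quotient.mk (RingHom.ker (Cyc.specMap p _ h)) (SpFlat88.tAt (f ≫ b) ϖ p)) else 0 := by
    intro z hz
    obtain ⟨-, hzr, hzp⟩ := (hT z).1 hz
    obtain ⟨S, hS1, hS2, hS3⟩ := ordZ_mul_fibLen f hdX' hdX hδ he hzp (by rw [dζ, dfp]; omega) (by rw [dp, dfp]; omega)
    have hsub : ∀ q ∈ S, q ∈ Set.range ((f ≫ b).fiberι (genericPoint ↥(Spec (CommRingCat.of R)))) := fun q hq => by
      rw [(f ≫ b).range_fiberι]
      show b (f q) = (genericPoint ↥(Spec (CommRingCat.of R)))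
      rw [((hS1 q).1 hq).2]
      exact SpFlat88.apply_fiberι b (genericPoint ↥(Spec (CommRingCat.of R))) z
    refine ⟨S.preimage ((f ≫ b).fiberι (genericPoint ↥(Spec (CommRingCat.of R)))) ((f ≫ b).fiberι (genericPoint ↥(Spec (CommRingCat.of R)))).isEmbedding.injective.injOn, fun z' => ?_, fun _ => ?_⟩
    · rw [Finset.mem_preimage, hS1]
      constructor
      · rintro ⟨hsp, hq⟩
        have hfz : fη z' = z := (b.fiberι (genericPoint ↥(Spec (CommRingCat.of R)))).isEmbedding.injective ((hfι z').trans hq)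
        have := (hS2 _ ((hS1 _).2 ⟨hsp, hq⟩)).2
        rw [dp, dζ'] at this
        exact ⟨⟨by omega, hsp⟩, hfz⟩
      · rintro ⟨⟨-, hsp⟩, rfl⟩
        exact ⟨hsp, (hfι z').symm⟩
    · rw [hS3 _ (fun h0 => SpFlat88.generic_ne_closed (R := R)
        ((SpFlat88.apply_fiberι b (genericPoint ↥(Spec (CommRingCat.of R))) z).symm.trans ((SpFlat88.specMap_tAt_eq_zero_iff b hϖ hϖ0 hzp).1 h0))),
        ← tAt_comp b f ϖ p]
      refine (Finset.sum_preimage _ _ ((f ≫ b).fiberι (genericPoint ↥(Spec (CommRingCat.of R)))).isEmbedding.injective.injOn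
        (fun q => if h : q ⤳ p then (fibLen f q : ℤ) *
          LenLib.ordZ (Ideal.Quotient.mk (RingHom.ker (Cyc.specMap p _ h)) (SpFlat88.tAt (f ≫ b) ϖ p)) else 0)
        fun q hq hn => absurd (hsub q hq) hn).symm
  choose! S hS1 hS2 using hS
  rw [finsum_eq_sum_of_support_subset _ (s := (T.biUnion S).subtype
      fun z => δ'η z = r + e ∧ (f ≫ b).fiberι (genericPoint ↥(Spec (CommRingCat.of R))) z ⤳ p) ?_,
    finsum_eq_sum_of_support_subset _ (s := T.subtype fun z => δη z = r ∧ b.fiberι (genericPoint ↥(Spec (CommRingCat.of R))) z ⤳ b.fiberι (IsLocalRing.closedPoint R) (fs x')) ?_]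
  rotate_left
  · rintro ⟨z, hz⟩ hne'
    refine Finset.mem_subtype.2 ((hT z).2 ⟨fun h0 => hne' (by simp [h0]), hz.1, ?_⟩)
    rw [← hfp]; exact hz.2
  · rintro ⟨z, hz⟩ hne'
    have h0 : α (fη z) ≠ 0 ∧ δ'η z = δη (fη z) + e := by
      simp only [Function.mem_support, Cyc.pullFun] at hne'
      split_ifs at hne' with hc
      · exact ⟨fun h0 => hne' (by simp [h0]), hc⟩
      · simp at hne'
    have hzT : fη z ∈ T := (hT _).2 ⟨h0.1, by omega, by rw [hfι]; exact hz.2.map f.continuous⟩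
    exact Finset.mem_subtype.2 (Finset.mem_biUnion.2 ⟨_, hzT, (hS1 _ hzT z).2 ⟨hz, rfl⟩⟩)
  let G : ↥((f ≫ b).fiber (genericPoint ↥(Spec (CommRingCat.of R)))) → ℤ := fun z' => if h : (f ≫ b).fiberι (genericPoint ↥(Spec (CommRingCat.of R))) z' ⤳ p then α (fη z') *
    ((fibLen f ((f ≫ b).fiberι (genericPoint ↥(Spec (CommRingCat.of R))) z') : ℤ) *
      LenLib.ordZ (Ideal.Quotient.mk (RingHom.ker (Cyc.specMap p _ h)) (SpFlat88.tAt (f ≫ b) ϖ p))) else 0
  let H : ↥(b.fiber (genericPoint ↥(Spec (CommRingCat.of R)))) → ℤ := fun z => ∑ z' ∈ S z, G z'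
  have hL : ∀ q : {z // δ'η z = r + e ∧ (f ≫ b).fiberι (genericPoint ↥(Spec (CommRingCat.of R))) z ⤳ p}, q ∈ (T.biUnion S).subtype _ →
      Cyc.pullFun fη δ'η δη e (⇑α) q.1 * ((Module.length (X'.presheaf.stalk p) (Cyc.LocQuot p _ q.2.2 ⧸
      (maximalIdeal ((Spec (CommRingCat.of R)).presheaf.stalk ((f ≫ b) p))).map
        ((Ideal.Quotient.mk (RingHom.ker (Cyc.specMap p _ q.2.2))).comp ((f ≫ b).stalkMap p).hom))).toNat : ℤ) =
      G q.1 := by
    rintro ⟨z', hz'⟩ hq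
    obtain ⟨z, hz, hz'S⟩ := Finset.mem_biUnion.1 (Finset.mem_subtype.1 hq)
    obtain ⟨-, hfz⟩ := (hS1 z hz z').1 hz'S
    rw [length_spTerm (f ≫ b) hϖ hz'.2 hbp, show G z' = _ from dif_pos hz'.2, Cyc.pullFun,
      if_pos (show δ'η z' = δη (fη z') + (e : ℤ) by rw [hfz, ((hT z).1 hz).2.1]; exact hz'.1), ← hlenη z']
    rw [show ((Module.length _ (((f ≫ b).fiber (genericPoint ↥(Spec (CommRingCat.of R)))).presheaf.stalk z' ⧸
      (maximalIdeal ((b.fiber (genericPoint ↥(Spec (CommRingCat.of R)))).presheaf.stalk (fη z'))).map (fη.stalkMap z').hom)).toNat : ℤ) = (fibLen fη z' : ℤ) from rfl]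
    ring
  refine (Finset.sum_congr rfl hL).trans ?_
  rw [Finset.sum_subtype_eq_sum_filter, Finset.filter_true_of_mem (fun z' hz' => by
    obtain ⟨z, hz, hz'S⟩ := Finset.mem_biUnion.1 hz'
    exact ((hS1 z hz z').1 hz'S).1), Finset.sum_biUnion, Finset.sum_mul]
  · rw [← Finset.sum_coe_sort T]
    refine Finset.sum_bij (fun z _ => (⟨z.1, ((hT z.1).1 z.2).2.1, by rw [hfp]; exact ((hT z.1).1 z.2).2.2⟩ :
      {z // δη z = r ∧ b.fiberι (genericPoint ↥(Spec (CommRingCat.of R))) z ⤳ b.fiberι (IsLocalRing.closedPoint R) (fs x')}))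
      (fun z _ => Finset.mem_subtype.2 z.2) (fun z _ z' _ h => Subtype.ext (congrArg Subtype.val h :))
      (fun q hq => ⟨⟨q.1, Finset.mem_subtype.1 hq⟩, Finset.mem_univ _, Subtype.ext rfl⟩) fun z _ => ?_
    obtain ⟨-, hzr, hzp⟩ := (hT z.1).1 z.2
    have hR : ∀ (q : X) (hq : q = f p) (h : b.fiberι (genericPoint ↥(Spec (CommRingCat.of R))) z.1 ⤳ q),
        ((Module.length (X.presheaf.stalk q) (Cyc.LocQuot q _ h ⧸
          (maximalIdeal ((Spec (CommRingCat.of R)).presheaf.stalk (b q))).map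
            ((Ideal.Quotient.mk (RingHom.ker (Cyc.specMap q _ h))).comp (b.stalkMap q).hom))).toNat : ℤ) =
          LenLib.ordZ (Ideal.Quotient.mk (RingHom.ker (Cyc.specMap (f p) _ hzp)) (SpFlat88.tAt b ϖ (f p))) := by
      rintro q rfl h
      exact length_spTerm b hϖ h hbfp
    rw [hR _ hfp, show ((Module.length _ (((f ≫ b).fiber (IsLocalRing.closedPoint R)).presheaf.stalk x' ⧸
      (maximalIdeal ((b.fiber (IsLocalRing.closedPoint R)).presheaf.stalk (fs x'))).map (fs.stalkMap x').hom)).toNat : ℤ) = (fibLen fs x' : ℤ) from rfl,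
      hlens, mul_assoc, hS2 z.1 z.2 hzp, Finset.mul_sum]
    refine Finset.sum_congr rfl fun z' hz' => ?_
    obtain ⟨⟨-, hsp⟩, hfz⟩ := (hS1 z.1 z.2 z').1 hz'
    rw [show G z' = _ from dif_pos hsp, dif_pos hsp, hfz]
  · intro z hz z₂ hz₂ hne'
    refine Finset.disjoint_left.2 fun w hw hw₂ => hne' ?_
    rw [← ((hS1 z hz w).1 hw).2, ((hS1 z₂ hz₂ w).1 hw₂).2]

end Groth.Agent.IntMult66.SpPull
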