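import Groth.Agent.CycLib.VecBdl.SplittingGen
import Groth.Agent.CycLib.VecBdl.Taut
import Groth.Agent.ProjBundleLib.Projective
import Groth.Agent.ProjBundleLib.BaseChange
import Groth.Agent.ProjMor.Local
import Groth.Agent.S9708
import Groth.Agent.S4452
import Groth.Agent.CycLib.ShiftC1
import Groth.Agent.CycLib.ShiftComp
import Groth.Agent.S9358
import Groth.Agent.S1857
import Groth.Agent.S6474
import Groth.Agent.CycLib.ProjBdl.OfKRR
import Groth.Agent.CycLib.ProjBdl.BundleBC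
import Groth.Agent.CycLib.VecBdl.Taut2

/-!
# Towers of projective bundles splitting bundles, with universally injective pull-back
-/

set_option autoImplicit false
set_option linter.style.haveILetI false
set_option backward.isDefEq.respectTransparency false
set_option maxHeartbeats 1000000

universe u

open CategoryTheory CategoryTheory.Limits AlgebraicGeometry TopologicalSpace Opposite

noncomputable section

namespace Groth.Agent.IntMult66.SplitTower

open Groth.Agent.CycLib Groth.Agent.CycLib.Dev Groth.Agent.CycLib.ProjBdl Groth.Agent.CycLib.VecBdl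
  Groth.Agent.PullStalk.Sky

/-- Injectivity of flat pull-back after every base change of finite type. -/
def UnivInj {X P : Scheme.{u}} (π : P ⟶ X) (d : ℕ) : Prop :=
  ∀ (Y : Scheme.{u}) (f : Y ⟶ X) [LocallyOfFiniteType f] (δY : Y → ℤ), Cyc.IsSetup Y δY →
    ∀ (PY : Scheme.{u}) (πY : PY ⟶ Y) (g : PY ⟶ P), IsPullback g πY π f →
    ∀ (δPY : PY → ℤ), Cyc.IsSetup PY δPY → Cyc.DeltaCompat πY δPY δY →
    ∀ (k : ℤ) (α : AlgebraicCycle Y ℤ), α ∈ Cyc.Zk Y δY k →
    ∀ β : AlgebraicCycle PY ℤ, ⇑β = Cyc.pullFun πY δPY δY d ⇑α →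
      Cyc.RatEquivZero δPY (k + d) β → Cyc.RatEquivZero δY k α

/-- The properties of a tower of projective bundles. -/
structure Tower {X P : Scheme.{u}} (π : P ⟶ X) (d : ℕ) : Prop where
  proper : IsProper π
  flat : Flat π
  rel : Cyc.HasRelDim π d
  proj : ∀ W : X.Opens, IsCompact (W : Set X) → IsQuasiSeparated (W : Set X) → RelProj.IsProjective (π ∣_ W)
  inj : UnivInj π d

theorem shiftBy_of_relDim {X Y : Scheme.{u}} (f : X ⟶ Y) [LocallyOfFiniteType f] {δX : X → ℤ} {δY : Y → ℤ}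
    {r : ℕ} (hr : Cyc.HasRelDim f r) (h : Cyc.DeltaCompat f δX δY) : ShiftBy f δX δY (r : ℤ) := fun x hx => by
  obtain ⟨n, hn, hn'⟩ := h x
  rw [trdeg_eq_of_hasRelDim f hr x hx] at hn
  rw [hn', show n = r from (Nat.cast_inj.1 hn).symm]

/-- Composition of towers. -/
theorem Tower.comp {X P Q : Scheme.{u}} {δ : X → ℤ} (hX : Cyc.IsSetup X δ) {π : P ⟶ X} {ψ : Q ⟶ P} {d e : ℕ}
    (hπ : Tower π d) (hψ : Tower ψ e) : Tower (ψ ≫ π) (e + d) := by
  haveI := hπ.proper
  haveI := hπ.flat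
  haveI := hψ.proper
  haveI := hψ.flat
  obtain ⟨δP, hP, hδP⟩ := exists_setup π hX
  obtain ⟨δQ, hQ, hδQ⟩ := exists_setup ψ hP
  refine ⟨inferInstance, inferInstance,
    (S1857.result Q P X δQ δP δ hQ hP hX ψ π e d hψ.rel hπ.rel hδQ hδP 0).1, fun W hc hq => ?_, ?_⟩
  · haveI : CompactSpace (W : Scheme.{u}) := isCompact_iff_compactSpace.1 hc
    haveI : QuasiSeparatedSpace (W : Scheme.{u}) := (isQuasiSeparated_iff_quasiSeparatedSpace _ W.2).1 hq
    haveI : CompactSpace ↥(π ⁻¹ᵁ W : P.Opens) := QuasiCompact.compactSpace_of_compactSpace (π ∣_ W)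
    haveI : QuasiSeparatedSpace ↥(π ⁻¹ᵁ W : P.Opens) :=
      quasiSeparatedSpace_of_quasiSeparated (π ∣_ W)
    rw [morphismRestrict_comp]
    exact Groth.Agent.S9708.result _ _
      (hψ.proj (π ⁻¹ᵁ W) (isCompact_iff_compactSpace.2 inferInstance)
        ((isQuasiSeparated_iff_quasiSeparatedSpace _ (π ⁻¹ᵁ W).2).2 inferInstance))
      (hπ.proj W hc hq)
  · intro Y f _ δY hY QY qY g hsq δQY hQY hδQY k α hα β hβ h
    obtain ⟨δM, hM, hδM⟩ := exists_setup (pullback.snd π f) hY
    haveI : LocallyOfFiniteType (pullback.fst π f) := inferInstance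
    let l : QY ⟶ pullback π f := pullback.lift (g ≫ ψ) qY (by rw [Category.assoc]; exact hsq.w)
    have hl1 : l ≫ pullback.fst π f = g ≫ ψ := pullback.lift_fst _ _ _
    have hl2 : l ≫ pullback.snd π f = qY := pullback.lift_snd _ _ _
    have hsq' : IsPullback g l ψ (pullback.fst π f) :=
      IsPullback.of_bot (by rw [hl2]; exact hsq) hl1.symm (IsPullback.of_hasPullback π f)
    haveI : Flat l := MorphismProperty.of_isPullback hsq' inferInstance
    haveI : IsProper l := MorphismProperty.of_isPullback hsq' inferInstance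
    have hrl : Cyc.HasRelDim l e := (S9358.result ψ (pullback.fst π f) g l hsq' e).2.2 hψ.rel
    have hrs : Cyc.HasRelDim (pullback.snd π f) d :=
      (S9358.result π f _ _ (IsPullback.of_hasPullback π f) d).2.2 hπ.rel
    obtain ⟨δl, hδl, hδl'⟩ := exists_setup l hM
    have hl : Cyc.DeltaCompat l δQY δM := by
      have h2 : Cyc.DeltaCompat qY δl δY := hl2 ▸ deltaCompat_comp hδl' hδM
      exact (S6474.deltaCompat_unique hδQY h2).symm ▸ hδl'
    have hc := (S1857.result QY (pullback π f) Y δQY δM δY hQY hM hY l (pullback.snd π f) e d hrl hrs hl hδM k).2 α hα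
    have hcyc : IsCyc δM (k + d) (Cyc.pullFun (pullback.snd π f) δM δY d ⇑α) := by
      haveI := hM.1
      exact ShiftC1.isCyc_pull (pullback.snd π f) hM.2.2 (shiftBy_of_relDim _ hrs hδM) (IsCyc.of_cycle α hα)
    obtain ⟨Φ, hΦk, hΦ⟩ := hcyc.exists_cycle
    refine hπ.inj Y f δY hY _ _ _ (IsPullback.of_hasPullback π f) δM hM hδM k α hα Φ hΦ ?_
    refine hψ.inj _ (pullback.fst π f) δM hM QY l g hsq' δQY hQY hl (k + d) Φ hΦk β ?_ ?_
    · rw [hΦ, hc, hβ]
      simp only [hl2]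
      push_cast
      rfl
    · rwa [show k + ((e + d : ℕ) : ℤ) = k + d + e by push_cast; ring] at h

/-- The identity is a tower. -/
theorem tower_id (X : Scheme.{u}) : Tower (𝟙 X) 0 := by
  refine ⟨inferInstance, inferInstance, ?_, fun W _ _ => ?_, ?_⟩
  · refine hasRelDim_of_trdeg _ fun x _ => ?_
    obtain ⟨n, hn, hn'⟩ := deltaCompat_preimmersion (𝟙 X) (fun _ : X => (0 : ℤ)) x
    rw [hn]
    have : n = 0 := by simpa using hn'.symm
    simp [this]
  · haveI : IsIso (𝟙 X ∣_ W) := inferInstance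
    exact Groth.Agent.S4452.result _
  · intro Y f _ δY hY PY πY g hsq δPY hPY hδ k α _ β hβ h
    haveI : IsIso πY := MorphismProperty.of_isPullback (P := MorphismProperty.isomorphisms Scheme.{u}) hsq
      (inferInstanceAs (IsIso (𝟙 X)))
    have hδE : δPY = fun y => δY (πY y) := S6474.deltaCompat_unique hδ (deltaCompat_preimmersion πY δY)
    have hσ : ∀ y, πY ((inv πY) y) = y := fun y => by
      rw [← Scheme.Hom.comp_apply, IsIso.inv_hom_id]; rfl
    have hδσ : ∀ y, δY y = δPY ((inv πY) y) := fun y => by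
      rw [hδE]; exact congrArg δY (hσ y).symm
    have hs : ShiftBy (inv πY) δY δPY 0 := fun y _ => by rw [add_zero]; exact hδσ y
    have h' := ratEquivZero_pull_shift (inv πY) hY hPY hs h α fun y => by
      rw [S6474.pullFun_of_isOpenImmersion (inv πY) hδσ, hβ, Nat.cast_zero,
        S6474.pullFun_of_isOpenImmersion πY (fun y => congrFun hδE y), hσ]
    simpa using h'

/-- A filtration of the pull-back by invertible modules. -/
def IsSplit {X P : Scheme.{u}} (π : P ⟶ X) (E : X.Modules) (r : ℕ) : Prop :=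
  ∃ (F : Fin (r + 1) → P.Modules) (ι : ∀ i : Fin r, F i.castSucc ⟶ F i.succ),
    IsZero (F 0) ∧ Nonempty (F (Fin.last r) ≅ (Scheme.Modules.pullback π).obj E) ∧
    ∀ i : Fin r, Mono (ι i) ∧ PicF.IsInvertible (cokernel (ι i))

theorem IsSplit.comp {X P Q : Scheme.{u}} {π : P ⟶ X} {E : X.Modules} {r : ℕ} (h : IsSplit π E r) (ψ : Q ⟶ P) :
    IsSplit (ψ ≫ π) E r := by
  obtain ⟨F, ι, h0, ⟨e⟩, hι⟩ := h
  refine ⟨fun i => (Scheme.Modules.pullback ψ).obj (F i), fun i => (Scheme.Modules.pullback ψ).map (ι i),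
    (Scheme.Modules.pullback ψ).map_isZero h0,
    ⟨(Scheme.Modules.pullback ψ).mapIso e ≪≫ (Scheme.Modules.pullbackComp ψ π).app E⟩, fun i => ?_⟩
  haveI := (hι i).1
  exact ⟨EpiLocus.mono_pullback_of_isFinLocFree_cokernel (ι i)
      (ProjForm.isFinLocFree_of_isInvertible (hι i).2) ψ,
    PicCl.isInvertible_of_iso (PreservesCokernel.iso (Scheme.Modules.pullback ψ) (ι i))
      (PicCl.isInvertible_pullback ψ (hι i).2)⟩

/-- Pull-back along a projective bundle is injective. -/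
theorem bundle_inj {Y : Scheme.{u}} {E : Y.Modules} {r : ℕ} [E.IsQuasicoherent]
    (hE : FlatMod.IsFinLocFreeOfRank (r + 1) E) (C : ProjBundleLib.Bundle E) [IsProper C.p]
    {δY : Y → ℤ} (hY : Cyc.IsSetup Y δY) {δC : C.P → ℤ} (hC : Cyc.IsSetup C.P δC)
    (hδ : Cyc.DeltaCompat C.p δC δY) (k : ℤ) (α : AlgebraicCycle Y ℤ) (hα : α ∈ Cyc.Zk Y δY k)
    (Φ : AlgebraicCycle C.P ℤ) (hΦ : ⇑Φ = Cyc.pullFun C.p δC δY r ⇑α)
    (h0 : Cyc.RatEquivZero δC (k + r) Φ) : Cyc.RatEquivZero δY k α := by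
  classical
  haveI := hY.1
  haveI := hC.1
  have hinv := ProjBundleLib.isInvertible_O1 C
  obtain ⟨L⟩ := ProjBdl.exists_cov ‹E.IsQuasicoherent› hE C.hj C.chart C.hP C.hO1 hinv
  choose b hb using fun ξ : C.P => exists_isBas hinv ξ
  let t : Fin (r + 1) → ℕ → (ξ : C.P) → Cyc.secFibre C.O1 ξ := fun _ _ ξ => Submodule.Quotient.mk (b ξ)
  have ht : ∀ a m ξ, t a m ξ ≠ 0 := fun _ _ ξ => mk_ne_zero_of_isBas (hb ξ)
  let o₀ : Fin (r + 1) := ⟨0, by omega⟩
  let αs : Fin (r + 1) → AlgebraicCycle Y ℤ := Function.update (fun _ => 0) o₀ α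
  have hαs : ∀ a : Fin (r + 1), αs a ∈ Cyc.Zk Y δY (k + ((a : ℕ) : ℤ)) := fun a x hx => by
    by_cases h : a = o₀
    · subst h
      simp only [αs, Function.update_self]
      exact hα x (by simpa [o₀] using hx)
    · simp only [αs, Function.update_of_ne h]
      rfl
  have hr1 : (((r + 1 : ℕ) : ℤ) - 1) = (r : ℤ) := by push_cast; ring
  have hsum : ⇑Φ = ∑ a : Fin (r + 1), Cov.iter δC (Cyc.pullFun C.p δC δY (((r + 1 : ℕ) : ℤ) - 1) ⇑(αs a)) (t a) (a : ℕ) := by
    rw [Finset.sum_eq_single o₀ (fun a _ ha => by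
      simp only [αs, Function.update_of_ne ha]
      rw [pullFun_zero, iter_zero]) (fun h => absurd (Finset.mem_univ o₀) h), hΦ, hr1]
    simp only [αs, Function.update_self]
    rfl
  have := L.injective (by omega) hC.2.2 hδ hinv hY hC k αs hαs t ht Φ hsum
    (by rwa [show k + ((r + 1 : ℕ) : ℤ) - 1 = k + r by push_cast; ring]) o₀
  simpa [αs, o₀] using this

/-- One step of the tower. -/
theorem exists_step {X : Scheme.{u}} {δ : X → ℤ} (hX : Cyc.IsSetup X δ) {r : ℕ} {E : X.Modules}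
    (hE : FlatMod.IsFinLocFreeOfRank (r + 1) E) :
    ∃ (P : Scheme.{u}) (p : P ⟶ X) (O1 : P.Modules) (q : (Scheme.Modules.pullback p).obj E ⟶ O1),
      Tower p r ∧ PicF.IsInvertible O1 ∧ Epi q ∧ FlatMod.IsFinLocFreeOfRank r (kernel q) := by
  classical
  haveI := hX.1
  haveI hq : E.IsQuasicoherent :=
    PerfTri.Betti.isQuasicoherent_of_isFinLocFree (FinCov71.isFinLocFree_of_rank hE)
  have hft : CohB1.IsFT E := (PerfTri.Bounded.isCoh_of_isFinLocFree (FinCov71.isFinLocFree_of_rank hE)).2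
  obtain ⟨B⟩ := ProjBundleLib.exists_bundle E
  have hproj := ProjBundleLib.isProjective_bundle hft B
  haveI hp : IsProper B.p := ProjMor.isProper_of_isProjective hproj
  have hinv := ProjBundleLib.isInvertible_O1 B
  obtain ⟨φ, hφ⟩ := VecBdl.exists_toPush (j := B.j) B.hj B.hP B.hO1
  let q : (Scheme.Modules.pullback B.p).obj E ⟶ B.O1 :=
    ((Scheme.Modules.pullbackPushforwardAdjunction B.p).homEquiv _ _).symm φ
  have key : ∀ ζ : X, ∃ (U : X.Opens) (hU : IsAffineOpen U), ζ ∈ U ∧ ∃ T : Charts B.p B.O1 (r + 1) U hU,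
      ∃ e : Fin (r + 1) → Γ(E, U), LFFrame.IsFrame E U e ∧
        ∀ n, q.app (B.p ⁻¹ᵁ U) (LFFrame.unitSec B.p E U (e n)) = T.sec n := by
    intro ζ
    obtain ⟨U, hζ, ⟨ψ⟩⟩ := hE ζ
    let π : Fin (r + 1) → (FlatMod.freeMod (U : Scheme.{u}) (r + 1) ⟶ Coh.structureModule (U : Scheme.{u})) :=
      fun j => Sigma.desc fun i => if i = j then 𝟙 _ else 0
    obtain ⟨e0, he0⟩ := LFFrame.exists_isFrame_of_split (M := E)
      (fun i => Sigma.ι (fun _ : Fin (r + 1) => Coh.structureModule (U : Scheme.{u})) i ≫ ψ.inv)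
      (fun j => ψ.hom ≫ π j) (fun i j => by simp [π]) (by
        rw [← cancel_epi ψ.inv, ← cancel_mono ψ.hom]
        apply Sigma.hom_ext
        intro j
        simp [π, Preadditive.comp_sum, Preadditive.sum_comp, ite_comp])
    obtain ⟨V, hV, hζV, hVU⟩ := exists_isAffineOpen_mem_and_subset (x := ζ) (U := U) hζ
    let e := fun i => Desc44.ProjBundle.rs E hVU (e0 i)
    have he : LFFrame.IsFrame E V e := Desc44.ProjBundle.isFrame_restrict he0 hVU
    have hb : Function.Bijective (LFFrame.comb E e (le_refl V)) := he V le_rfl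
    obtain ⟨T, hT⟩ := exists_charts_spec (j := B.j) B.hj hV hb B.p B.chart B.hP B.hO1 hinv
    refine ⟨V, hV, hζV, T, e, he, fun n => ?_⟩
    refine Eq.trans ?_ ((hφ V hV (e n)).unique B.hO1 ((hT n).1))
    show _ = φ.app V (e n)
    have h := (Adjunction.homEquiv_unit (Scheme.Modules.pullbackPushforwardAdjunction B.p) _ _ q).symm
    rw [Equiv.apply_symm_apply] at h
    exact congr(($h).app V (e n))
  choose U hU hm T e he hqe using key
  let L : Cov B.p B.O1 (r + 1) := ⟨U, hU, hm, T⟩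
  haveI hflat : Flat B.p := by
    let 𝒰 : B.P.OpenCover :=
      { I₀ := Σ _ζ : X, Fin (r + 1)
        X := fun i => Spec (CommRingCat.of (MvPolynomial (Var i.2) Γ(X, U i.1)))
        f := fun i => (T i.1).c i.2
        mem₀ := by
          rw [Scheme.presieve₀_mem_precoverage_iff]
          refine ⟨fun x => ?_, fun i => (T i.1).imm i.2⟩
          obtain ⟨m, hx⟩ := (T (B.p x)).cover x (hm _)
          exact ⟨⟨B.p x, m⟩, hx⟩ }
    rw [IsZariskiLocalAtSource.iff_of_openCover (P := @Flat) 𝒰]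
    intro i
    show Flat ((T i.1).c i.2 ≫ B.p)
    rw [(T i.1).over']
    haveI : Flat (Spec.map (CommRingCat.ofHom
        (MvPolynomial.C : Γ(X, U i.1) →+* MvPolynomial (Var i.2) Γ(X, U i.1)))) := by
      rw [HasRingHomProperty.Spec_iff (P := @Flat)]
      exact RingHom.flat_algebraMap_iff.2 inferInstance
    infer_instance
  obtain ⟨δP, hP, hδP⟩ := exists_setup B.p hX
  haveI := hP.1
  have hs := L.shiftBy hP.2.2 hδP
  have hrel : Cyc.HasRelDim B.p r := hasRelDim_of_trdeg B.p fun x hx => by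
    obtain ⟨n, hn, hn'⟩ := hδP x
    have := hs x hx
    rw [hn]
    have : n = r := by push_cast at *; omega
    rw [this]
  refine ⟨B.P, B.p, B.O1, q, ⟨hp, hflat, hrel, fun W _ _ =>
    ProjBundleLib.isProjective_baseChange hproj (isPullback_morphismRestrict B.p W).flip, ?_⟩, hinv, ?_, ?_⟩
  · intro Y f _ δY hY PY πY g hsq δPY hPY hδPY k α hα β hβ h
    haveI := hY.1
    haveI : ((Scheme.Modules.pullback f).obj E).IsQuasicoherent :=
      PerfTri.Betti.isQuasicoherent_of_isFinLocFree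
        (FinCov71.isFinLocFree_of_rank (ProjBdl.isFinLocFreeOfRank_pullback f hE))
    obtain ⟨C⟩ := ProjBundleLib.exists_bundle ((Scheme.Modules.pullback f).obj E)
    obtain ⟨θ, hθ, -⟩ := ProjBundleLib.exists_baseChange (ψ := f) B C
    let i : C.P ≅ PY := hθ.isoIsPullback _ _ hsq
    have hi : i.hom ≫ πY = C.p := hθ.isoIsPullback_hom_snd _ _ hsq
    haveI : IsProper C.p := MorphismProperty.of_isPullback hθ hp
    obtain ⟨δC, hC, hδC⟩ := exists_setup C.p hY
    have hδi : δC = fun y => δPY (i.hom y) :=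
      S6474.deltaCompat_unique hδC (hi ▸ deltaCompat_comp (deltaCompat_preimmersion i.hom δPY) hδPY)
    have hsC : ShiftBy C.p δC δY (r : ℤ) := shiftBy_of_relDim _
      ((S9358.result B.p f θ C.p hθ r).2.2 hrel) hδC
    haveI := hC.1
    obtain ⟨Φ, hΦk, hΦ⟩ := (ShiftC1.isCyc_pull C.p hC.2.2 hsC (IsCyc.of_cycle α hα)).exists_cycle
    refine bundle_inj (ProjBdl.isFinLocFreeOfRank_pullback f hE) C hY hC hδC k α hα Φ hΦ ?_
    have hsi : ShiftBy i.hom δC δPY 0 := fun y _ => by rw [hδi, add_zero]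
    have hlen : ∀ y, Φ y = β (i.hom y) := fun y => by
      rw [hΦ, hβ]
      show Cyc.pullFun C.p δC δY r (⇑α) y = Cyc.pullFun πY δPY δY r (⇑α) (i.hom y)
      rw [← hi]
      haveI := hPY.1
      haveI : IsProper πY := MorphismProperty.of_isPullback hsq hp
      have hsP : ShiftBy πY δPY δY (r : ℤ) := shiftBy_of_relDim _ ((S9358.result B.p f g πY hsq r).2.2 hrel) hδPY
      haveI : Flat πY := MorphismProperty.of_isPullback hsq hflat
      have := congrFun (pullFun_comp_shifts i.hom πY (δZ := δY) hC.2.2 hPY.2.2 hsi hsP ⇑α) y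
      rw [add_zero] at this
      rw [this, S6474.pullFun_of_isOpenImmersion i.hom (fun y => congrFun hδi y)]
    have h' := ratEquivZero_pull_shift i.hom hC hPY hsi h Φ fun y => by
      rw [S6474.pullFun_of_isOpenImmersion i.hom (fun y => congrFun hδi y), hlen]
    simpa using h'
  · refine epi_of_stalk_surjective q fun x v => ?_
    obtain ⟨m, hx⟩ := (T (B.p x)).cover x (hm _)
    haveI := (T (B.p x)).imm m
    have hxm : x ∈ ((T (B.p x)).c m).opensRange := hx
    obtain ⟨c, hc⟩ := ((T (B.p x)).bas m x hxm).2 v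
    refine ⟨c • germM ((Scheme.Modules.pullback B.p).obj E) (B.p ⁻¹ᵁ U (B.p x)) x (hm (B.p x))
      (LFFrame.unitSec B.p E (U (B.p x)) (e (B.p x) m)), ?_⟩
    rw [map_smul, PullStalk.Exact.stalkLin_germ, hqe (B.p x) m]
    exact hc
  · refine FinCov71.isFinLocFreeOfRank_of_frames fun x => ?_
    obtain ⟨m, hx⟩ := (T (B.p x)).cover x (hm _)
    haveI := (T (B.p x)).imm m
    exact ⟨((T (B.p x)).c m).opensRange, _, hx, (exists_kernel_frame q ((he (B.p x)).pullback B.p) (T (B.p x)) m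
      (hqe (B.p x))).choose_spec⟩

/-- A tower splitting one bundle. -/
theorem exists_split_one : ∀ (r : ℕ) (X : Scheme.{u}) (δ : X → ℤ), Cyc.IsSetup X δ →
    ∀ E : X.Modules, FlatMod.IsFinLocFreeOfRank r E →
    ∃ (Y : Scheme.{u}) (φ : Y ⟶ X) (c : ℕ), Tower φ c ∧ IsSplit φ E r := by
  intro r
  induction r with
  | zero =>
    intro X δ hX E hE
    exact ⟨X, 𝟙 X, 0, tower_id X, fun _ => (Scheme.Modules.pullback (𝟙 X)).obj E, fun i => i.elim0,
      (Scheme.Modules.pullback (𝟙 X)).map_isZero (isZero_of_rank_zero hE), ⟨Iso.refl _⟩, fun i => i.elim0⟩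
  | succ r ih =>
    intro X δ hX E hE
    classical
    obtain ⟨P, p, O1, q, hT, hinv, hepi, hK⟩ := exists_step hX hE
    haveI := hepi
    haveI := hT.proper
    obtain ⟨δP, hP, -⟩ := exists_setup p hX
    obtain ⟨Y, ψ, c, hψ, F, ι, hF0, ⟨eF⟩, hι⟩ := ih P δP hP (kernel q) hK
    refine ⟨Y, ψ ≫ p, c + r, Tower.comp hX hT hψ, ?_⟩
    let a : (Scheme.Modules.pullback ψ).obj (kernel q) ⟶ (Scheme.Modules.pullback ψ).obj ((Scheme.Modules.pullback p).obj E) :=
      (Scheme.Modules.pullback ψ).map (kernel.ι q)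
    let eq : cokernel (kernel.ι q) ≅ O1 :=
      IsColimit.coconePointUniqueUpToIso (cokernelIsCokernel _)
        (Abelian.epiIsCokernelOfKernel _ (kernelIsKernel q))
    have hC : PicF.IsInvertible (cokernel (kernel.ι q)) := PicCl.isInvertible_of_iso eq.symm hinv
    haveI : Mono a := EpiLocus.mono_pullback_of_isFinLocFree_cokernel (kernel.ι q)
      (ProjForm.isFinLocFree_of_isInvertible hC) ψ
    have hCa : PicF.IsInvertible (cokernel a) :=
      PicCl.isInvertible_of_iso (PreservesCokernel.iso (Scheme.Modules.pullback ψ) (kernel.ι q))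
        (PicCl.isInvertible_pullback ψ hC)
    let a' : F (Fin.last r) ⟶ (Scheme.Modules.pullback (ψ ≫ p)).obj E :=
      eF.hom ≫ a ≫ (Scheme.Modules.pullbackComp ψ p).hom.app E
    have ha' : Mono a' ∧ PicF.IsInvertible (cokernel a') :=
      ⟨inferInstance, PicCl.isInvertible_of_iso
        ((cokernelCompIsIso a ((Scheme.Modules.pullbackComp ψ p).hom.app E)).symm ≪≫
          (cokernelEpiComp eF.hom _).symm) hCa⟩
    let G : Fin (r + 1 + 1) → Y.Modules := Fin.snoc F ((Scheme.Modules.pullback (ψ ≫ p)).obj E)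
    have e1 : ∀ i : Fin (r + 1), G i.castSucc = F i := fun i => Fin.snoc_castSucc _ _ _
    have e2 : G (Fin.last (r + 1)) = (Scheme.Modules.pullback (ψ ≫ p)).obj E := Fin.snoc_last _ _
    have key : ∀ i : Fin (r + 1), ∃ f : G i.castSucc ⟶ G i.succ, Mono f ∧ PicF.IsInvertible (cokernel f) := by
      intro i
      induction i using Fin.lastCases with
      | last =>
        have e2' : G (Fin.last r).succ = (Scheme.Modules.pullback (ψ ≫ p)).obj E := by rw [Fin.succ_last]; exact e2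
        refine ⟨eqToHom (e1 _) ≫ a' ≫ eqToHom e2'.symm, ?_, ?_⟩
        · haveI := ha'.1
          infer_instance
        · exact PicCl.isInvertible_of_iso
            ((cokernelCompIsIso a' (eqToHom e2'.symm)).symm ≪≫ (cokernelEpiComp (eqToHom (e1 _)) _).symm) ha'.2
      | cast i =>
        have e3 : G i.castSucc.succ = F i.succ := by rw [Fin.succ_castSucc]; exact e1 _
        refine ⟨eqToHom (e1 _) ≫ ι i ≫ eqToHom e3.symm, ?_, ?_⟩
        · haveI := (hι i).1
          infer_instance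
        · exact PicCl.isInvertible_of_iso
            ((cokernelCompIsIso (ι i) (eqToHom e3.symm)).symm ≪≫ (cokernelEpiComp (eqToHom (e1 _)) _).symm) (hι i).2
    choose f hf using key
    refine ⟨G, f, ?_, ⟨eqToIso e2⟩, hf⟩
    rw [show G 0 = F 0 from e1 0]
    exact hF0

/-- A tower splitting finitely many bundles. -/
theorem exists_split_many : ∀ (m : ℕ) (X : Scheme.{u}) (δ : X → ℤ), Cyc.IsSetup X δ →
    ∀ (E : Fin m → X.Modules) (rk : Fin m → ℕ), (∀ i, FlatMod.IsFinLocFreeOfRank (rk i) (E i)) →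
    ∃ (Y : Scheme.{u}) (φ : Y ⟶ X) (c : ℕ), Tower φ c ∧ ∀ i, IsSplit φ (E i) (rk i) := by
  intro m
  induction m with
  | zero => intro X δ _ E rk _; exact ⟨X, 𝟙 X, 0, tower_id X, fun i => i.elim0⟩
  | succ m ih =>
    intro X δ hX E rk hE
    obtain ⟨P, p, d, hT, hS⟩ := exists_split_one (rk 0) X δ hX (E 0) (hE 0)
    haveI := hT.proper
    obtain ⟨δP, hP, -⟩ := exists_setup p hX
    obtain ⟨Y, ψ, c, hψ, hψS⟩ := ih P δP hP (fun i => (Scheme.Modules.pullback p).obj (E i.succ)) (fun i => rk i.succ)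
      fun i => ProjBdl.isFinLocFreeOfRank_pullback p (hE i.succ)
    refine ⟨Y, ψ ≫ p, c + d, Tower.comp hX hT hψ, fun i => ?_⟩
    cases i using Fin.cases with
    | zero => exact hS.comp ψ
    | succ i =>
      obtain ⟨F, ι, h0, ⟨e⟩, hι⟩ := hψS i
      exact ⟨F, ι, h0, ⟨e ≪≫ (Scheme.Modules.pullbackComp ψ p).app _⟩, hι⟩

end Groth.Agent.IntMult66.SplitTower
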