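import Groth.Agent.EGA41Lib.TorShift
import Groth.Agent.IntMult88.Symm
import Groth.Agent.HTor95.BaseChange

/-!
# Dimension shifting for `Tor` through an acyclic middle term
-/

set_option autoImplicit false
set_option linter.style.haveILetI false

universe u

open CategoryTheory CategoryTheory.Limits MonoidalCategory

namespace Groth.Agent.IntMult66

open DRing.Tensor DRing.KFlat DRing.SingleTensor HTor95.Tor EtMilLib

variable {A : Type u} [CommRing A]

/-- Shifting along `0 → X₁ → X₂ → X₃ → 0` when `Tor_{>0}(N, X₂) = 0`. -/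
theorem shift (N : ModuleCat.{u} A) {S : ShortComplex (ModuleCat.{u} A)} (hS : S.ShortExact)
    (h : ∀ m : ℕ, IsZero (((Tor (ModuleCat.{u} A) (m + 1)).obj N).obj S.X₂)) :
    (∀ n : ℕ, Nonempty (((Tor (ModuleCat.{u} A) (n + 2)).obj N).obj S.X₃ ≅
      ((Tor (ModuleCat.{u} A) (n + 1)).obj N).obj S.X₁)) ∧
    Nonempty (((Tor (ModuleCat.{u} A) 1).obj N).obj S.X₃ ≅ kernel (N ◁ S.f)) := by
  let P := projectiveResolution N
  let K := P.cochainComplex
  let e : ∀ m : ℕ, (Tor (ModuleCat.{u} A) m).obj N ≅ tensorH K (-(m : ℤ)) := fun m =>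
    objIso P m ≪≫ (Functor.associator _ _ _).symm ≪≫
      Functor.isoWhiskerRight (tensorCxFIso K).symm (HomologicalComplex.homologyFunctor _ _ _)
  haveI hflat : ∀ i, Module.Flat A (K.X i) := fun i =>
    haveI : Module.Projective A (P.cochainComplex.X i) :=
      (IsProjective.iff_projective _).2 (inferInstanceAs (Projective (P.cochainComplex.X i)))
    inferInstance
  let T : ShortComplex (_root_.DRing.Cx A) :=
    ShortComplex.mk ((tensorCxF K).map S.f) ((tensorCxF K).map S.g) (by
      refine HomologicalComplex.hom_ext _ _ fun m => ?_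
      change K.X m ◁ S.f ≫ K.X m ◁ S.g = 0
      rw [← MonoidalCategory.whiskerLeft_comp, S.zero, MonoidalPreadditive.whiskerLeft_zero])
  have hT : T.ShortExact := HomologicalComplex.shortExact_of_degreewise_shortExact T fun m => by
    have hinj := Module.Flat.lTensor_preserves_injective_linearMap (M := K.X m) S.f.hom
      hS.moduleCat_injective_f
    refine
      { exact := ?_
        mono_f := (ModuleCat.mono_iff_injective _).2 hinj
        epi_g := (ModuleCat.epi_iff_surjective _).2
          (LinearMap.lTensor_surjective _ hS.moduleCat_surjective_g) }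
    rw [ShortComplex.moduleCat_exact_iff_range_eq_ker]
    exact (LinearMap.exact_iff.mp (lTensor_exact (K.X m)
      ((ShortComplex.ShortExact.moduleCat_exact_iff_function_exact S).mp hS.exact)
      hS.moduleCat_surjective_g)).symm
  have h2 : ∀ m : ℕ, IsZero (HomologicalComplex.homology T.X₂ (-((m + 1 : ℕ) : ℤ))) := fun m =>
    ((e (m + 1)).app S.X₂).isZero_iff.mp (h m)
  refine ⟨fun n => ⟨(e (n + 2)).app S.X₃ ≪≫
    hT.δIso (-((n + 2 : ℕ) : ℤ)) (-((n + 1 : ℕ) : ℤ)) (by simp; omega) (h2 (n + 1)) (h2 n) ≪≫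
    ((e (n + 1)).app S.X₁).symm⟩, ?_⟩
  have hrel : (ComplexShape.up ℤ).Rel (-((1 : ℕ) : ℤ)) (-((0 : ℕ) : ℤ)) := by simp
  haveI : Mono (hT.δ _ _ hrel) :=
    (hT.homology_exact₃ _ _ hrel).mono_g ((h2 0).eq_of_src _ _)
  have hlim : IsLimit (KernelFork.ofι (hT.δ _ _ hrel) (hT.δ_comp _ _ hrel)) :=
    (hT.homology_exact₁ _ _ hrel).fIsKernel
  let F := (tensoringLeft (ModuleCat.{u} A)).obj N
  haveI : PreservesFiniteColimits F := by
    haveI : PreservesColimitsOfSize.{0, 0} F :=
      inferInstanceAs (PreservesColimitsOfSize.{0, 0} (tensorLeft N))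
    exact PreservesColimitsOfSize.preservesFiniteColimits F
  let e0 : F ≅ tensorH K (-((0 : ℕ) : ℤ)) := F.leftDerivedZeroIsoSelf.symm ≪≫ e 0
  exact ⟨(e 1).app S.X₃ ≪≫ hlim.conePointUniqueUpToIso (kernelIsKernel _) ≪≫
    (kernel.mapIso (N ◁ S.f) (HomologicalComplex.homologyMap T.f (-((0 : ℕ) : ℤ)))
      (e0.app S.X₁) (e0.app S.X₂) (e0.hom.naturality S.f)).symm⟩

/-- `Tor` in terms of linear maps: shifting lengths. -/
theorem length_shift (N : Type u) [AddCommGroup N] [Module A N] {X₁ X₂ X₃ : Type u}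
    [AddCommGroup X₁] [Module A X₁] [AddCommGroup X₂] [Module A X₂] [AddCommGroup X₃] [Module A X₃]
    (f : X₁ →ₗ[A] X₂) (g : X₂ →ₗ[A] X₃) (hf : Function.Injective f) (hg : Function.Surjective g)
    (hfg : Function.Exact f g)
    (h : ∀ i : ℕ, 0 < i → Subsingleton (_root_.DRing.Tor A i N X₂)) :
    (∀ n : ℕ, Module.length A (_root_.DRing.Tor A (n + 2) N X₃) =
      Module.length A (_root_.DRing.Tor A (n + 1) N X₁)) ∧
    Module.length A (_root_.DRing.Tor A 1 N X₃) = Module.length A (LinearMap.ker (f.lTensor N)) := by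
  let S : ShortComplex (ModuleCat.{u} A) :=
    ShortComplex.mk (ModuleCat.ofHom f) (ModuleCat.ofHom g)
      (ModuleCat.hom_ext (LinearMap.ext fun x => hfg.apply_apply_eq_zero x))
  have hS : S.ShortExact :=
    { exact := (ShortComplex.ShortExact.moduleCat_exact_iff_function_exact S).mpr hfg
      mono_f := (ModuleCat.mono_iff_injective _).2 hf
      epi_g := (ModuleCat.epi_iff_surjective _).2 hg }
  obtain ⟨h1, ⟨h2⟩⟩ := shift (ModuleCat.of A N) hS fun m => by
    haveI := h (m + 1) (Nat.succ_pos m)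
    exact ModuleCat.isZero_of_subsingleton _
  refine ⟨fun n => (h1 n).some.toLinearEquiv.length_eq, ?_⟩
  exact (h2 ≪≫ ModuleCat.kernelIsoKer _).toLinearEquiv.length_eq

/-- `Tor_0` is the tensor product. -/
theorem length_tor_zero (N M : Type u) [AddCommGroup N] [Module A N] [AddCommGroup M] [Module A M] :
    Module.length A (_root_.DRing.Tor A 0 N M) = Module.length A (TensorProduct A N M) := by
  haveI : PreservesFiniteColimits (tensorLeft (ModuleCat.of A N)) :=
    PreservesColimitsOfSize.preservesFiniteColimits _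
  exact ((tensorLeft (ModuleCat.of A N)).leftDerivedZeroIsoSelf.app
    (ModuleCat.of A M)).toLinearEquiv.length_eq

/-- `Tor_{>0}(N, X)` vanishes for `X` projective. -/
theorem subsingleton_tor_projective (N X : Type u) [AddCommGroup N] [Module A N] [AddCommGroup X]
    [Module A X] [Module.Projective A X] (i : ℕ) (hi : 0 < i) :
    Subsingleton (_root_.DRing.Tor A i N X) := by
  obtain ⟨j, rfl⟩ : ∃ j, i = j + 1 := ⟨i - 1, by omega⟩
  haveI : Projective (ModuleCat.of A X) := (IsProjective.iff_projective X).mp inferInstance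
  exact ModuleCat.subsingleton_of_isZero
    (isZero_Tor_succ_of_projective (ModuleCat.{u} A) (ModuleCat.of A N) (ModuleCat.of A X) j)

/-- Vanishing of `Tor` is symmetric. -/
theorem subsingleton_tor_comm {N X : Type u} [AddCommGroup N] [Module A N] [AddCommGroup X]
    [Module A X] {i : ℕ} (h : Subsingleton (_root_.DRing.Tor A i N X)) :
    Subsingleton (_root_.DRing.Tor A i X N) := by
  rw [← Module.length_eq_zero_iff (R := A), IntMult88.length_tor_comm, Module.length_eq_zero_iff]
  exact h

/-- `Tor_{>0}(N, ·)` vanishes on finite powers of an acyclic module. -/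
theorem subsingleton_tor_pi (N X : Type u) [AddCommGroup N] [Module A N] [AddCommGroup X]
    [Module A X] (i : ℕ) (h : Subsingleton (_root_.DRing.Tor A i N X)) (m : ℕ) :
    Subsingleton (_root_.DRing.Tor A i N (Fin m → X)) := by
  classical
  let F := (CategoryTheory.Tor (ModuleCat.{u} A) i).obj (ModuleCat.of A N)
  haveI : F.Additive := EtMilLib.additive_tor _ i
  have hz : IsZero (F.obj (ModuleCat.of A X)) := by
    haveI := h
    exact ModuleCat.isZero_of_subsingleton _
  have hid : 𝟙 (ModuleCat.of A (Fin m → X)) = ∑ j, ModuleCat.ofHom (LinearMap.proj j) ≫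
      ModuleCat.ofHom (LinearMap.single A (fun _ : Fin m => X) j) := by
    refine ModuleCat.hom_ext (LinearMap.ext fun v => ?_)
    simp [ModuleCat.hom_sum, Finset.univ_sum_single]
  refine ModuleCat.subsingleton_of_isZero ((IsZero.iff_id_eq_zero (F.obj _)).2 ?_)
  rw [← F.map_id, hid, Functor.map_sum]
  refine Finset.sum_eq_zero fun j _ => ?_
  rw [Functor.map_comp]
  exact (congrArg (· ≫ _) (hz.eq_of_tgt _ 0)).trans zero_comp

end Groth.Agent.IntMult66
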