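import Groth.Agent.EulerSeq.Hom
import Groth.Agent.ProjTwist.Zero
import Mathlib.LinearAlgebra.Eigenspace.Triangularizable
import Mathlib.FieldTheory.IsAlgClosed.AlgebraicClosure

/-!
# A global vector field on `P^n` vanishes somewhere
-/

set_option autoImplicit false
set_option backward.isDefEq.respectTransparency false
set_option backward.isDefEq.respectTransparency.types false
set_option maxHeartbeats 1000000

universe u

open CategoryTheory Limits AlgebraicGeometry TopologicalSpace Opposite MvPolynomial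

noncomputable section

namespace Groth.Agent.IntMult66.VecField

open Twist Groth.Agent.ProjTwist Groth.Agent.EulerSeq OmegaSh

variable {k : Type u} [Field k] {n : ℕ}

theorem aeval_smul_homogeneous {K : Type u} [CommRing K] [Algebra k K] (v : Fin (n + 1) → K) {d : ℕ}
    {f : MvPolynomial (Fin (n + 1)) k} (hf : f.IsHomogeneous d) :
    aeval (fun l => Polynomial.C (v l) * Polynomial.X) f = Polynomial.C (aeval v f) * Polynomial.X ^ d := by
  classical
  conv_lhs => rw [f.as_sum]
  conv_rhs => rw [f.as_sum]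
  simp only [map_sum, Finset.sum_mul]
  refine Finset.sum_congr rfl fun m hm => ?_
  have hd : m.sum (fun _ e => e) = d := by
    have := hf (mem_support_iff.mp hm)
    simpa [Finsupp.weight_apply] using this
  rw [aeval_monomial, aeval_monomial, map_mul, ← hd, Finsupp.prod, Finsupp.prod, Finsupp.sum, map_prod,
    ← Finset.prod_pow_eq_pow_sum, mul_assoc, ← Finset.prod_mul_distrib]
  rw [Polynomial.algebraMap_apply]
  congr 1
  exact Finset.prod_congr rfl fun i _ => by rw [mul_pow, map_pow]

/-- An eigen-point of a linear map. -/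
theorem exists_point (M : Fin (n + 1) → Fin (n + 1) → k) :
    ∃ x : ProjectiveSpectrum (CohB1.polyGrading n k), ∀ i j,
      (X i * (∑ m, C (M j m) * X m) - X j * (∑ m, C (M i m) * X m) : MvPolynomial (Fin (n + 1)) k) ∈
        x.asHomogeneousIdeal.toIdeal := by
  classical
  let K := AlgebraicClosure k
  let A : (Fin (n + 1) → K) →ₗ[K] (Fin (n + 1) → K) :=
    LinearMap.pi fun j => ∑ m, algebraMap k K (M j m) • LinearMap.proj m
  obtain ⟨c, hc⟩ := Module.End.exists_eigenvalue A
  obtain ⟨v, hv, hv0⟩ := hc.exists_hasEigenvector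
  rw [Module.End.mem_eigenspace_iff] at hv
  have hA : ∀ j, ∑ m, algebraMap k K (M j m) * v m = c * v j := fun j => by
    have := congrFun hv j
    simpa [A, LinearMap.sum_apply, Algebra.smul_def] using this
  let φ : MvPolynomial (Fin (n + 1)) k →ₐ[k] Polynomial K := aeval fun l => Polynomial.C (v l) * Polynomial.X
  let I : Ideal (MvPolynomial (Fin (n + 1)) k) := RingHom.ker φ.toRingHom
  have hI : I.IsHomogeneous (CohB1.polyGrading n k) := by
    intro d f hf
    have hd : (DirectSum.decompose (CohB1.polyGrading n k) f d : MvPolynomial (Fin (n + 1)) k) =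
        homogeneousComponent d f := MvPolynomial.decomposition.decompose'_apply _ _
    rw [hd]
    have h0 : φ f = 0 := hf
    rw [← f.sum_homogeneousComponent, map_sum] at h0
    have hφ : ∀ e, φ (homogeneousComponent e f) = Polynomial.C (aeval v (homogeneousComponent e f)) * Polynomial.X ^ e :=
      fun e => aeval_smul_homogeneous v (homogeneousComponent_isHomogeneous e f)
    show φ (homogeneousComponent d f) = 0
    simp only [hφ] at h0 ⊢
    by_cases hdm : d ∈ Finset.range (f.totalDegree + 1)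
    · have := congrArg (fun q => Polynomial.coeff q d) h0
      simp only [Polynomial.finsetSum_coeff, Polynomial.coeff_C_mul, Polynomial.coeff_X_pow, mul_ite, mul_one,
        mul_zero, Polynomial.coeff_zero] at this
      rw [Finset.sum_ite_eq, if_pos hdm] at this
      rw [this, map_zero, zero_mul]
    · rw [homogeneousComponent_eq_zero d f (by simpa using hdm), map_zero, map_zero, zero_mul]
  have hp : I.IsPrime := RingHom.ker_isPrime φ.toRingHom
  obtain ⟨l₀, hl₀⟩ : ∃ l, v l ≠ 0 := Function.ne_iff.1 hv0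
  let J : HomogeneousIdeal (CohB1.polyGrading n k) := ⟨I, hI⟩
  have hrel : ¬ HomogeneousIdeal.irrelevant (CohB1.polyGrading n k) ≤ J := fun hle => by
    have hX : (X l₀ : MvPolynomial (Fin (n + 1)) k) ∈ HomogeneousIdeal.irrelevant (CohB1.polyGrading n k) := by
      rw [HomogeneousIdeal.mem_irrelevant_iff, GradedRing.proj_apply,
        DirectSum.decompose_of_mem_ne (CohB1.polyGrading n k) (X_mem_polyGrading n k l₀) one_ne_zero]
    have h0 : φ (X l₀) = 0 := hle hX
    simp [φ, hl₀] at h0
  refine ⟨⟨J, hp, hrel⟩, fun i j => ?_⟩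
  show φ _ = 0
  simp only [map_sub, map_mul, map_sum, φ, aeval_X, aeval_C]
  have : ∀ l, (∑ m, algebraMap k (Polynomial K) (M l m) * (Polynomial.C (v m) * Polynomial.X)) =
      Polynomial.C (c * v l) * Polynomial.X := fun l => by
    rw [← hA l, map_sum, Finset.sum_mul]
    exact Finset.sum_congr rfl fun m _ => by rw [Polynomial.algebraMap_apply, map_mul, mul_assoc]
  rw [this, this, map_mul, map_mul]
  ring

theorem isUnit_valAt {U : (CohB1.ProjSpace n k).Opens} (f : Γ(CohB1.ProjSpace n k, U))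
    (x : ProjectiveSpectrum (CohB1.polyGrading n k)) (hx : x ∈ U)
    (h : IsUnit ((CohB1.ProjSpace n k).presheaf.germ U x hx f)) : IsUnit (valAt f x hx) := by
  let W := (CohB1.ProjSpace n k).toLocallyRingedSpace.toRingedSpace.basicOpen f
  have hxW : x ∈ (CohB1.ProjSpace n k).basicOpen f := ((CohB1.ProjSpace n k).mem_basicOpen f x hx).2 h
  have hu := RingedSpace.isUnit_res_basicOpen (CohB1.ProjSpace n k).toLocallyRingedSpace.toRingedSpace f
  obtain ⟨d, hd⟩ := hu.exists_right_inv
  have h1 := congrArg (fun z => valAt (U := (CohB1.ProjSpace n k).basicOpen f) z x hxW) hd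
  refine IsUnit.of_mul_eq_one (valAt (U := (CohB1.ProjSpace n k).basicOpen f) d x hxW) ?_
  exact ((congrArg (· * valAt (U := (CohB1.ProjSpace n k).basicOpen f) d x hxW)
    (valAt_res ((CohB1.ProjSpace n k).basicOpen_le f) f x hxW).symm).trans
    (valAt_mul _ _ x hxW).symm).trans (h1.trans (valAt_one x hxW))

theorem evN_oneHom {U : (CohB1.ProjSpace n k).Opens} (f : Γ(Coh.structureModule (CohB1.ProjSpace n k), U))
    (x : ProjectiveSpectrum (CohB1.polyGrading n k)) (hx : x ∈ U) :
    evN x hx ((twistZeroIso (CohB1.polyGrading n k)).hom.app U f) = valAt (fnSect (CohB1.ProjSpace n k) U f) x hx := by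
  refine (evN_smul (d := 0) (fnSect (CohB1.ProjSpace n k) U f) (oneSec (CohB1.polyGrading n k) (op U)) x hx).trans ?_
  exact (congrArg (_ * ·) (oneSec_coe (CohB1.polyGrading n k) (op U) ⟨x, hx⟩)).trans (mul_one _)

theorem exists_zero (ξ : Omega.sheaf (CohB1.ProjSpace.toSpec n k) ⟶ Coh.structureModule (CohB1.ProjSpace n k)) :
    ∃ x : ↥(CohB1.ProjSpace n k), ∀ (U : (CohB1.ProjSpace n k).Opens) (hx : x ∈ U)
      (s : Γ(Omega.sheaf (CohB1.ProjSpace.toSpec n k), U)),
      (CohB1.ProjSpace n k).presheaf.germ U x hx (fnSect (CohB1.ProjSpace n k) U (ξ.app U s)) ∈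
        IsLocalRing.maximalIdeal ((CohB1.ProjSpace n k).presheaf.stalk x) := by
  classical
  letI : (CohB1.ProjSpace n k).Over (Spec (CommRingCat.of k)) := ⟨CohB1.ProjSpace.toSpec n k⟩
  have : HasExt.{u} (CohB1.ProjSpace n k).Modules := Groth.Agent.ModShf.schemeModulesHasExt _
  let ψ : KK n k ⟶ Twist.twistProjSpace n k 0 :=
    (omegaIsoKK n k).inv ≫ ξ ≫ (twistZeroIso (CohB1.polyGrading n k)).hom
  have hsub : Subsingleton (Abelian.Ext (eulerCx n k).X₃ (Twist.twistProjSpace n k 0) 1) :=
    SerrePn.subsingleton_ext_twist 0 0 1 (Pn.subsingleton_twist _ 0 (Or.inr (by omega)))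
  obtain ⟨e, he⟩ := Abelian.Ext.contravariant_sequence_exact₁ (shortExact_eulerCx n k) _
    (Abelian.Ext.mk₀ ψ) (show 1 + 0 = 1 from rfl) (Subsingleton.elim _ _)
  obtain ⟨χ, rfl⟩ := (Abelian.Ext.mk₀_bijective _ _).2 e
  rw [Abelian.Ext.mk₀_comp_mk₀] at he
  have hχ : kernel.ι (eulerMap n k) ≫ χ = ψ := (Abelian.Ext.mk₀_bijective _ _).1 he
  choose p hp hpe using fun l : Fin (n + 1) => SerrePn.exists_mulHom_eq
    (Sigma.ι (fun _ : Fin (n + 1) => Twist.twistProjSpace n k (-1)) l ≫ χ) (show ((1 : ℕ) : ℤ) + -1 = 0 by norm_num)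
  have hlin : ∀ l, ∃ c : Fin (n + 1) → k, p l = ∑ m, C (c m) * X m := fun l => by
    have h := hp l
    rw [CohB1.polyGrading, homogeneousSubmodule_one_eq_span_X, Submodule.mem_span_range_iff_exists_fun] at h
    obtain ⟨c, hc⟩ := h
    exact ⟨c, by simp only [← hc, MvPolynomial.smul_eq_C_mul]⟩
  choose M hM using hlin
  obtain ⟨x, hx0⟩ := exists_point M
  refine ⟨x, fun U hx s => ?_⟩
  rw [IsLocalRing.mem_maximalIdeal, mem_nonunits_iff]
  intro hu
  have h1 := isUnit_valAt _ x hx hu
  rw [← evN_oneHom] at h1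
  obtain ⟨z, rfl⟩ : ∃ z, (omegaIsoKK n k).inv.app U z = s :=
    ⟨(omegaIsoKK n k).hom.app U s, congr(($((omegaIsoKK n k).hom_inv_id)).app U s)⟩
  have h2 : evN x hx (ψ.app U z) = ∑ l, algebraMap _ (Loc (CohB1.polyGrading n k) x) (p l) * cpt l x hx z := by
    rw [← hχ]
    have hd : χ = ∑ l, prE n k l ≫ SerrePn.mulHom (-1) 0 (hp l) (by norm_num) := by
      conv_lhs => rw [← Category.id_comp χ, ← sum_prE n k, Preadditive.sum_comp]
      exact Finset.sum_congr rfl fun l _ => by rw [Category.assoc, hpe l]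
    rw [hd, Preadditive.comp_sum]
    let ev : (KK n k ⟶ Twist.twistProjSpace n k 0) →+ Loc (CohB1.polyGrading n k) x :=
      AddMonoidHom.mk' (fun φ => evN x hx (φ.app U z)) fun φ ψ => map_add (evN x hx) (φ.app U z) (ψ.app U z)
    refine (map_sum ev _ Finset.univ).trans (Finset.sum_congr rfl fun l _ => ?_)
    exact evN_mulHom (hp l) (show ((1 : ℕ) : ℤ) + -1 = 0 by norm_num) _ x hx
  rw [show evN x hx ((twistZeroIso (CohB1.polyGrading n k)).hom.app U (ξ.app U ((omegaIsoKK n k).inv.app U z))) =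
    evN x hx (ψ.app U z) from rfl, h2] at h1
  obtain ⟨i, hi⟩ := Opens.mem_iSup.1 ((iSup_stdOpen n k).ge (Set.mem_univ x))
  replace hi : (X i : MvPolynomial (Fin (n + 1)) k) ∉ x.asHomogeneousIdeal := hi
  let L := Loc (CohB1.polyGrading n k) x
  haveI := x.isPrime
  let am := algebraMap (MvPolynomial (Fin (n + 1)) k) L
  let P := x.asHomogeneousIdeal.toIdeal.map am
  have hPu : ∀ a ∈ P, ¬ IsUnit a := fun a ha hau => by
    exact mem_nonunits_iff.1 ((IsLocalRing.mem_maximalIdeal _).1
      ((IsLocalization.AtPrime.map_eq_maximalIdeal x.asHomogeneousIdeal.toIdeal L).le ha)) hau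
  refine hPu _ ?_ h1
  have hXu : IsUnit (am (X i)) := IsLocalization.map_units L (⟨X i, hi⟩ : x.asHomogeneousIdeal.toIdeal.primeCompl)
  refine (Ideal.unit_mul_mem_iff_mem _ hXu).1 ?_
  have h3 : am (X i) * ∑ l, am (p l) * cpt l x hx z =
      ∑ l, am (X i * p l - X l * p i) * cpt l x hx z +
        am (p i) * ∑ l, am (X l) * cpt l x hx z := by
    rw [Finset.mul_sum, Finset.mul_sum, ← Finset.sum_add_distrib]
    exact Finset.sum_congr rfl fun l _ => by rw [map_sub, map_mul, map_mul]; ring
  rw [h3, sum_X_mul_cpt, mul_zero, add_zero]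
  refine Ideal.sum_mem _ fun l _ => Ideal.mul_mem_right _ _ (Ideal.mem_map_of_mem _ ?_)
  rw [hM l, hM i]
  exact hx0 i l

end Groth.Agent.IntMult66.VecField
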